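import Cfsg.Agent.OddHalf.NI3.Ex4.Local
import Cfsg.Agent.OddHalf.NI3.Bad.StepOneG
import Cfsg.Agent.OddHalf.NI.Ex.Descend
import Cfsg.Agent.Intrinsic.FunctorFrame
import Cfsg.Agent.Lib.SubnormalJoin
import Cfsg.Agent.SignalizersComponents.BalanceLocal
import Cfsg.Agent.OddHalf.CaseM.Sign
import Cfsg.Agent.OddHalf.NI3.SubSL

-- merged: Cfsg.Agent.OddHalf.NI3.Ex4.Act
section

/-!
# (EX4) of THEOREM NIB: the configuration `Cfg4` of a component

`Loc z w l L J C` : `L` quasisimple with centre a 2-group, `J ≅ SL₂(3)` subnormal in `C`, `O₂(J) ≤ L`, `w` commutes with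
`J` and acts on `L` as `l ∈ L`. `Loc.false`: contradiction with `Row4 (L / Z(L))`.
-/

set_option autoImplicit false
set_option linter.style.haveILetI false

namespace Cfsg.Agent.OddHalf.NI3.Ex4

open Subgroup Cfsg Cfsg.Agent.SignalizersComponents
open Cfsg.Agent.OddHalf.NI.Ex (bar bar_mk bar_mul bar_one eq_one_of_bar)

universe u

/-! ### General lemmas -/

/-- central quotients by 2-groups keep `O = 1` -/
theorem core_of_central {M Γ : Type*} [Group M] [Group Γ] [Finite M] (f : M →* Γ) (hf : Function.Surjective f)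
    (hk : f.ker ≤ center M) (h2 : IsPGroup 2 ↥f.ker) (hO : pPrimeCore 2 M = ⊥) : pPrimeCore 2 Γ = ⊥ := by
  haveI : Fact (Nat.Prime 2) := ⟨Nat.prime_two⟩
  haveI : Finite Γ := Finite.of_surjective f hf
  haveI hOn : (pPrimeCore 2 Γ).Normal := Lib.Cores.pPrimeCore_normal 2
  set P : Subgroup M := (pPrimeCore 2 Γ).comap f with hP
  haveI hPn : P.Normal := hOn.comap f
  let g : ↥P →* ↥(pPrimeCore 2 Γ) := f.subgroupComap (pPrimeCore 2 Γ)
  have hg : Function.Surjective g := by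
    rintro ⟨y, hy⟩
    obtain ⟨x, rfl⟩ := hf y
    exact ⟨⟨x, hy⟩, rfl⟩
  have hgk : ∀ x : ↥P, x ∈ g.ker → (x : M) ∈ f.ker := by
    intro x hx
    exact congrArg Subtype.val hx
  have hcard2 : ∃ n, Nat.card ↥g.ker = 2 ^ n := by
    have h3 : IsPGroup 2 ↥g.ker := by
      rintro ⟨x, hx⟩
      obtain ⟨n, hn⟩ := h2 ⟨x, hgk x hx⟩
      refine ⟨n, Subtype.ext (Subtype.ext ?_)⟩
      simpa using congrArg Subtype.val hn
    exact IsPGroup.iff_card.1 h3
  obtain ⟨n, hn⟩ := hcard2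
  have hidx : g.ker.index = Nat.card ↥(pPrimeCore 2 Γ) := by
    rw [index_ker, MonoidHom.range_eq_top.2 hg, card_top]
  have hodd : (Nat.card ↥(pPrimeCore 2 Γ)).Coprime 2 := Lib.Cores.pPrimeCore_coprime 2
  obtain ⟨H, hH⟩ := exists_right_complement'_of_coprime (N := g.ker) (by
    rw [hn, hidx]; exact (hodd.pow_right n).symm)
  have hHc : Nat.card ↥H = Nat.card ↥(pPrimeCore 2 Γ) := by
    have h3 := hH.card_mul_card
    have h4 := g.ker.card_mul_index
    rw [hidx] at h4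
    exact Nat.eq_of_mul_eq_mul_left Nat.card_pos (h3.trans h4.symm)
  -- the elements of `P` with trivial `|H|`-th power are in `H`
  have hmem : ∀ x : ↥P, x ^ Nat.card ↥H = 1 → x ∈ H := by
    intro x hx
    obtain ⟨⟨⟨k, hk'⟩, ⟨y, hy⟩⟩, hxy⟩ := hH.surjective x
    simp only at hxy
    have hc : Commute k y := by
      show k * y = y * k
      exact Subtype.ext (mem_center_iff.1 (hk (hgk k hk')) y).symm
    have h3 : k ^ Nat.card ↥H = 1 := by
      rw [← hxy, hc.mul_pow] at hx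
      have h4 : y ^ Nat.card ↥H = 1 := by
        exact Subtype.ext_iff.1 (pow_card_eq_one' (x := (⟨y, hy⟩ : H)))
      rwa [h4, mul_one] at hx
    have h4 : orderOf k ∣ Nat.card ↥H := orderOf_dvd_of_pow_eq_one h3
    have h5 : orderOf k ∣ 2 ^ n := by
      rw [← hn]
      have h6 := _root_.orderOf_dvd_natCard (⟨k, hk'⟩ : g.ker)
      rwa [Subgroup.orderOf_mk] at h6
    have h6 : orderOf k ∣ 1 := by
      have h7 := Nat.dvd_gcd h4 h5
      rw [hHc] at h7
      rwa [(hodd.pow_right n)] at h7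
    have h7 : k = 1 := orderOf_eq_one_iff.1 (Nat.dvd_one.1 h6)
    rw [← hxy, h7, one_mul]; exact hy
  have hKn : (H.map P.subtype).Normal := by
    refine ⟨?_⟩
    rintro _ ⟨x, hx, rfl⟩ m
    have h3 : m * (x : M) * m⁻¹ ∈ P := hPn.conj_mem x x.2 m
    refine ⟨⟨m * (x : M) * m⁻¹, h3⟩, hmem _ (Subtype.ext ?_), rfl⟩
    have h4 : x ^ Nat.card ↥H = 1 := by
      exact Subtype.ext_iff.1 (pow_card_eq_one' (x := (⟨x, hx⟩ : H)))
    have h5 : (x : M) ^ Nat.card ↥H = 1 := by simpa using congrArg Subtype.val h4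
    show (m * (x : M) * m⁻¹) ^ Nat.card ↥H = 1
    rw [conj_pow, h5, mul_one, mul_inv_cancel]
  have h3 : H.map P.subtype ≤ pPrimeCore 2 M := by
    refine Lib.Cores.le_pPrimeCore hKn ?_
    rw [Nat.card_congr (H.equivMapOfInjective P.subtype P.subtype_injective).symm.toEquiv, hHc]
    exact hodd
  rw [hO, le_bot_iff, Subgroup.map_eq_bot_iff_of_injective _ P.subtype_injective] at h3
  rw [h3, Subgroup.card_bot] at hHc
  exact (Subgroup.card_eq_one).1 hHc.symm

/-- normal subgroups with a quotient 2-group -/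
theorem core_of_two {Γ : Type*} [Group Γ] [Finite Γ] {N : Subgroup Γ} (hn : N.Normal)
    (hN : pPrimeCore 2 ↥N = ⊥) (h : ∀ g : Γ, ∃ n, g ^ 2 ^ n ∈ N) : pPrimeCore 2 Γ = ⊥ := by
  have h1 : pPrimeCore 2 Γ ≤ N := by
    intro o ho
    obtain ⟨n, hn⟩ := h o
    have h2 : (orderOf o).Coprime (2 ^ n) := by
      have h3 : (Nat.card ↥(pPrimeCore 2 Γ)).Coprime 2 := Lib.Cores.pPrimeCore_coprime 2
      have h4 := _root_.orderOf_dvd_natCard (⟨o, ho⟩ : pPrimeCore 2 Γ)
      rw [Subgroup.orderOf_mk] at h4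
      exact (Nat.Coprime.coprime_dvd_left h4 h3).pow_right n
    obtain ⟨m, hm⟩ := exists_pow_eq_self_of_coprime h2.symm
    rw [← hm]
    exact pow_mem hn m
  have h2 := Lib.Cores.map_subtype_pPrimeCore (G := Γ) 2 hn
  rw [hN, Subgroup.map_bot, inf_eq_right.2 h1] at h2
  exact h2.symm

/-! ### The action on `L / Z(L)` -/

section

variable {G : Type u} [Group G] (L : Subgroup G)

/-- the action of `N(L)` on `L / Z(L)` -/
noncomputable def act : ↥(normalizer (L : Set G)) →* MulAut (↥L ⧸ center ↥L) where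
  toFun g := bar (L.normalizerMonoidHom g)
  map_one' := by rw [map_one, bar_one]
  map_mul' g h := by rw [map_mul, bar_mul]

variable {L}

theorem act_mk (g : ↥(normalizer (L : Set G))) (x : L) :
    act L g (x : ↥L ⧸ center ↥L) = ((L.normalizerMonoidHom g x : L) : ↥L ⧸ center ↥L) := rfl

theorem coe_nmh (g : ↥(normalizer (L : Set G))) (x : L) : ((L.normalizerMonoidHom g x : L) : G) = g * x * (g : G)⁻¹ := rfl

/-- equality in `L / Z(L)` -/
theorem mk_eq_iff {x y : L} : (x : ↥L ⧸ center ↥L) = y ↔ ∀ k ∈ L, (x : G) * k * (x : G)⁻¹ = y * k * (y : G)⁻¹ := by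
  rw [QuotientGroup.eq, mem_center_iff]
  constructor
  · intro h k hk
    have h1 : k * ((x : G)⁻¹ * y) = (x : G)⁻¹ * y * k := congrArg Subtype.val (h ⟨k, hk⟩)
    calc (x : G) * k * (x : G)⁻¹ = x * (k * ((x : G)⁻¹ * y)) * (y : G)⁻¹ := by group
      _ = y * k * (y : G)⁻¹ := by rw [h1]; group
  · intro h k
    apply Subtype.ext
    show (k : G) * ((x : G)⁻¹ * y) = (x : G)⁻¹ * y * k
    have h1 := h k k.2
    calc (k : G) * ((x : G)⁻¹ * y) = (x : G)⁻¹ * (x * k * (x : G)⁻¹) * y := by group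
      _ = (x : G)⁻¹ * y * k := by rw [h1]; group

theorem act_of_mem {x : G} (hx : x ∈ L) (hn : x ∈ normalizer (L : Set G)) :
    act L ⟨x, hn⟩ = MulAut.conj ((⟨x, hx⟩ : L) : ↥L ⧸ center ↥L) := by
  ext y
  obtain ⟨y, rfl⟩ := QuotientGroup.mk_surjective y
  rw [act_mk, MulAut.conj_apply, ← QuotientGroup.mk_inv, ← QuotientGroup.mk_mul, ← QuotientGroup.mk_mul]
  rfl

theorem act_of_comm {x : G} (hn : x ∈ normalizer (L : Set G)) (hx : ∀ k ∈ L, x * k * x⁻¹ = k) :
    act L ⟨x, hn⟩ = 1 := by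
  ext y
  obtain ⟨y, rfl⟩ := QuotientGroup.mk_surjective y
  rw [act_mk, MulAut.one_apply]
  congr 1
  exact Subtype.ext (hx y y.2)

theorem comm_of_act (hp : commutator ↥L = ⊤) {g : ↥(normalizer (L : Set G))} (h : act L g = 1) :
    ∀ k ∈ L, (g : G) * k * (g : G)⁻¹ = k := by
  intro k hk
  have h1 := eq_one_of_bar hp (show bar (L.normalizerMonoidHom g) = 1 from h)
  have h2 := DFunLike.congr_fun h1 ⟨k, hk⟩
  exact congrArg Subtype.val h2

/-- the image in `L / Z(L)` of a subgroup of `L` -/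
def img (L K : Subgroup G) : Subgroup (↥L ⧸ center ↥L) := (K.subgroupOf L).map (QuotientGroup.mk' (center ↥L))

theorem mem_img {K : Subgroup G} {x : ↥L ⧸ center ↥L} : x ∈ img L K ↔ ∃ y : L, (y : G) ∈ K ∧ (y : ↥L ⧸ center ↥L) = x :=
  Iff.rfl

theorem map_act {K : Subgroup G} (hK : K ≤ L) :
    (K.subgroupOf (normalizer (L : Set G))).map (act L) =
      (img L K).map (MulAut.conj : (↥L ⧸ center ↥L) →* MulAut (↥L ⧸ center ↥L)) := by
  ext g
  constructor
  · rintro ⟨⟨y, hyn⟩, hy, rfl⟩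
    exact ⟨_, ⟨⟨y, hK hy⟩, hy, rfl⟩, (act_of_mem (hK hy) hyn).symm⟩
  · rintro ⟨_, ⟨⟨y, hyL⟩, hy, rfl⟩, rfl⟩
    exact ⟨⟨y, le_normalizer hyL⟩, hy, act_of_mem hyL (le_normalizer hyL)⟩

theorem map_act_zpowers {d : G} (hd : d ∈ normalizer (L : Set G)) :
    ((zpowers d).subgroupOf (normalizer (L : Set G))).map (act L) = zpowers (act L ⟨d, hd⟩) := by
  ext g
  constructor
  · rintro ⟨⟨y, hyn⟩, ⟨k, hk⟩, rfl⟩
    refine ⟨k, ?_⟩
    show act L ⟨d, hd⟩ ^ k = act L ⟨y, hyn⟩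
    rw [← map_zpow]
    congr 1
    exact Subtype.ext hk
  · rintro ⟨k, rfl⟩
    refine ⟨⟨d, hd⟩ ^ k, ⟨k, rfl⟩, ?_⟩
    show act L (⟨d, hd⟩ ^ k) = act L ⟨d, hd⟩ ^ k
    rw [map_zpow]

/-- the image of `K⟨d⟩` -/
theorem map_act_Jb {K : Subgroup G} (hK : K ≤ L) {d : G} (hd : d ∈ normalizer (L : Set G)) :
    ((K ⊔ zpowers d).subgroupOf (normalizer (L : Set G))).map (act L) = Jb (act L ⟨d, hd⟩) (img L K) := by
  rw [subgroupOf_sup (hK.trans le_normalizer) ((zpowers_le).2 hd), Subgroup.map_sup, map_act hK, map_act_zpowers hd]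
  rfl

end

end Cfsg.Agent.OddHalf.NI3.Ex4

end

-- merged: Cfsg.Agent.OddHalf.NI3.Ex4.Loc
section

/-!
# (EX4) of THEOREM NIB: `Row4 (L / Z(L))` kills the local configuration

`Loc z w l L J C`, `Loc.false`.
-/

set_option autoImplicit false
set_option linter.style.haveILetI false

namespace Cfsg.Agent.OddHalf.NI3.Ex4

open Subgroup Cfsg Cfsg.Agent.SignalizersComponents
open Cfsg.Agent.Cit (cj)
open scoped Pointwise

universe u

/-- `L` quasisimple with centre a 2-group, `J ≅ SL₂(3)` subnormal in `C`, `O₂(J) ≤ L`, `w` commutes with `J` and acts on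
`L` as `l ∈ L`. -/
structure Loc {G : Type u} [Group G] (z w l : G) (L J C : Subgroup G) : Prop where
  qs : IsQuasisimple ↥L
  Z2 : IsPGroup 2 ↥(center ↥L)
  pr : IsPr J z
  sJ : Sn J C
  sL : Sn (L ⊓ centralizer ({w} : Set G)) C
  hO : pPrimeCore 2 ↥C = ⊥
  JL : J ≤ normalizer (L : Set G)
  Jw : J ≤ centralizer ({w} : Set G)
  Q : ∀ y ∈ J, y * y = z → y ∈ L
  zL : ∀ x ∈ L, x * z = z * x
  lL : l ∈ L
  wl : ∀ x ∈ L, w * x * w⁻¹ = l * x * l⁻¹
  ll : ∀ x ∈ L, l * l * x = x * (l * l)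
  ln : ∃ x ∈ L, l * x ≠ x * l
  dZ : ∀ v ∈ J, v * v * v = 1 → ∀ ζ ∈ L, (∀ x ∈ L, x * ζ = ζ * x) → v * ζ = ζ * v

namespace Loc

variable {G : Type u} [Group G] {z w l i j d : G} {L J C : Subgroup G}

theorem lw (h : Loc z w l L J C) : l * w = w * l := by
  have h1 := h.wl l h.lL
  rw [mul_inv_eq_iff_eq_mul] at h1
  rw [h1]; group

/-- `x ∈ L` commutes with `w` iff it commutes with `l` -/
theorem comm_iff (h : Loc z w l L J C) {x : G} (hx : x ∈ L) : x * w = w * x ↔ x * l = l * x := by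
  have h1 := h.wl x hx
  constructor
  · intro h2
    rw [← h2, mul_inv_cancel_right, eq_comm, mul_inv_eq_iff_eq_mul] at h1
    exact h1.symm
  · intro h2
    rw [← h2, mul_inv_cancel_right, mul_inv_eq_iff_eq_mul] at h1
    exact h1.symm

theorem nL (h : Loc z w l L J C) {g : G} (hg : g ∈ J) {x : G} (hx : x ∈ L) : g * x * g⁻¹ ∈ L :=
  (mem_normalizer_iff.1 (h.JL hg) x).1 hx

theorem jw (h : Loc z w l L J C) {g : G} (hg : g ∈ J) : g * w = w * g :=
  mem_centralizer_singleton_iff.1 (h.Jw hg)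

theorem iL (h : Loc z w l L J C) (hs : Cit.SLThree.Sl J z i j d) : i ∈ L := h.Q i hs.hi hs.q.i2
theorem jL (h : Loc z w l L J C) (hs : Cit.SLThree.Sl J z i j d) : j ∈ L := h.Q j hs.hj hs.q.j2

/-- `C_L(w)` -/
abbrev C0 (w : G) (L : Subgroup G) : Subgroup G := L ⊓ centralizer ({w} : Set G)

theorem mem_C0 {x : G} : x ∈ C0 w L ↔ x ∈ L ∧ x * w = w * x := by
  rw [mem_inf, mem_centralizer_singleton_iff]

theorem i0 (h : Loc z w l L J C) (hs : Cit.SLThree.Sl J z i j d) : i ∈ C0 w L := mem_C0.2 ⟨h.iL hs, h.jw hs.hi⟩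
theorem j0 (h : Loc z w l L J C) (hs : Cit.SLThree.Sl J z i j d) : j ∈ C0 w L := mem_C0.2 ⟨h.jL hs, h.jw hs.hj⟩

/-- `d` normalises `C_L(w)` -/
theorem dn (h : Loc z w l L J C) {g : G} (hg : g ∈ J) {x : G} (hx : x ∈ C0 w L) : g * x * g⁻¹ ∈ C0 w L := by
  rw [mem_C0] at hx ⊢
  refine ⟨h.nL hg hx.1, ?_⟩
  have h1 := h.jw hg
  have h2 : g⁻¹ * w = w * g⁻¹ := ((show Commute g w from h1).inv_left).eq
  calc g * x * g⁻¹ * w = g * (x * w) * g⁻¹ := by rw [mul_assoc _ g⁻¹, h2]; group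
    _ = (g * w) * x * g⁻¹ := by rw [hx.2]; group
    _ = w * (g * x * g⁻¹) := by rw [h1]; group

/-- `M = C_L(w) J = C_L(w)⟨d⟩` -/
theorem M_eq (h : Loc z w l L J C) (hs : Cit.SLThree.Sl J z i j d) : C0 w L ⊔ J = C0 w L ⊔ zpowers d := by
  refine le_antisymm (sup_le le_sup_left ?_) (sup_le le_sup_left ((zpowers_le.2 hs.hd).trans le_sup_right))
  rw [hs.gen, closure_le]
  rintro x (rfl | rfl)
  · exact mem_sup_left (h.i0 hs)
  · exact mem_sup_right (mem_zpowers _)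

theorem M_le (h : Loc z w l L J C) : C0 w L ⊔ J ≤ normalizer (L : Set G) :=
  sup_le (inf_le_left.trans le_normalizer) h.JL

/-- the elements of `M` -/
theorem exists_of_mem (h : Loc z w l L J C) (hs : Cit.SLThree.Sl J z i j d) {m : G} (hm : m ∈ C0 w L ⊔ J) :
    ∃ c ∈ C0 w L, m = c ∨ m = c * d ∨ m = c * (d * d) := by
  have d3 : d * d * d = 1 := hs.d3
  have di : d⁻¹ = d * d := inv_eq_of_mul_eq_one_right (by rw [← mul_assoc]; exact d3)
  have hd := hs.hd
  have hn : ∀ x ∈ C0 w L, d * x * d⁻¹ ∈ C0 w L := fun x hx => h.dn hd hx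
  have hn' : ∀ x ∈ C0 w L, (d * d) * x * (d * d)⁻¹ ∈ C0 w L := fun x hx => h.dn (mul_mem hd hd) hx
  rw [h.M_eq hs, show C0 w L ⊔ zpowers d = closure ((C0 w L : Set G) ∪ {d}) by
    rw [Subgroup.closure_union, Subgroup.closure_eq, zpowers_eq_closure]] at hm
  induction hm using closure_induction with
  | mem x hx =>
    rcases hx with hx | hx
    · exact ⟨x, hx, Or.inl rfl⟩
    · rw [Set.mem_singleton_iff] at hx
      exact ⟨1, one_mem _, Or.inr (Or.inl (by rw [hx, one_mul]))⟩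
  | one => exact ⟨1, one_mem _, Or.inl rfl⟩
  | mul x y _ _ h1 h2 =>
    obtain ⟨c, hc, hx⟩ := h1
    obtain ⟨c', hc', hy⟩ := h2
    have e1 : d * c' = (d * c' * d⁻¹) * d := by rw [inv_mul_cancel_right]
    have e2 : (d * d) * c' = ((d * d) * c' * (d * d)⁻¹) * (d * d) := by rw [inv_mul_cancel_right]
    have e4 : (d * d) * (d * d) = d := by
      calc (d * d) * (d * d) = (d * d * d) * d := by rw [mul_assoc, mul_assoc, mul_assoc]
        _ = d := by rw [d3, one_mul]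
    rcases hx with hx | hx | hx <;> rcases hy with hy | hy | hy
    · exact ⟨_, mul_mem hc hc', Or.inl (by rw [hx, hy])⟩
    · exact ⟨_, mul_mem hc hc', Or.inr (Or.inl (by rw [hx, hy, mul_assoc]))⟩
    · exact ⟨_, mul_mem hc hc', Or.inr (Or.inr (by rw [hx, hy, mul_assoc c]))⟩
    · refine ⟨_, mul_mem hc (hn c' hc'), Or.inr (Or.inl ?_)⟩
      rw [hx, hy]
      calc c * d * c' = c * (d * c') := by rw [mul_assoc]
        _ = c * ((d * c' * d⁻¹) * d) := by rw [← e1]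
        _ = c * (d * c' * d⁻¹) * d := by simp only [mul_assoc]
    · refine ⟨_, mul_mem hc (hn c' hc'), Or.inr (Or.inr ?_)⟩
      rw [hx, hy]
      calc c * d * (c' * d) = c * (d * c') * d := by simp only [mul_assoc]
        _ = c * ((d * c' * d⁻¹) * d) * d := by rw [← e1]
        _ = c * (d * c' * d⁻¹) * (d * d) := by simp only [mul_assoc]
    · refine ⟨_, mul_mem hc (hn c' hc'), Or.inl ?_⟩
      rw [hx, hy]
      calc c * d * (c' * (d * d)) = c * (d * c') * (d * d) := by simp only [mul_assoc]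
        _ = c * ((d * c' * d⁻¹) * d) * (d * d) := by rw [← e1]
        _ = c * (d * c' * d⁻¹) * (d * d * d) := by simp only [mul_assoc]
        _ = c * (d * c' * d⁻¹) := by rw [d3, mul_one]
    · refine ⟨_, mul_mem hc (hn' c' hc'), Or.inr (Or.inr ?_)⟩
      rw [hx, hy]
      calc c * (d * d) * c' = c * ((d * d) * c') := by rw [mul_assoc]
        _ = c * (((d * d) * c' * (d * d)⁻¹) * (d * d)) := by rw [← e2]
        _ = c * ((d * d) * c' * (d * d)⁻¹) * (d * d) := by rw [mul_assoc c]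
    · refine ⟨_, mul_mem hc (hn' c' hc'), Or.inl ?_⟩
      rw [hx, hy]
      calc c * (d * d) * (c' * d) = c * ((d * d) * c') * d := by simp only [mul_assoc]
        _ = c * (((d * d) * c' * (d * d)⁻¹) * (d * d)) * d := by rw [← e2]
        _ = c * ((d * d) * c' * (d * d)⁻¹) * (d * d * d) := by simp only [mul_assoc]
        _ = c * ((d * d) * c' * (d * d)⁻¹) := by rw [d3, mul_one]
    · refine ⟨_, mul_mem hc (hn' c' hc'), Or.inr (Or.inl ?_)⟩
      rw [hx, hy]
      calc c * (d * d) * (c' * (d * d)) = c * ((d * d) * c') * (d * d) := by simp only [mul_assoc]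
        _ = c * (((d * d) * c' * (d * d)⁻¹) * (d * d)) * (d * d) := by rw [← e2]
        _ = c * ((d * d) * c' * (d * d)⁻¹) * ((d * d) * (d * d)) := by simp only [mul_assoc]
        _ = c * ((d * d) * c' * (d * d)⁻¹) * d := by rw [e4]
  | inv x _ h1 =>
    obtain ⟨c, hc, hx⟩ := h1
    rcases hx with rfl | rfl | rfl
    · exact ⟨_, inv_mem hc, Or.inl rfl⟩
    · refine ⟨_, hn' c⁻¹ (inv_mem hc), Or.inr (Or.inr ?_)⟩
      rw [mul_inv_rev, di]; group
    · refine ⟨_, hn c⁻¹ (inv_mem hc), Or.inr (Or.inl ?_)⟩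
      calc (c * (d * d))⁻¹ = (d * d)⁻¹ * c⁻¹ := by group
        _ = (d * d * d) * (d * d)⁻¹ * c⁻¹ := by rw [d3, one_mul]
        _ = d * c⁻¹ * d⁻¹ * d := by group

/-- the elements of `M` which centralise `L` are central in `M` -/
theorem central (h : Loc z w l L J C) (hs : Cit.SLThree.Sl J z i j d) {m : G} (hm : m ∈ C0 w L ⊔ J)
    (hmL : ∀ x ∈ L, m * x * m⁻¹ = x) : ∀ y ∈ C0 w L ⊔ J, m * y = y * m := by
  have hmL' : ∀ x ∈ L, m * x = x * m := fun x hx => by
    have := hmL x hx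
    rwa [mul_inv_eq_iff_eq_mul] at this
  have hmd : m * d = d * m := by
    obtain ⟨c, hc, h1⟩ := h.exists_of_mem hs hm
    have hcm : Commute m c := hmL' c hc.1
    rcases h1 with h1 | h1 | h1
    · rw [h1]
      refine (h.dZ d hs.hd hs.d3 c hc.1 fun x hx => ?_).symm
      rw [← h1, hmL' x hx]
    · have h2 : d = c⁻¹ * m := by rw [h1]; group
      have h3 : Commute m (c⁻¹ * m) := hcm.inv_right.mul_right (Commute.refl m)
      rw [← h2] at h3
      exact h3
    · have h2 : d * d = c⁻¹ * m := by rw [h1]; group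
      have h3 : Commute m (c⁻¹ * m) := hcm.inv_right.mul_right (Commute.refl m)
      rw [← h2] at h3
      have h4 : d = (d * d) * (d * d) := by
        calc d = (d * d * d) * d := by rw [hs.d3, one_mul]
          _ = (d * d) * (d * d) := by group
      have h5 := h3.mul_right h3
      rw [← h4] at h5
      exact h5
  have h1 : C0 w L ⊔ J ≤ centralizer ({m} : Set G) := by
    rw [h.M_eq hs]
    refine sup_le ?_ ?_
    · intro x hx
      rw [mem_centralizer_singleton_iff]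
      exact (hmL' x hx.1).symm
    · rw [zpowers_le, mem_centralizer_singleton_iff]
      exact hmd.symm
  intro y hy
  exact (mem_centralizer_singleton_iff.1 (h1 hy)).symm

variable [Finite G]

theorem sM (h : Loc z w l L J C) : Sn (C0 w L ⊔ J) C := by
  refine ⟨sup_le h.sL.1 h.sJ.1, ?_⟩
  rw [subgroupOf_sup h.sL.1 h.sJ.1]
  exact Lib.SubnormalJoin.isSubnormal_sup h.sL.2 h.sJ.2

theorem core_M (h : Loc z w l L J C) : pPrimeCore 2 ↥(C0 w L ⊔ J) = ⊥ := by
  have h1 := CompBasic.map_subtype_pPrimeCore_of_subnormal 2 h.sM.2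
  rw [h.hO, inf_bot_eq, Subgroup.map_eq_bot_iff_of_injective _ (subtype_injective _)] at h1
  have h2 := Lib.Cores.map_equiv_pPrimeCore (subgroupOfEquivOfLe h.sM.1) 2
  rw [h1, Subgroup.map_bot] at h2
  exact h2.symm

/-- `O(φ(M)) = 1` -/
theorem core_img (h : Loc z w l L J C) (hs : Cit.SLThree.Sl J z i j d) :
    pPrimeCore 2 ↥(Jb (act L ⟨d, h.JL hs.hd⟩) (img L (C0 w L))) = ⊥ := by
  haveI : Fact (Nat.Prime 2) := ⟨Nat.prime_two⟩
  rw [← map_act_Jb (inf_le_left : C0 w L ≤ L) (h.JL hs.hd), ← h.M_eq hs]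
  have e := subgroupOfEquivOfLe h.M_le
  have hOM : pPrimeCore 2 ↥((C0 w L ⊔ J).subgroupOf (normalizer (L : Set G))) = ⊥ := by
    have h2 := Lib.Cores.map_equiv_pPrimeCore e.symm 2
    rw [h.core_M, Subgroup.map_bot] at h2
    exact h2.symm
  have hker : ∀ x : ↥((C0 w L ⊔ J).subgroupOf (normalizer (L : Set G))),
      x ∈ ((act L).subgroupMap ((C0 w L ⊔ J).subgroupOf (normalizer (L : Set G)))).ker → x ∈ center _ := by
    intro x hx
    have h1 : act L (x : ↥(normalizer (L : Set G))) = 1 := congrArg Subtype.val hx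
    have h2 := comm_of_act h.qs.1.commutator_eq_top h1
    rw [mem_center_iff]
    intro y
    apply Subtype.ext
    apply Subtype.ext
    exact (h.central hs x.2 h2 y y.2).symm
  refine core_of_central _ ((act L).subgroupMap_surjective _) hker ?_ hOM
  rintro ⟨x, hx⟩
  have hxc := hker x hx
  obtain ⟨n, m, hm, hnm⟩ := Nat.exists_eq_two_pow_mul_odd (n := orderOf x) (orderOf_pos x).ne'
  refine ⟨n, ?_⟩
  have h1 : x ^ 2 ^ n ∈ pPrimeCore 2 ↥((C0 w L ⊔ J).subgroupOf (normalizer (L : Set G))) := by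
    refine Cfsg.Agent.SignalizersComponents.BalanceLocal.mem_pPrimeCore_of_central (x ^ 2 ^ n) m ?_ ?_ ?_
    · exact (Nat.coprime_two_right.2 hm)
    · rw [← pow_mul, ← hnm, pow_orderOf_eq_one]
      exact one_mem _
    · intro c
      have h2 : c * x ^ 2 ^ n = x ^ 2 ^ n * c := mem_center_iff.1 (pow_mem hxc _) c
      rw [h2, mul_inv_cancel_right, mul_inv_cancel]
      exact one_mem _
  rw [hOM, mem_bot] at h1
  exact Subtype.ext h1

/-! ### The configuration in `X` -/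

omit [Finite G] in
theorem wbar_comm {h : Loc z w l L J C} {y : L}
    (hy : (y : ↥L ⧸ center ↥L) * ((⟨l, h.lL⟩ : L) : ↥L ⧸ center ↥L) = ((⟨l, h.lL⟩ : L) : ↥L ⧸ center ↥L) * y) :
    ∃ ζ ∈ L, (∀ x ∈ L, x * ζ = ζ * x) ∧ w * y * w⁻¹ = ζ * y := by
  have h1 : ((⟨l, h.lL⟩ * y * ⟨l, h.lL⟩⁻¹ : L) : ↥L ⧸ center ↥L) = y := by
    rw [QuotientGroup.mk_mul, QuotientGroup.mk_mul, QuotientGroup.mk_inv, ← hy, mul_inv_cancel_right]
  rw [mk_eq_iff] at h1
  have h2 : w * y * w⁻¹ = l * y * l⁻¹ := h.wl y y.2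
  have hl : l * (y : G) * l⁻¹ ∈ L := mul_mem (mul_mem h.lL y.2) (inv_mem h.lL)
  refine ⟨l * y * l⁻¹ * (y : G)⁻¹, mul_mem hl (inv_mem y.2), ?_, by rw [h2]; group⟩
  intro x hx
  have h3 : (l * y * l⁻¹) * ((y : G)⁻¹ * x * y) * (l * y * l⁻¹)⁻¹ = y * ((y : G)⁻¹ * x * y) * (y : G)⁻¹ :=
    h1 _ (mul_mem (mul_mem (inv_mem y.2) hx) y.2)
  calc x * (l * y * l⁻¹ * (y : G)⁻¹) = (y * ((y : G)⁻¹ * x * y) * (y : G)⁻¹) * (l * y * l⁻¹ * (y : G)⁻¹) := by group
    _ = (l * y * l⁻¹) * ((y : G)⁻¹ * x * y) * (l * y * l⁻¹)⁻¹ * (l * y * l⁻¹ * (y : G)⁻¹) := by rw [h3]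
    _ = l * y * l⁻¹ * (y : G)⁻¹ * x := by group

/-- **`Row4 (L / Z(L))` excludes the configuration.** -/
theorem false (h : Loc z w l L J C) (hR : Row4 (↥L ⧸ center ↥L)) : False := by
  haveI : Fact (Nat.Prime 2) := ⟨Nat.prime_two⟩
  obtain ⟨i, j, d, hs⟩ := h.pr.sl
  have hi := h.iL hs
  have hj := h.jL hs
  have hdn : d ∈ normalizer (L : Set G) := h.JL hs.hd
  set β := act L ⟨d, hdn⟩ with hβ
  set π : ↥L →* ↥L ⧸ center ↥L := QuotientGroup.mk' (center ↥L) with hπ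
  set W : ↥L ⧸ center ↥L := π ⟨l, h.lL⟩ with hW
  have hβmk : ∀ x : L, β (π x) = π ⟨d * x * d⁻¹, h.nL hs.hd x.2⟩ := fun x => rfl
  have hmk : ∀ {x y : L}, π x = π y ↔ ∀ k ∈ L, (x : G) * k * (x : G)⁻¹ = y * k * (y : G)⁻¹ := fun {x y} => mk_eq_iff
  have b3 : β * β * β = 1 := by
    rw [hβ, ← map_mul, ← map_mul, ← map_one (act L)]
    congr 1
    exact Subtype.ext hs.d3
  have hz1 : π ⟨z, h.Q i hs.hi hs.q.i2 |> fun hi => by rw [← hs.q.i2]; exact mul_mem hi hi⟩ = 1 := by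
    rw [← map_one π, hmk]
    intro k hk
    show z * k * z⁻¹ = 1 * k * 1⁻¹
    rw [← h.zL k hk]; group
  have hii : π ⟨i, hi⟩ * π ⟨i, hi⟩ = 1 := by
    rw [← map_mul, ← hz1]; congr 1; exact Subtype.ext hs.q.i2
  have hjj : π ⟨j, hj⟩ * π ⟨j, hj⟩ = 1 := by
    rw [← map_mul, ← hz1]; congr 1; exact Subtype.ext hs.q.j2
  have hzij : (⟨j, hj⟩ * ⟨i, hi⟩ : L) = ⟨z, by rw [← hs.q.i2]; exact mul_mem hi hi⟩ * (⟨i, hi⟩ * ⟨j, hj⟩) :=
    Subtype.ext hs.q.ji
  have hij : π ⟨i, hi⟩ * π ⟨j, hj⟩ = π ⟨j, hj⟩ * π ⟨i, hi⟩ := by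
    rw [← map_mul π ⟨j, hj⟩, hzij, map_mul, hz1, one_mul, map_mul]
  -- `i` and `j` do not commute
  have hnc : i * j ≠ j * i := fun h1 => hs.q.not_comm h1
  have hne1 : ∀ x : L, (∃ k ∈ L, (x : G) * k ≠ k * x) → π x ≠ 1 := by
    rintro x ⟨k, hk, hxk⟩ h1
    rw [← map_one π, hmk] at h1
    apply hxk
    have h2 := h1 k hk
    rw [show ((1 : L) : G) = 1 from rfl, one_mul, inv_one, mul_one, mul_inv_eq_iff_eq_mul] at h2
    exact h2
  have hi1 : π ⟨i, hi⟩ ≠ 1 := hne1 _ ⟨j, hj, hnc⟩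
  have hj1 : π ⟨j, hj⟩ ≠ 1 := hne1 _ ⟨i, hi, fun h1 => hnc h1.symm⟩
  have hijne : π ⟨i, hi⟩ ≠ π ⟨j, hj⟩ := by
    intro h1
    rw [hmk] at h1
    have h2 : i * j * i⁻¹ = j * j * j⁻¹ := h1 j hj
    apply hnc
    rw [mul_inv_eq_iff_eq_mul] at h2
    rw [h2]; group
  set A : Subgroup (↥L ⧸ center ↥L) := closure {π ⟨i, hi⟩, π ⟨j, hj⟩} with hA
  have memA : ∀ x, x ∈ A ↔ x = 1 ∨ x = π ⟨i, hi⟩ ∨ x = π ⟨j, hj⟩ ∨ x = π ⟨i, hi⟩ * π ⟨j, hj⟩ := by
    intro x
    rw [hA]
    exact Intrinsic.FunctorFrame.mem_four hii hjj hij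
  have hiA : π ⟨i, hi⟩ ∈ A := subset_closure (by simp)
  have hjA : π ⟨j, hj⟩ ∈ A := subset_closure (by simp)
  have hβi : β (π ⟨i, hi⟩) = π ⟨j, hj⟩ := by
    rw [hβmk]; congr 1; exact Subtype.ext hs.di
  have hβj : β (π ⟨j, hj⟩) = π ⟨i, hi⟩ * π ⟨j, hj⟩ := by
    rw [hβmk, ← map_mul]; congr 1; exact Subtype.ext hs.dj
  have ww : W * W = 1 := by
    rw [hW, ← map_mul, ← map_one π, hmk]
    intro k hk
    show l * l * k * (l * l)⁻¹ = 1 * k * 1⁻¹
    rw [h.ll k hk]; group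
  have bw : β W = W := by
    rw [hW, hβmk, hmk]
    intro k hk
    have h1 : d⁻¹ * k * d ∈ L := by
      have := h.nL (inv_mem hs.hd) hk
      rwa [inv_inv] at this
    have h2 := h.wl _ h1
    have h3 := h.jw hs.hd
    have h4 := h.wl k hk
    show (d * l * d⁻¹) * k * (d * l * d⁻¹)⁻¹ = l * k * l⁻¹
    calc (d * l * d⁻¹) * k * (d * l * d⁻¹)⁻¹ = d * (l * (d⁻¹ * k * d) * l⁻¹) * d⁻¹ := by group
      _ = (d * w) * (d⁻¹ * k * d) * (d * w)⁻¹ := by rw [← h2]; group
      _ = w * k * w⁻¹ := by rw [h3]; group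
      _ = l * k * l⁻¹ := h4
  -- `C_L(w)` commutes with `l`
  have hC0W : img L (C0 w L) ≤ centralizer ({W} : Set (↥L ⧸ center ↥L)) := by
    rintro _ ⟨y, hy, rfl⟩
    rw [mem_centralizer_singleton_iff]
    show π y * π ⟨l, h.lL⟩ = π ⟨l, h.lL⟩ * π y
    rw [← map_mul, ← map_mul]
    congr 1
    exact Subtype.ext ((h.comm_iff y.2).1 (mem_C0.1 hy).2)
  have hA0 : A ≤ img L (C0 w L) := by
    rw [hA, closure_le]
    rintro x (rfl | rfl)
    · exact ⟨⟨i, hi⟩, h.i0 hs, rfl⟩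
    · exact ⟨⟨j, hj⟩, h.j0 hs, rfl⟩
  -- `φ(J) = A⟨β⟩`
  have hAimg : A = img L (closure {i, j}) := by
    have h1 : (closure {i, j} : Subgroup G) = (closure {(⟨i, hi⟩ : L), ⟨j, hj⟩}).map L.subtype := by
      rw [MonoidHom.map_closure, Set.image_pair]; rfl
    rw [img, h1, ← comap_subtype, comap_map_eq_self_of_injective L.subtype_injective, MonoidHom.map_closure,
      Set.image_pair, hA]
  have hJeq : J = closure {i, j} ⊔ zpowers d := by
    refine le_antisymm ?_ (sup_le hs.Qle (zpowers_le.2 hs.hd))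
    conv_lhs => rw [hs.gen]
    rw [closure_le]
    rintro x (rfl | rfl)
    · exact mem_sup_left (subset_closure (by simp))
    · exact mem_sup_right (mem_zpowers _)
  have hQL : (closure {i, j} : Subgroup G) ≤ L := by
    rw [closure_le]
    rintro x (rfl | rfl)
    · exact hi
    · exact hj
  have hJimg : (J.subgroupOf (normalizer (L : Set G))).map (act L) = Jb β A := by
    rw [hAimg, hβ, ← map_act_Jb hQL hdn, ← hJeq]
  have hMimg : ((C0 w L ⊔ J).subgroupOf (normalizer (L : Set G))).map (act L) = Jb β (img L (C0 w L)) := by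
    rw [h.M_eq hs, map_act_Jb (inf_le_left : C0 w L ≤ L) hdn]
  have sn1 : Sn (Jb β A) (Jb β (img L (C0 w L))) := by
    rw [← hJimg, ← hMimg]
    exact ((h.sJ.restrict h.sM.1 le_sup_right).comap (normalizer (L : Set G)).subtype).map (act L)
  -- `φ(M) ⊴ Γ`
  have hle : Jb β (img L (C0 w L)) ≤ Jb β (centralizer ({W} : Set (↥L ⧸ center ↥L))) :=
    sup_le_sup_right (map_mono hC0W) _
  have hβ0 : β ∈ Jb β (img L (C0 w L)) := mem_sup_right (mem_zpowers β)
  have hc0 : ∀ x ∈ img L (C0 w L), MulAut.conj x ∈ Jb β (img L (C0 w L)) :=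
    fun x hx => mem_sup_left ⟨x, hx, rfl⟩
  haveI : Finite (MulAut (↥L ⧸ center ↥L)) := inferInstance
  have hcn : ∀ c ∈ centralizer ({W} : Set (↥L ⧸ center ↥L)),
      MulAut.conj c ∈ normalizer (Jb β (img L (C0 w L)) : Set (MulAut (↥L ⧸ center ↥L))) := by
    intro c hc
    obtain ⟨y, rfl⟩ := QuotientGroup.mk'_surjective (center ↥L) c
    rw [mem_centralizer_singleton_iff] at hc
    obtain ⟨ζ, hζL, hζ, hwy⟩ := wbar_comm (h := h) (y := y) hc
    -- conjugates of `C_L(w)`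
    have key1 : ∀ x ∈ img L (C0 w L), π y * x * (π y)⁻¹ ∈ img L (C0 w L) := by
      rintro _ ⟨x, hx, rfl⟩
      refine ⟨y * x * y⁻¹, ?_, by rw [map_mul, map_mul, map_inv]⟩
      show (y : G) * x * (y : G)⁻¹ ∈ C0 w L
      have hx' := mem_C0.1 (show (x : G) ∈ C0 w L from hx)
      have hyx : (y : G) * x * (y : G)⁻¹ ∈ L := mul_mem (mul_mem y.2 x.2) (inv_mem y.2)
      refine mem_C0.2 ⟨hyx, ?_⟩
      have h1 : w * ((y : G) * x * (y : G)⁻¹) * w⁻¹ = (y : G) * x * (y : G)⁻¹ := by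
        calc w * ((y : G) * x * (y : G)⁻¹) * w⁻¹ = (w * y * w⁻¹) * (w * x * w⁻¹) * (w * y * w⁻¹)⁻¹ := by group
          _ = ζ * y * x * (ζ * y)⁻¹ := by rw [hwy, ← hx'.2, mul_inv_cancel_right]
          _ = (ζ * ((y : G) * x * (y : G)⁻¹)) * ζ⁻¹ := by group
          _ = (y : G) * x * (y : G)⁻¹ := by rw [← hζ _ hyx]; group
      rw [mul_inv_eq_iff_eq_mul] at h1
      exact h1.symm
    have key2 : π y * (β (π y))⁻¹ ∈ img L (C0 w L) := by
      refine ⟨y * ⟨d * y * d⁻¹, h.nL hs.hd y.2⟩⁻¹, ?_, by rw [map_mul, map_inv, hβmk]⟩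
      show (y : G) * (d * y * d⁻¹)⁻¹ ∈ C0 w L
      have hdy := h.nL hs.hd y.2
      have hyd : (y : G) * (d * y * d⁻¹)⁻¹ ∈ L := mul_mem y.2 (inv_mem hdy)
      refine mem_C0.2 ⟨hyd, ?_⟩
      have hdw := h.jw hs.hd
      have hdζ : d * ζ = ζ * d := h.dZ d hs.hd hs.d3 ζ hζL hζ
      have h1 : w * (d * y * d⁻¹) * w⁻¹ = ζ * (d * y * d⁻¹) := by
        calc w * (d * y * d⁻¹) * w⁻¹ = (w * d) * y * (w * d)⁻¹ := by group
          _ = d * (w * y * w⁻¹) * d⁻¹ := by rw [← hdw]; group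
          _ = (d * ζ) * y * d⁻¹ := by rw [hwy]; group
          _ = ζ * (d * y * d⁻¹) := by rw [hdζ]; group
      have h2 : w * ((y : G) * (d * y * d⁻¹)⁻¹) * w⁻¹ = (y : G) * (d * y * d⁻¹)⁻¹ := by
        calc w * ((y : G) * (d * y * d⁻¹)⁻¹) * w⁻¹ = (w * y * w⁻¹) * (w * (d * y * d⁻¹) * w⁻¹)⁻¹ := by group
          _ = ζ * ((y : G) * (d * y * d⁻¹)⁻¹) * ζ⁻¹ := by rw [hwy, h1]; group
          _ = (y : G) * (d * y * d⁻¹)⁻¹ := by rw [← hζ _ hyd]; group
      rw [mul_inv_eq_iff_eq_mul] at h2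
      exact h2.symm
    have hcomap : Jb β (img L (C0 w L)) ≤
        (Jb β (img L (C0 w L))).comap (MulAut.conj (MulAut.conj (π y))).toMonoidHom := by
      refine sup_le ?_ ?_
      · rintro _ ⟨x, hx, rfl⟩
        show MulAut.conj (π y) * MulAut.conj x * (MulAut.conj (π y))⁻¹ ∈ Jb β (img L (C0 w L))
        rw [← map_inv, ← map_mul, ← map_mul]
        exact hc0 _ (key1 x hx)
      · rw [zpowers_le]
        show MulAut.conj (π y) * β * (MulAut.conj (π y))⁻¹ ∈ Jb β (img L (C0 w L))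
        have e1 : MulAut.conj (π y) * β * (MulAut.conj (π y))⁻¹ = MulAut.conj (π y * (β (π y))⁻¹) * β := by
          rw [← map_inv, mul_assoc, mul_conj', map_mul, map_inv, ← mul_assoc, map_inv]
        rw [e1]
        exact mul_mem (hc0 _ key2) hβ0
    exact normalizer_of_forall fun x hx => hcomap hx
  have hnorm : Jb β (centralizer ({W} : Set (↥L ⧸ center ↥L))) ≤
      normalizer (Jb β (img L (C0 w L)) : Set (MulAut (↥L ⧸ center ↥L))) := by
    refine sup_le ?_ ?_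
    · rintro _ ⟨c, hc, rfl⟩
      exact hcn c hc
    · rw [zpowers_le]; exact le_normalizer hβ0
  have sn2 : Sn (Jb β (img L (C0 w L))) (Jb β (centralizer ({W} : Set (↥L ⧸ center ↥L)))) := Sn.of_normal hle hnorm
  -- `O(Γ) = 1`
  have hcore : pPrimeCore 2 ↥(Jb β (centralizer ({W} : Set (↥L ⧸ center ↥L)))) = ⊥ := by
    have hN : ((Jb β (img L (C0 w L))).subgroupOf (Jb β (centralizer ({W} : Set (↥L ⧸ center ↥L))))).Normal :=
      (normal_subgroupOf_iff_le_normalizer hle).2 hnorm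
    refine core_of_two hN ?_ ?_
    · have h2 := Lib.Cores.map_equiv_pPrimeCore (subgroupOfEquivOfLe hle).symm 2
      rw [h.core_img hs, Subgroup.map_bot] at h2
      exact h2.symm
    · -- the squares
      have hpow : ∀ c ∈ centralizer ({W} : Set (↥L ⧸ center ↥L)), ∃ n, MulAut.conj c ^ 2 ^ n ∈ Jb β (img L (C0 w L)) := by
        intro c hc
        obtain ⟨y, rfl⟩ := QuotientGroup.mk'_surjective (center ↥L) c
        rw [mem_centralizer_singleton_iff] at hc
        obtain ⟨ζ, hζL, hζ, hwy⟩ := wbar_comm (h := h) (y := y) hc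
        obtain ⟨n, hn⟩ := h.Z2 ⟨⟨ζ, hζL⟩, mem_center_iff.2 fun x => Subtype.ext (hζ x x.2)⟩
        have hn' : ζ ^ 2 ^ n = 1 := by
          have := congrArg Subtype.val (congrArg Subtype.val hn)
          simpa using this
        refine ⟨n, ?_⟩
        rw [← map_pow, ← map_pow]
        refine hc0 _ ⟨y ^ 2 ^ n, ?_, rfl⟩
        show (y : G) ^ 2 ^ n ∈ C0 w L
        refine mem_C0.2 ⟨pow_mem y.2 _, ?_⟩
        have hcomm : Commute ζ (y : G) := (hζ y y.2).symm
        have h1 : w * (y : G) ^ 2 ^ n * w⁻¹ = (y : G) ^ 2 ^ n := by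
          rw [← conj_pow, hwy, hcomm.mul_pow, hn', one_mul]
        rw [mul_inv_eq_iff_eq_mul] at h1
        exact h1.symm
      rintro ⟨g, hg⟩
      have hg' : g ∈ (centralizer ({W} : Set (↥L ⧸ center ↥L))).map
          (MulAut.conj : (↥L ⧸ center ↥L) →* MulAut (↥L ⧸ center ↥L)) ⊔ Jb β (img L (C0 w L)) :=
        (sup_le le_sup_left ((zpowers_le.2 hβ0).trans le_sup_right)) hg
      have hmul : g ∈ ((centralizer ({W} : Set (↥L ⧸ center ↥L))).map
          (MulAut.conj : (↥L ⧸ center ↥L) →* MulAut (↥L ⧸ center ↥L)) : Set (MulAut (↥L ⧸ center ↥L))) *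
          (Jb β (img L (C0 w L)) : Set (MulAut (↥L ⧸ center ↥L))) := by
        rw [← Subgroup.coe_mul_of_left_le_normalizer_right _ _ (by
          rintro _ ⟨c, hc, rfl⟩
          exact hcn c hc)]
        exact hg'
      obtain ⟨_, ⟨c, hc, rfl⟩, γ, hγ, rfl⟩ := hmul
      obtain ⟨n, hn⟩ := hpow c hc
      refine ⟨n, ?_⟩
      haveI := hN
      have hcΓ : MulAut.conj c ∈ Jb β (centralizer ({W} : Set (↥L ⧸ center ↥L))) := mem_sup_left ⟨c, hc, rfl⟩
      have hsplit : (⟨MulAut.conj c * γ, hg⟩ : ↥(Jb β (centralizer ({W} : Set (↥L ⧸ center ↥L))))) =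
          ⟨MulAut.conj c, hcΓ⟩ * ⟨γ, hle hγ⟩ := rfl
      have e1 : ((⟨γ, hle hγ⟩ : ↥(Jb β (centralizer ({W} : Set (↥L ⧸ center ↥L))))) :
          ↥(Jb β (centralizer ({W} : Set (↥L ⧸ center ↥L)))) ⧸
            (Jb β (img L (C0 w L))).subgroupOf (Jb β (centralizer ({W} : Set (↥L ⧸ center ↥L))))) = 1 :=
        (QuotientGroup.eq_one_iff _).2 hγ
      rw [← QuotientGroup.eq_one_iff, QuotientGroup.mk_pow, hsplit, QuotientGroup.mk_mul, e1, mul_one,
        ← QuotientGroup.mk_pow, QuotientGroup.eq_one_iff]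
      exact hn
  have cfg : Cfg4 W β A :=
    { ww := ww
      w1 := by
        obtain ⟨x, hx, hlx⟩ := h.ln
        exact hne1 _ ⟨x, hx, hlx⟩
      b3 := b3
      bw := bw
      Aw := fun a ha => mem_centralizer_singleton_iff.1 (hC0W (hA0 ha))
      A2 := by
        intro a ha
        rcases (memA a).1 ha with rfl | rfl | rfl | rfl
        · rw [one_mul]
        · exact hii
        · exact hjj
        · calc π ⟨i, hi⟩ * π ⟨j, hj⟩ * (π ⟨i, hi⟩ * π ⟨j, hj⟩) =
              π ⟨i, hi⟩ * (π ⟨j, hj⟩ * π ⟨i, hi⟩) * π ⟨j, hj⟩ := by group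
            _ = (π ⟨i, hi⟩ * π ⟨i, hi⟩) * (π ⟨j, hj⟩ * π ⟨j, hj⟩) := by rw [← hij]; group
            _ = 1 := by rw [hii, hjj, one_mul]
      A4 := Intrinsic.FunctorFrame.card_four hii hjj hij hi1 hj1 hijne
      bA := by
        intro a ha
        rcases (memA a).1 ha with rfl | rfl | rfl | rfl
        · rw [map_one]; exact one_mem _
        · rw [hβi]; exact hjA
        · rw [hβj]; exact mul_mem hiA hjA
        · rw [map_mul, hβi, hβj]; exact mul_mem hjA (mul_mem hiA hjA)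
      bne := by
        intro a ha hβa
        rcases (memA a).1 ha with rfl | rfl | rfl | rfl
        · rfl
        · rw [hβi] at hβa; exact absurd hβa.symm hijne
        · rw [hβj] at hβa
          exact absurd (mul_eq_right.1 hβa) hi1
        · rw [map_mul, hβi, hβj] at hβa
          exact absurd (mul_eq_right.1 hβa) hj1
      sn := sn1.trans sn2
      core := hcore }
  refine hR W β A cfg ↥L π (QuotientGroup.mk'_surjective _) (by rw [QuotientGroup.ker_mk']) ?_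
    h.qs.1.commutator_eq_top ⟨i, hi⟩ ⟨j, hj⟩ ⟨l, h.lL⟩ hiA hjA rfl ?_ ?_ ?_ ?_
  · rw [QuotientGroup.ker_mk']; exact h.Z2
  · exact Subtype.ext ((h.comm_iff hi).1 (h.jw hs.hi))
  · exact Subtype.ext ((h.comm_iff hj).1 (h.jw hs.hj))
  · rw [MonoidHom.mem_ker, map_mul, map_mul, map_mul, map_inv, map_inv, hij, mul_inv_cancel_right, mul_inv_cancel]
  · have h1 : i * j * i⁻¹ * j⁻¹ = z := by
      have h1 := hs.q.ji
      rw [mul_inv_eq_iff_eq_mul, mul_inv_eq_iff_eq_mul, mul_assoc, h1, ← mul_assoc, hs.q.z2, one_mul]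
    rw [← Subgroup.orderOf_coe]
    show orderOf (i * j * i⁻¹ * j⁻¹) = 2
    rw [h1]; exact h.pr.ord

end Loc

end Cfsg.Agent.OddHalf.NI3.Ex4

end

-- merged: Cfsg.Agent.OddHalf.NI3.Ex4.Cut
section

/-!
# (EX4) of THEOREM NIB: the cut into rows (helper515; text of helper219, bb ODD #15341, #17355)

`ex4G`: `StepOneG.Ex4G` from the Gorenstein-Walter theorem, S1738, `D5cover`, the 2-parts of the multipliers, the signs
of the outer automorphism groups and the rows `Rows4`.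
-/

set_option autoImplicit false
set_option linter.style.haveILetI false

namespace Cfsg.Agent.OddHalf.NI3.Ex4

open Subgroup Cfsg Cfsg.Agent.OddHalf.Iface Cfsg.Agent.OddHalf.LieOddFam Cfsg.Agent.OddHalf.D9.Cut
  Cfsg.Agent.SignalizersComponents
open Cfsg.Agent.OddHalf.D3 (Comp)
open Cfsg.Agent.OddHalf.NI (CompIn Even8)
open Cfsg.Agent.OddHalf.NI.Ex (rankOne_false altCover_comp exc)
open Cfsg.Agent.OddHalf.NI3.Bad.StepOneG (In2 Ex4G)
open Cfsg.Agent.Cit (cj)

universe u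

/-- the rows of (EX4) -/
structure Rows4 : Prop where
  exc2 : ∀ (X : Type u) [Group X] [Finite X], IsSimpleGroup X → ¬ IsMulCommutative X → Exc2 X → Row4 X
  exc4 : ∀ (X : Type u) [Group X] [Finite X], IsSimpleGroup X → Exc4 X → Row4 X
  sz : ∀ (X : Type u) [Group X] [Finite X], IsSimpleGroup X → XSz X → Row4 X

section

variable {G : Type u} [Group G] {z w g : G} {L J : Subgroup G}

theorem In2.quas (h : In2 z w g L J) : IsQuasisimple ↥L := h.comp.quasi

/-- the elements of `J` of order 3 centralise `Z(L)` -/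
theorem comm_center (h : In2 z w g L J) (hZ : IsPGroup 2 ↥(center ↥L)) {v ζ : G} (hv : v ∈ J) (h3 : v * v * v = 1)
    (hζL : ζ ∈ L) (hζ : ∀ x ∈ L, x * ζ = ζ * x) (hζw : ζ * w = w * ζ) : v * ζ = ζ * v := by
  obtain ⟨n, hn⟩ := hZ ⟨⟨ζ, hζL⟩, mem_center_iff.2 fun x => Subtype.ext (hζ x x.2)⟩
  have hn' : ζ ^ 2 ^ n = 1 := by
    have := congrArg Subtype.val (congrArg Subtype.val hn)
    simpa using this
  have hζC : ζ ∈ centralizer ({z} : Set G) ⊓ centralizer ({w} : Set G) :=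
    ⟨h.comp.le hζL, mem_centralizer_singleton_iff.2 hζw⟩
  have hvζL : v * ζ * v⁻¹ ∈ L := (mem_normalizer_iff.1 (h.JL hv) ζ).1 hζL
  have hu : ζ * (v * ζ * v⁻¹) = v * ζ * v⁻¹ * ζ := (hζ _ hvζL).symm
  have h1 := Bad.StepOne.cube_mem h.sn.2 (v := ⟨v, h.sn.1 hv⟩) (u := ⟨ζ, hζC⟩) hv (Subtype.ext h3)
    ⟨n, Subtype.ext (by simpa using hn')⟩ (Subtype.ext hu)
  have h2 : ζ⁻¹ * (v * ζ * v⁻¹) ∈ J := h1
  -- `v ζ v⁻¹` is central in `L`
  have hcen : ∀ x ∈ L, x * (v * ζ * v⁻¹) = v * ζ * v⁻¹ * x := by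
    intro x hx
    have h4 : v⁻¹ * x * v ∈ L := by
      have := (mem_normalizer_iff.1 (h.JL (inv_mem hv)) x).1 hx
      rwa [inv_inv] at this
    calc x * (v * ζ * v⁻¹) = v * ((v⁻¹ * x * v) * ζ) * v⁻¹ := by group
      _ = v * (ζ * (v⁻¹ * x * v)) * v⁻¹ := by rw [hζ _ h4]
      _ = v * ζ * v⁻¹ * x := by group
  rcases h.pr.t3.cen _ h2 (fun y hy hyz => by
    have hyL := h.Q y hy hyz
    have e1 : ζ⁻¹ * y = y * ζ⁻¹ := ((show Commute y ζ from hζ y hyL).inv_right).eq.symm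
    rw [mul_assoc, ← hcen y hyL, ← mul_assoc, e1, mul_assoc]) with h5 | h5
  · rw [inv_mul_eq_one, eq_comm, mul_inv_eq_iff_eq_mul] at h5
    exact h5
  · exfalso
    have h6 : v * ζ * v⁻¹ = ζ * z := by rw [← h5]; group
    have hvz : v * z = z * v := h.pr.comm_z hv
    have hvz' : v * z * v⁻¹ = z := by rw [hvz]; group
    have h8 : v * (ζ * z) * v⁻¹ = ζ * z * z := by
      calc v * (ζ * z) * v⁻¹ = (v * ζ * v⁻¹) * (v * z * v⁻¹) := by group
        _ = ζ * z * z := by rw [h6, hvz']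
    have h7 : ζ = ζ * (z * z) * z := by
      calc ζ = (v * v * v) * ζ * (v * v * v)⁻¹ := by rw [h3]; group
        _ = v * (v * (v * ζ * v⁻¹) * v⁻¹) * v⁻¹ := by group
        _ = v * (ζ * z * z) * v⁻¹ := by rw [h6, h8]
        _ = (v * ζ * v⁻¹) * (v * z * v⁻¹) * (v * z * v⁻¹) := by group
        _ = ζ * (z * z) * z := by rw [h6, hvz']; group
    rw [h.pr.t3.z_sq, mul_one] at h7
    exact h.pr.t3.z_ne (left_eq_mul.1 h7)

variable [Finite G]

omit [Group G] [Finite G] in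
/-- components centralise `O₂` -/
theorem comp_le_cent {H : Type*} [Group H] [Finite H] {K : Subgroup H} (hK : IsComponent K) :
    K ≤ centralizer (pCore 2 H : Set H) := by
  haveI : Fact (Nat.Prime 2) := ⟨Nat.prime_two⟩
  intro x hx
  rw [mem_centralizer_iff]
  intro p hp
  exact mem_centralizer_iff.1 ((Components.component_le_layer hK).trans
    (Components.layer_le_centralizer_fitting (G := H)) hx) p (Lib.Cores.pCore_le_fittingSubgroup 2 hp)

/-- **`w` acts as an inner automorphism of `L`**: the local configuration. -/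
theorem exists_loc (h : In2 z w g L J) (hZ : IsPGroup 2 ↥(center ↥L)) (hX : Table.OutSign (↥L ⧸ center ↥L)) :
    ∃ l : G, Loc z w l L J (centralizer ({z} : Set G) ⊓ centralizer ({w} : Set G)) := by
  have hq : IsQuasisimple ↥L := h.comp.quasi
  have hwn : w ∈ normalizer (L : Set G) := Cit.mem_normalizer_iff_cj.2 h.wL
  have hgn : g ∈ normalizer (L : Set G) := Cit.mem_normalizer_iff_cj.2 h.gL
  have hww : w * w = 1 := by rw [← pow_two, ← h.w2, pow_orderOf_eq_one]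
  have hαα : act L ⟨w, hwn⟩ * act L ⟨w, hwn⟩ = 1 := by
    rw [← map_mul, ← map_one (act L)]
    congr 1
    exact Subtype.ext hww
  have hinn : ∃ x, act L ⟨w, hwn⟩ = MulAut.conj x := by
    by_contra hno
    push Not at hno
    obtain ⟨lam, hl1, hl2⟩ := hX _ hαα hno
    obtain ⟨l0, hl0, c0, hc0, hgg⟩ := h.inn
    have hc0n : c0 ∈ normalizer (L : Set G) := centralizer_le_normalizer _ hc0
    have e1 : act L ⟨g, hgn⟩ * act L ⟨g, hgn⟩ * act L ⟨w, hwn⟩ =
        act L ⟨l0, le_normalizer hl0⟩ * act L ⟨c0, hc0n⟩ := by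
      rw [← map_mul, ← map_mul, ← map_mul]
      congr 1
      exact Subtype.ext hgg
    have e2 : act L ⟨c0, hc0n⟩ = 1 := by
      refine act_of_comm hc0n fun k hk => ?_
      rw [← mem_centralizer_iff.1 hc0 k hk]; group
    rw [e2, mul_one, act_of_mem hl0] at e1
    have e3 := congrArg lam e1
    rw [map_mul, map_mul, hl1, hl2, Int.units_mul_self, one_mul] at e3
    exact absurd e3 (by decide)
  obtain ⟨x, hx⟩ := hinn
  obtain ⟨⟨l, hl⟩, rfl⟩ := QuotientGroup.mk_surjective x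
  have hwl : ∀ x ∈ L, w * x * w⁻¹ = l * x * l⁻¹ := by
    have e1 : act L ⟨w * l⁻¹, mul_mem hwn (inv_mem (le_normalizer hl))⟩ = 1 := by
      have e2 : (⟨w * l⁻¹, mul_mem hwn (inv_mem (le_normalizer hl))⟩ : ↥(normalizer (L : Set G))) =
        ⟨w, hwn⟩ * (⟨l, le_normalizer hl⟩)⁻¹ := rfl
      rw [e2, map_mul, map_inv, hx, act_of_mem hl, mul_inv_cancel]
    intro x hxL
    have e2 := comm_of_act hq.1.commutator_eq_top e1 (l * x * l⁻¹) (mul_mem (mul_mem hl hxL) (inv_mem hl))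
    calc w * x * w⁻¹ = (w * l⁻¹) * (l * x * l⁻¹) * (w * l⁻¹)⁻¹ := by group
      _ = l * x * l⁻¹ := e2
  refine ⟨l, ?_⟩
  exact
    { qs := hq
      Z2 := hZ
      pr := h.pr
      sJ := h.sn
      sL := by
        have h1 : Sn L (centralizer ({z} : Set G)) := ⟨h.comp.le, h.comp.comp.1⟩
        exact h1.inf _
      hO := h.core
      JL := h.JL
      Jw := h.sn.1.trans inf_le_right
      Q := h.Q
      zL := fun x hx => mem_centralizer_singleton_iff.1 (h.comp.le hx)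
      lL := hl
      wl := hwl
      ll := by
        intro x hxL
        have h1 : l * x * l⁻¹ ∈ L := mul_mem (mul_mem hl hxL) (inv_mem hl)
        have h2 : l * l * x * (l * l)⁻¹ = x := by
          calc l * l * x * (l * l)⁻¹ = l * (l * x * l⁻¹) * l⁻¹ := by group
            _ = w * (w * x * w⁻¹) * w⁻¹ := by rw [← hwl _ h1, ← hwl x hxL]
            _ = (w * w) * x * (w * w)⁻¹ := by group
            _ = x := by rw [hww]; group
        rw [mul_inv_eq_iff_eq_mul] at h2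
        exact h2
      ln := by
        by_contra hcon
        push Not at hcon
        have hLw : L ≤ centralizer ({z} : Set G) ⊓ centralizer ({w} : Set G) := by
          refine le_inf h.comp.le fun x hxL => ?_
          rw [mem_centralizer_singleton_iff]
          have h1 := hwl x hxL
          rw [hcon x hxL, mul_inv_cancel_right, mul_inv_eq_iff_eq_mul] at h1
          exact h1.symm
        have h1 : Sn L (centralizer ({z} : Set G) ⊓ centralizer ({w} : Set G)) :=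
          Sn.restrict ⟨h.comp.le, h.comp.comp.1⟩ inf_le_left hLw
        have h2 : IsComponent (L.subgroupOf (centralizer ({z} : Set G) ⊓ centralizer ({w} : Set G))) :=
          ⟨h1.2, Components.isQuasisimple_of_mulEquiv (subgroupOfEquivOfLe hLw).symm hq⟩
        obtain ⟨i, j, d, hs⟩ := h.pr.sl
        have h3 := (h.pr.subgroupOf h.sn.1).mem_pCore h.sn.2 (y := ⟨i, h.sn.1 hs.hi⟩) hs.hi (Subtype.ext hs.q.i2)
        have h4 := mem_centralizer_iff.1 (comp_le_cent h2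
          (show (⟨j, hLw (h.Q j hs.hj hs.q.j2)⟩ : ↥(centralizer ({z} : Set G) ⊓ centralizer ({w} : Set G))) ∈
            L.subgroupOf (centralizer ({z} : Set G) ⊓ centralizer ({w} : Set G)) from h.Q j hs.hj hs.q.j2)) _ h3
        exact hs.q.not_comm (congrArg Subtype.val h4)
      dZ := by
        intro v hv h3 ζ hζL hζ
        refine comm_center h hZ hv h3 hζL hζ ?_
        have h1 := hwl ζ hζL
        rw [hζ l hl, mul_inv_cancel_right, mul_inv_eq_iff_eq_mul] at h1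
        exact h1.symm }

end

/-- **(EX4)** -/
theorem ex4G (hGW : RankOne.GW.{u}) (P : Stmts.P1738.{u}) (hD5 : D5cover.{u}) (M : D9.Cut.Mult.{u})
    (S : CaseM.SignRows.{u}) (R : Rows4.{u}) : Ex4G.{u} := by
  intro G _ C z w g L J h hodd
  have := C.fin
  have := C.simple
  have hzL := h.z_mem
  have hc : CompOf z L := NI.Final.compOf_of_comp h.comp
  have hq : IsQuasisimple ↥L := h.comp.quasi
  have hyZ : (⟨z, hzL⟩ : ↥L) ∈ center ↥L := by
    rw [mem_center_iff]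
    intro g
    exact Subtype.ext (mem_centralizer_singleton_iff.mp (h.comp.le g.2))
  have hyo : orderOf (⟨z, hzL⟩ : ↥L) = 2 := by rw [Subgroup.orderOf_mk]; exact h.z2
  have hzne : center ↥L ≠ ⊥ := by
    intro h
    rw [h, mem_bot] at hyZ
    rw [hyZ, orderOf_one] at hyo
    omega
  have hz : IsPGroup 2 ↥(center ↥L) := Soft.CompOf.center_isPGroup (C.bal z h.z2) hc
  have hrk : ¬ PRankLE 2 1 ↥L := fun h' => rankOne_false hGW C h.z2 hc hzL h'
  have hna := Soft.quo_na hq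
  have hNtop : L ≠ ⊤ := Soft.CompOf.ne_top C.na h.z2 hc
  have hs : IsSimpleGroup (↥L ⧸ center ↥L) := hq.2
  have hK : IsKnownSimple' (↥L ⧸ center ↥L) := Known.known_quotient C.kproper L hNtop (center ↥L) hs hna
  by_cases halt : IsAlternating (↥L ⧸ center ↥L)
  · obtain ⟨n, hn, f⟩ := halt
    obtain ⟨h8, hcov⟩ := hD5 ↥L inferInstance hq hz hzne hrk n hn f
    exact altCover_comp P C h.z2 hc hzL n h8 hcov
  have hX : LieTwo (↥L ⧸ center ↥L) ∨ IsSporadicGroup (↥L ⧸ center ↥L) := by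
    rcases Known.classify hna hK with h | h | h | h
    · exact absurd h halt
    · exact absurd h hodd
    · exact Or.inl ⟨h, halt, hodd⟩
    · exact Or.inr h
  rcases exc M hq hz hzne hX with h1 | h1 | h1
  · obtain ⟨l, hl⟩ := exists_loc h hz (S.exc2 _ h1)
    exact hl.false (R.exc2 _ hs hna h1)
  · obtain ⟨l, hl⟩ := exists_loc h hz (S.exc4 _ h1)
    exact hl.false (R.exc4 _ hs h1)
  · obtain ⟨l, hl⟩ := exists_loc h hz (S.sz _ h1)
    exact hl.false (R.sz _ hs h1)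

end Cfsg.Agent.OddHalf.NI3.Ex4

end
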