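import Cfsg.Agent.OddHalf.NI3.Bad.TriM24
import Mathlib
import Cfsg.Agent.Omega.TwoF.RowM12
import Cfsg.Agent.OddHalf.NI3.Ex4.Tri

-- merged: Cfsg.Agent.OddHalf.NI3.Bad.IntM24
section

/-!
# Intertwiners in `M24`: certificates

`mem_of_int`: an element `g` of `M24` with `g D_k = D'_k g` (and admissible values at the roots) is one of the elements
packed in `good`. `max_nrm`, `goodCls'` : as `TriM24.max_cls`, `TriM24.goodCls`, with all automorphisms of the 2-group.
-/

set_option autoImplicit false

namespace Cfsg.Agent.OddHalf.NI3.IntM24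

open Subgroup Cfsg Cfsg.Agent.SporadicA.GolayBase Cfsg.Agent.SporadicA.GolayPerm
open Cfsg.Agent.SporadicStructure.M24El Cfsg.Agent.KFacts.MM Cfsg.Agent.OddHalf.D4.M22.CenCert
open Cfsg.Agent.OddHalf.NI3.ExTri Cfsg.Agent.OddHalf.NI3.TriM24

theorem getD_int {D D' : List ℕ} {g : Equiv.Perm GolayPt}
    (h : List.Forall₂ (fun P P' => g * El.pm P = El.pm P' * g) D D') (k : ℕ) :
    g * El.pm (D.getD k idP) = El.pm (D'.getD k idP) * g :=
  forall_getD (R := fun P P' => g * El.pm P = El.pm P' * g) h (by rw [pm_idP]; group) k

theorem int_wd {D D' : List ℕ} {g : Equiv.Perm GolayPt}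
    (h : List.Forall₂ (fun P P' => g * El.pm P = El.pm P' * g) D D') (w : List ℕ) :
    g * El.pr (wd D w) = El.pr (wd D' w) * g := by
  induction w with
  | nil => simp [wd, El.pr_nil]
  | cons k w ih =>
    have h1 : wd D (k :: w) = D.getD k idP :: wd D w := rfl
    have h2 : wd D' (k :: w) = D'.getD k idP :: wd D' w := rfl
    rw [h1, h2, El.pr_cons, El.pr_cons, ← mul_assoc, getD_int h, mul_assoc, ih, mul_assoc]

theorem val_int {D D' : List ℕ} (hD : ∀ P ∈ D, isPerm P = true) (hD' : ∀ P ∈ D', isPerm P = true)
    {g : Equiv.Perm GolayPt} (h : List.Forall₂ (fun P P' => g * El.pm P = El.pm P' * g) D D') (w : List ℕ)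
    {i : ℕ} (hi : i < 24) : El.val g (El.ev (wd D w) i) = El.ev (wd D' w) (El.val g i) := by
  rw [← El.val_pr (okl_wd' hD w) hi, ← El.val_pr (okl_wd' hD' w) (El.val_lt g i), ← El.val_mul,
    ← El.val_mul, int_wd h]

/-- the candidates for the image of the root `r` -/
def cand (D D' : List ℕ) (adm : ℕ → ℕ → Bool) (W : List (List ℕ)) (r : ℕ) : List ℕ :=
  El.pts.filter fun a => adm r a && W.all fun w =>
    Nat.beq (El.ev (wd D w) r) r == Nat.beq (El.ev (wd D' w) a) a

/-- the tree -/
def chkTr (D : List ℕ) (roots : List ℕ) (T : List (ℕ × List ℕ)) : Bool :=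
  Nat.beq T.length 24 && (roots.all fun r => Nat.blt r 24) && El.pts.all fun i =>
    Nat.blt (T.getD i (0, [])).1 roots.length &&
    Nat.beq (El.ev (wd D (T.getD i (0, [])).2) (roots.getD (T.getD i (0, [])).1 0)) i

/-- all candidates are in `good` -/
def chkI (D D' : List ℕ) (adm : ℕ → ℕ → Bool) (roots : List ℕ) (T : List (ℕ × List ℕ)) (W : List (List ℕ))
    (good : List ℕ) : Bool :=
  (D.all isPerm) && (D'.all isPerm) && chkTr D roots T &&
    (combos (roots.map fun r => cand D D' adm W r)).all fun c => !(ok (mk D' T c)) || good.contains (mk D' T c)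

theorem mem_of_int {D D' : List ℕ} {adm : ℕ → ℕ → Bool} {roots : List ℕ} {T : List (ℕ × List ℕ)}
    {W : List (List ℕ)} {good : List ℕ} (h : chkI D D' adm roots T W good = true) {g : Equiv.Perm GolayPt}
    (hg : g ∈ M24) (hadm : ∀ j < 24, adm j (El.val g j) = true)
    (hc : List.Forall₂ (fun P P' => g * El.pm P = El.pm P' * g) D D') : ∃ Q ∈ good, g = El.pm Q := by
  unfold chkI chkTr at h
  rw [Bool.and_eq_true, Bool.and_eq_true, Bool.and_eq_true, Bool.and_eq_true, Bool.and_eq_true, List.all_eq_true,
    List.all_eq_true, List.all_eq_true, List.all_eq_true, Nat.beq_eq] at h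
  obtain ⟨⟨⟨hD, hD'⟩, ⟨⟨hlen, hlt0⟩, h2⟩⟩, h3⟩ := h
  rw [List.all_eq_true] at h3
  have hlt : ∀ r ∈ roots, r < 24 := by
    intro r hr
    have := hlt0 r hr
    rwa [Nat.blt_eq] at this
  -- the values at the roots
  have hroot : ∀ r ∈ roots, El.val g r ∈ cand D D' adm W r := by
    intro r hr
    have hr' := hlt r hr
    unfold cand
    rw [List.mem_filter]
    refine ⟨El.mem_pts (El.val_lt g r), ?_⟩
    rw [hadm r hr', Bool.true_and, List.all_eq_true]
    intro w _
    rw [beq_iff_eq, Bool.eq_iff_iff, Nat.beq_eq, Nat.beq_eq, ← val_int hD hD' hc w hr']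
    constructor
    · intro e; rw [e]
    · intro e
      apply El.val_inj (g := g) _ hr' e
      rw [← El.val_pr (okl_wd' hD w) hr']
      exact El.val_lt _ _
  have hcomb : (roots.map fun r => El.val g r) ∈ combos (roots.map fun r => cand D D' adm W r) := by
    apply mem_combos
    rw [List.forall₂_map_left_iff, List.forall₂_map_right_iff, List.forall₂_same]
    exact hroot
  have h4 := h3 _ hcomb
  -- the values
  have hget : ∀ {k : ℕ}, k < roots.length →
      (roots.map fun r => El.val g r).getD k 0 = El.val g (roots.getD k 0) := by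
    intro k hk
    rw [List.getD_eq_getElem?_getD, List.getD_eq_getElem?_getD, List.getElem?_map,
      List.getElem?_eq_getElem hk]
    rfl
  have hrlt : ∀ {k : ℕ}, k < roots.length → roots.getD k 0 < 24 := by
    intro k hk
    rw [List.getD_eq_getElem?_getD, List.getElem?_eq_getElem hk, Option.getD_some]
    exact hlt _ (List.getElem_mem hk)
  set c := roots.map fun r => El.val g r with hcdef
  set l := T.map fun t => El.ev (wd D' t.2) (c.getD t.1 0) with hl
  have hTi : ∀ i < 24, l.getD i 0 = El.val g i := by
    intro i hi
    have hiT : i < T.length := by rw [hlen]; exact hi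
    have h5 := h2 i (El.mem_pts hi)
    rw [Bool.and_eq_true, Nat.beq_eq] at h5
    obtain ⟨h5, h6⟩ := h5
    have h5' : (T.getD i (0, [])).1 < roots.length := by
      have : Nat.blt (T.getD i (0, [])).1 roots.length = true := h5
      rw [Nat.blt_eq] at this
      exact this
    have h7 : T.getD i (0, []) = T[i] := by
      rw [List.getD_eq_getElem?_getD, List.getElem?_eq_getElem hiT, Option.getD_some]
    have h8 : l.getD i 0 = El.ev (wd D' (T.getD i (0, [])).2) (c.getD (T.getD i (0, [])).1 0) := by
      rw [hl, List.getD_eq_getElem?_getD, List.getElem?_map, List.getElem?_eq_getElem hiT, h7]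
      rfl
    rw [h8, hget h5', ← val_int hD hD' hc _ (hrlt h5'), h6]
  have hall : ∀ a ∈ l, a < 32 := by
    intro a ha
    obtain ⟨i, hi, rfl⟩ := List.mem_iff_getElem.1 ha
    have hi' : i < 24 := by
      rw [← hlen]
      rw [hl, List.length_map] at hi
      exact hi
    have h5 := hTi i hi'
    rw [List.getD_eq_getElem?_getD, List.getElem?_eq_getElem hi, Option.getD_some] at h5
    rw [h5]
    exact lt_trans (El.val_lt g i) (by norm_num)
  have hpapp : ∀ i < 24, papp (mk D' T c) i = El.val g i := by
    intro i hi
    have : mk D' T c = pack l := rfl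
    rw [this, papp_pack hall, hTi i hi]
  have hperm : isPerm (mk D' T c) = true := by
    apply isPerm_of_injOn
    · intro i hi
      rw [hpapp i hi]
      exact El.val_lt g i
    · intro i j hi hj hij
      rw [hpapp i hi, hpapp j hj] at hij
      exact El.val_inj hi hj hij
  have hpm : g = El.pm (mk D' T c) := by
    apply El.ext_val
    intro i hi
    rw [El.val_pm hperm hi, hpapp i hi]
  have hok : ok (mk D' T c) = true := by
    rw [ok_iff]
    refine ⟨hperm, isAut_of_mem_M24 hperm ?_⟩
    rw [← El.pm_eq hperm, ← hpm]
    exact hg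
  rw [hok, Bool.not_true, Bool.false_or] at h4
  exact ⟨_, List.contains_iff_mem.1 h4, hpm⟩

/-- the Boolean check of a Sylow 2-subgroup `TL` of the centraliser of `v`; `GO c` : the elements inducing `gens ↦ c` -/
def chkN (adm : ℕ → ℕ → Bool) (v : ℕ) (gens TL : List ℕ) (tst : List (List ℕ)) (roots : List ℕ)
    (T : List (ℕ × List ℕ)) (W : List (List ℕ)) (GO : List ℕ) : Bool :=
  chkG TL && (gens.all fun P => TL.contains P) && (TL.all fun P => El.weq [P, v] [v, P] &&
    El.weq [P, P, P, P, P, P, P, P, P, P, P, P, P, P, P, P] []) && (isPerm v) &&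
  (GO.all fun Q => isPerm Q && (!(TL.any fun P => El.weq [Q, Q] [P]) || TL.any fun P => El.weq [Q] [P])) &&
  ((combos (gens.map fun _ => TL)).all fun c =>
    !(tst.all fun w => El.weq (wd c w) [] == El.weq (wd gens w) []) ||
    chkI (v :: gens) (v :: c) adm roots T W GO)

variable {D X : Subgroup (Equiv.Perm GolayPt)} {adm : ℕ → ℕ → Bool} {v : ℕ} {gens TL : List ℕ}
  {tst : List (List ℕ)} {roots : List ℕ} {T : List (ℕ × List ℕ)} {W : List (List ℕ)} {GO : List ℕ}

/-- the group `TL` is a Sylow 2-subgroup of the centraliser of `v` in `D` -/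
theorem max_nrm (hDM : ∀ g ∈ D, g ∈ M24) (hadm : ∀ g ∈ D, ∀ j < 24, adm j (El.val g j) = true)
    (h : chkN adm v gens TL tst roots T W GO = true) (hG : chkG TL = true) (hTD : ∀ P ∈ TL, El.pm P ∈ D)
    (hv : El.pm v ∈ D) :
    ∀ Q : Subgroup D, Q ≤ centralizer {(⟨El.pm v, hv⟩ : D)} → IsPGroup 2 Q →
      (grp TL hG).subgroupOf D ≤ Q → Q = (grp TL hG).subgroupOf D := by
  haveI : Fact (Nat.Prime 2) := ⟨Nat.prime_two⟩
  unfold chkN at h
  simp only [Bool.and_eq_true, List.all_eq_true] at h
  obtain ⟨⟨⟨⟨⟨-, hgT⟩, hTv⟩, hvp⟩, hGO⟩, hcomb⟩ := h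
  have hgT' : ∀ P ∈ gens, P ∈ TL := fun P hP => List.contains_iff_mem.1 (hgT P hP)
  have hTp : ∀ P ∈ TL, isPerm P = true := fun P hP => perm_of_chkG hG hP
  have hgp : ∀ P ∈ gens, isPerm P = true := fun P hP => hTp P (hgT' P hP)
  apply max_of_nrm
  · rintro ⟨x, hx⟩
    obtain ⟨P, hP, e⟩ := (mem_subgroupOf.1 hx : (x : Equiv.Perm GolayPt) ∈ grp TL hG)
    refine ⟨4, Subtype.ext (Subtype.ext ?_)⟩
    push_cast
    rw [← e]
    have h1 := (hTv P hP).2
    have hp := hTp P hP
    have h2 := El.pr_of_weq (okl_cons hp <| okl_cons hp <| okl_cons hp <| okl_cons hp <| okl_cons hp <|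
      okl_cons hp <| okl_cons hp <| okl_cons hp <| okl_cons hp <| okl_cons hp <| okl_cons hp <| okl_cons hp <|
      okl_cons hp <| okl_cons hp <| okl_cons hp <| okl_cons hp okl_nil) okl_nil h1
    simp only [El.pr_cons, El.pr_nil, mul_one] at h2
    rw [← h2]
    simp only [pow_succ, pow_zero, one_mul, mul_assoc]
  · intro n hn hnT hn2
    rw [mem_centralizer_singleton_iff] at hn
    have hn' : (n : Equiv.Perm GolayPt) * El.pm v = El.pm v * n := congrArg Subtype.val hn
    have hnD := n.2
    -- the images of the generators
    obtain ⟨c, hc⟩ := exists_images (L := TL) (gens := gens)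
      (R := fun a P => El.pm a = (n : Equiv.Perm GolayPt) * El.pm P * (n : Equiv.Perm GolayPt)⁻¹) (by
        intro P hP
        have h1 := hnT ⟨El.pm P, hTD P (hgT' P hP)⟩ (mem_subgroupOf.2 ⟨P, hgT' P hP, rfl⟩)
        obtain ⟨a, ha, e⟩ := mem_subgroupOf.1 h1
        exact ⟨a, ha, e⟩)
    have hcT : ∀ a ∈ c, a ∈ TL := by
      intro a ha
      have := List.forall₂_iff_get.1 hc
      obtain ⟨k, hk, rfl⟩ := List.mem_iff_getElem.1 ha
      exact (this.2 k hk (by rw [← this.1]; exact hk)).1
    have hcc : c ∈ combos (gens.map fun _ => TL) := by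
      apply mem_combos
      rw [List.forall₂_map_right_iff]
      exact hc.imp fun _ _ hab => hab.1
    have hR := hc.imp (fun _ _ hab => hab.2)
    have h1 := hcomb c hcc
    rw [Bool.or_eq_true, Bool.not_eq_true'] at h1
    rcases h1 with h1 | h1
    · exfalso
      rw [← Bool.not_eq_true, List.all_eq_true] at h1
      apply h1
      intro w _
      have h2 := pr_wd_conj hR w
      have h3 := El.weq_iff (okl_wd' (fun P hP => hTp P (hcT P hP)) w) okl_nil
      have h4 := El.weq_iff (okl_wd' hgp w) okl_nil
      rw [beq_iff_eq, Bool.eq_iff_iff, h3, h4, h2, El.pr_nil]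
      constructor
      · intro h5
        calc El.pr (wd gens w) = (n : Equiv.Perm GolayPt)⁻¹ *
              ((n : Equiv.Perm GolayPt) * El.pr (wd gens w) * (n : Equiv.Perm GolayPt)⁻¹) * n := by group
          _ = 1 := by rw [h5]; group
      · intro h5
        rw [h5]; group
    · have hint : List.Forall₂ (fun P P' => (n : Equiv.Perm GolayPt) * El.pm P = El.pm P' * n) (v :: gens)
          (v :: c) := by
        refine List.Forall₂.cons hn' ?_
        refine hR.flip.imp ?_
        intro P a e
        have e' : El.pm a = (n : Equiv.Perm GolayPt) * El.pm P * (n : Equiv.Perm GolayPt)⁻¹ := e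
        rw [e']; group
      obtain ⟨Q, hQ, hqQ⟩ := mem_of_int h1 (hDM n hnD) (hadm n hnD) hint
      obtain ⟨hQp, hQs⟩ := hGO Q hQ
      have h8 : (n : Equiv.Perm GolayPt) * n ∈ grp TL hG := by
        have := mem_subgroupOf.1 hn2
        rw [pow_two] at this
        exact this
      rw [hqQ] at h8
      obtain ⟨P, hP, hPe⟩ := h8
      rw [Bool.or_eq_true, Bool.not_eq_true'] at hQs
      rcases hQs with hQs | hQs
      · exfalso
        rw [← Bool.not_eq_true, List.any_eq_true] at hQs
        apply hQs
        refine ⟨P, hP, ?_⟩
        rw [El.weq_iff (okl_cons hQp (okl_cons hQp okl_nil)) (okl_cons (hTp P hP) okl_nil), El.pr_cons,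
          El.pr_one, El.pr_one, hPe]
      · rw [List.any_eq_true] at hQs
        obtain ⟨P', hP', hw⟩ := hQs
        have h11 := weq1 hQp (hTp P' hP') hw
        rw [mem_subgroupOf, hqQ, h11]
        exact ⟨P', hP', rfl⟩

/-- the class of `v` is fine -/
theorem goodCls' (hDM : ∀ g ∈ D, g ∈ M24) (hadm : ∀ g ∈ D, ∀ j < 24, adm j (El.val g j) = true) (hXD : X ≤ D)
    {okX okD : ℕ → Bool} (hX : ∀ P, okX P = true → isPerm P = true ∧ El.pm P ∈ X)
    (hD : ∀ P, okD P = true → isPerm P = true ∧ El.pm P ∈ D) {AL : List (ℕ × ℕ × ℕ)}
    (hv : okD v = true) (hv3 : El.weq [v, v, v] [] = true) (hTD : (TL.all okD) = true)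
    (h : chkN adm v gens TL tst roots T W GO = true) (hA : chkA okX v TL AL = true) :
    GoodCls (X.subgroupOf D) (⟨El.pm v, (hD v hv).2⟩ : D) := by
  have hG : chkG TL = true := by
    unfold chkN at h
    simp only [Bool.and_eq_true] at h
    exact h.1.1.1.1.1
  rw [List.all_eq_true] at hTD
  have hv3' : El.pm v * El.pm v * El.pm v = 1 := by
    have hp := (hD v hv).1
    have := El.pr_of_weq (okl_cons hp (okl_cons hp (okl_cons hp okl_nil))) okl_nil hv3
    simp only [El.pr_cons, El.pr_nil, mul_one] at this
    rw [← this, mul_assoc]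
  have hTv : ∀ P ∈ TL, El.weq [P, v] [v, P] = true ∧
      El.weq [P, P, P, P, P, P, P, P, P, P, P, P, P, P, P, P] [] = true := by
    unfold chkN at h
    simp only [Bool.and_eq_true, List.all_eq_true] at h
    exact h.1.1.1.2
  refine ⟨Subtype.ext hv3', (grp TL hG).subgroupOf D, ?_, ?_, ?_, ?_⟩
  · intro t ht
    obtain ⟨P, hP, e⟩ := mem_subgroupOf.1 ht
    have hPp := perm_of_chkG hG hP
    have h1 := weq2 hPp (hD v hv).1 (hD v hv).1 hPp (hTv P hP).1
    rw [e] at h1
    exact Subtype.ext h1
  · rintro ⟨x, hx⟩
    obtain ⟨P, hP, e⟩ := (mem_subgroupOf.1 hx : (x : Equiv.Perm GolayPt) ∈ grp TL hG)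
    refine ⟨4, Subtype.ext (Subtype.ext ?_)⟩
    push_cast
    rw [← e]
    have hp := perm_of_chkG hG hP
    have h2 := El.pr_of_weq (okl_cons hp <| okl_cons hp <| okl_cons hp <| okl_cons hp <| okl_cons hp <|
      okl_cons hp <| okl_cons hp <| okl_cons hp <| okl_cons hp <| okl_cons hp <| okl_cons hp <| okl_cons hp <|
      okl_cons hp <| okl_cons hp <| okl_cons hp <| okl_cons hp okl_nil) okl_nil (hTv P hP).2
    simp only [El.pr_cons, El.pr_nil, mul_one] at h2
    rw [← h2]
    simp only [pow_succ, pow_zero, one_mul, mul_assoc]
  · exact max_nrm hDM hadm h hG (fun P hP => (hD P (hTD P hP)).2) (hD v hv).2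
  · exact pair_of_chk hX hXD hA hG (hD v hv).1 (hD v hv).2 hv3'

end Cfsg.Agent.OddHalf.NI3.IntM24

end

-- merged: Cfsg.Agent.OddHalf.NI3.Bad.ExM12Data
section

/-!
# Data for (EX4), row `M12`

`EL` : a Sylow 3-subgroup of `M12` (27 elements); `CL` : its elements are conjugate to `vA` (class 3A) or `vB` (class
3B); `TA = ⟨tA⟩`, `TB = ⟨i1, i2⟩` : Sylow 2-subgroups of their centralisers; `RA`, `WA` : orbit representatives of
`⟨vA, tA⟩` and words; `GA` : the centraliser of `⟨vA, tA⟩`; `AA` : two triples for `tA`. Similarly for `vB`; `GB` is the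
centraliser of `vB`.
-/

set_option autoImplicit false

namespace Cfsg.Agent.OddHalf.NI3.ExM12Data

def vA : ℕ := 236827216099580205365686713851250723

def vB : ℕ := 837840014311475647446927239022839080

def EL : List ℕ := [
  984818244535754528103549039458486304,
  837840014311475647446927239022839080,
  923343209352217333438465373544391757,
  649467713286271253425803885429531718,
  236827216099580205365686713851250723,
  975269010385138970404850267389823012,
  936787914258032638120039245541385296,
  479424798623187070633991708393088068,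
  861057018691328989286967354400834861,
  483742412150518818799368279914259532,
  222402618548938445276415813452564525,
  713068214363887795358668675785164070,
  809293702357462554941748477662726184,
  970251653761103408265302692078192690,
  298139422416405073734861572461036848,
  804368882378813590520974175466227760,
  736874700473102913472927255387800876,
  228037313933376711440625735444989996,
  466601235940950553848414177562371144,
  940403246879379225163710507847459922,
  856302071053829140328637228740314400,
  633044035130924871176421248331949120,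
  818214171636066743786315063106734118,
  315852320610319672293222219982570788,
  321211932081076068427617334756541731,
  645718010089347887591293021600228419,
  731412378920986750169470416032236850]

def CL : List (ℕ × ℕ × ℕ) := [
  (837840014311475647446927239022839080, 228037313933376711440625735444989996, 837840014311475647446927239022839080),
  (923343209352217333438465373544391757, 648333173198446926654847902756766784, 837840014311475647446927239022839080),
  (649467713286271253425803885429531718, 879701950223223145675611000748970086, 837840014311475647446927239022839080),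
  (236827216099580205365686713851250723, 228037313933376711440625735444989996, 236827216099580205365686713851250723),
  (975269010385138970404850267389823012, 731397919790331971248525530481722668, 236827216099580205365686713851250723),
  (936787914258032638120039245541385296, 724554475684413436846670426207718665, 236827216099580205365686713851250723),
  (479424798623187070633991708393088068, 304463854048808149295439185188388994, 837840014311475647446927239022839080),
  (861057018691328989286967354400834861, 897672357167501061197715003075236109, 837840014311475647446927239022839080),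
  (483742412150518818799368279914259532, 802663100046824501991250113308201377, 236827216099580205365686713851250723),
  (222402618548938445276415813452564525, 895272475935545021291824516046521411, 236827216099580205365686713851250723),
  (713068214363887795358668675785164070, 731397919790331971248525530481722668, 837840014311475647446927239022839080),
  (809293702357462554941748477662726184, 442292723167633836655672058094094380, 236827216099580205365686713851250723),
  (970251653761103408265302692078192690, 731437731893639836645914512321520684, 236827216099580205365686713851250723),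
  (298139422416405073734861572461036848, 636273810869469780427137004525892738, 236827216099580205365686713851250723),
  (804368882378813590520974175466227760, 927617885163467952602068307013797170, 236827216099580205365686713851250723),
  (736874700473102913472927255387800876, 724781424504484299615077698965151849, 236827216099580205365686713851250723),
  (228037313933376711440625735444989996, 304539806661063016517929386878698563, 236827216099580205365686713851250723),
  (466601235940950553848414177562371144, 981763897278454228095861825431151652, 837840014311475647446927239022839080),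
  (940403246879379225163710507847459922, 445712904086624993721535350799676422, 837840014311475647446927239022839080),
  (856302071053829140328637228740314400, 636955924640557019792214701015384451, 236827216099580205365686713851250723),
  (633044035130924871176421248331949120, 941929815112037261769193132747161986, 236827216099580205365686713851250723),
  (818214171636066743786315063106734118, 720652567860174332695997749320066118, 236827216099580205365686713851250723),
  (315852320610319672293222219982570788, 591543258427464601627598006375219340, 837840014311475647446927239022839080),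
  (321211932081076068427617334756541731, 237045989295214992645287482464154630, 837840014311475647446927239022839080),
  (645718010089347887591293021600228419, 305766605821218996981788396178771974, 837840014311475647446927239022839080),
  (731412378920986750169470416032236850, 633044035130924871176421248331949120, 837840014311475647446927239022839080)]

def tA : ℕ := 975692405299157975170201852683125842

def i1 : ℕ := 222763806235251876727095980483424848

def i2 : ℕ := 892727931651526548708284004981325932

def TA : List ℕ := [
  984818244535754528103549039458486304,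
  975692405299157975170201852683125842]

def TB : List ℕ := [
  984818244535754528103549039458486304,
  222763806235251876727095980483424848,
  892727931651526548708284004981325932,
  802422477688099770517826178215641346]

def RA : List ℕ := [0, 1, 4, 5, 7, 9, 11, 15]

def WA : List (ℕ × List ℕ) := [
  (0, []),
  (1, []),
  (1, [1]),
  (0, [0]),
  (2, []),
  (3, []),
  (0, [0, 0]),
  (4, []),
  (2, [0, 0]),
  (5, []),
  (4, [1, 0]),
  (6, []),
  (2, [0]),
  (0, [1, 0]),
  (4, [1]),
  (7, []),
  (0, [1, 0, 0]),
  (4, [0]),
  (0, [1]),
  (3, [0]),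
  (4, [0, 0]),
  (4, [1, 0, 0]),
  (7, [1]),
  (3, [0, 0])]

def GA : List ℕ := [
  975692405299157975170201852683125842,
  227465604054691647584813746856920141,
  809402720193452661600991448448697424,
  236827216099580205365686713851250723,
  818214171636066743786315063106734118,
  984818244535754528103549039458486304]

def AA : List (ℕ × ℕ × ℕ) := [
  (975692405299157975170201852683125842, 230336373448451494282973972637224358, 470479865200664830672796467467433062)]

def RB : List ℕ := [0, 5]

def WB : List (ℕ × List ℕ) := [
  (0, []),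
  (0, [2, 1, 0]),
  (0, [2, 1]),
  (0, [1, 0]),
  (0, [0, 0]),
  (1, []),
  (0, [1, 0, 0]),
  (1, [2, 0]),
  (0, [0]),
  (0, [2, 1, 0, 0]),
  (1, [2, 1, 0, 0]),
  (1, [1, 0, 0]),
  (0, [2]),
  (0, [2, 0, 0]),
  (1, [2, 1, 0]),
  (1, [2, 0, 0]),
  (0, [1]),
  (1, [0]),
  (0, [2, 0]),
  (1, [2]),
  (1, [1, 0]),
  (1, [2, 1]),
  (1, [0, 0]),
  (1, [1])]

def GB : List ℕ := [
  228037313933376711440625735444989996,
  856135019850068049769863629336944786,
  731412378920986750169470416032236850,
  932470447255308505520342361994959369,
  424943974115471871544644122028612109,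
  818729453421415856756841558162620512,
  612095527344286754264722539412758659,
  442264889628045913836924962079838214,
  804368882378813590520974175466227760,
  479424798623187070633991708393088068,
  645613581872029928836614272156310020,
  466930624399374661585309288976879629,
  318737599389563560761597403249156225,
  975082745722141798461971787009851660,
  969159657229396409660098637674426946,
  607025310096926213538528732631043282,
  222763806235251876727095980483424848,
  892727931651526548708284004981325932,
  923343209352217333438465373544391757,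
  736320487919590350842314073605032355,
  438086559049294619157622469798475140,
  886806035526443746199189271856840976,
  802422477688099770517826178215641346,
  837840014311475647446927239022839080,
  298089872906517186899757486121061576,
  734251409754443719756728918348008641,
  901652899127321154220536609990816320,
  649467713286271253425803885429531718,
  221627932882356180853272630671982690,
  321211932081076068427617334756541731,
  984818244535754528103549039458486304,
  475733663137955863577073398419305865,
  940420941447763632608699053474067846,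
  588325050031967934635157566066575784,
  642165629803826464901743122304077833,
  858325632545765081255417006942013857]

def AB : List (ℕ × ℕ × ℕ) := [
  (222763806235251876727095980483424848, 652347741100061557169914214413831360, 320197908119674142562552882269558816),
  (892727931651526548708284004981325932, 944334554731352033220641466060509185, 735019729089100402266245758788739200),
  (802422477688099770517826178215641346, 591488990703497657078718177494578214, 440885950470826959026731807334746531)]

end Cfsg.Agent.OddHalf.NI3.ExM12Data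

end

-- merged: Cfsg.Agent.OddHalf.NI3.Bad.ExM12
section

/-!
# (EX4), row `M12`: triples (helper941)

`pair` : all pairs of commuting elements of order 2 and 3 of `M12` are fine (`ExTri.Pair`).
-/

set_option autoImplicit false

namespace Cfsg.Agent.OddHalf.NI3.ExM12

open scoped Pointwise
open Subgroup Cfsg Cfsg.Agent.SporadicA.GolayBase Cfsg.Agent.SporadicA.GolayPerm
open Cfsg.Agent.SporadicStructure.M24El Cfsg.Agent.KFacts.MM
open Cfsg.Agent.OddHalf.NI3.ExTri Cfsg.Agent.OddHalf.NI3.TriM24 Cfsg.Agent.OddHalf.NI3.IntM24
open Cfsg.Agent.OddHalf.NI3.ExM12Data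

/-- the dodecad -/
def dM : ℕ := 340831

theorem maskOf_dod : maskOf Spor.squareDodecad = dM := by
  rw [MTwelveType.SylowModel.squareDodecad_eq]
  decide +kernel

/-- Boolean test for membership in `M12` -/
def ok12 (P : ℕ) : Bool := isPerm P && isAut P && Nat.beq (pimg P dM) dM

/-- the points of the dodecad are preserved -/
def adm (j a : ℕ) : Bool := Nat.testBit dM j == Nat.testBit dM a

theorem mem_iff {g : Equiv.Perm GolayPt} : g ∈ Spor.M12 ↔ g ∈ M24 ∧ g • Spor.squareDodecad = Spor.squareDodecad := by
  have h1 : g ∈ MulAction.stabilizer (Equiv.Perm GolayPt) Spor.squareDodecad ↔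
      g • Spor.squareDodecad = Spor.squareDodecad := MulAction.mem_stabilizer_iff
  rw [← h1]
  exact mem_inf

theorem of_ok12 (P : ℕ) (h : ok12 P = true) : isPerm P = true ∧ El.pm P ∈ Spor.M12 := by
  unfold ok12 at h
  rw [Bool.and_eq_true, Bool.and_eq_true, Nat.beq_eq] at h
  obtain ⟨⟨h1, h2⟩, h3⟩ := h
  refine ⟨h1, mem_iff.2 ⟨El.pm_mem_M24 h1 h2, ?_⟩⟩
  apply maskOf_injective
  rw [El.pm_eq h1, maskOf_smul h1, maskOf_dod, h3]

theorem adm_of {g : Equiv.Perm GolayPt} (hg : g ∈ Spor.M12) (j : ℕ) (hj : j < 24) :
    adm j (El.val g j) = true := by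
  unfold adm
  rw [beq_iff_eq, ← maskOf_dod]
  have h1 : ∀ p : GolayPt, (maskOf Spor.squareDodecad).testBit (idx p) = true ↔ p ∈ Spor.squareDodecad := by
    intro p
    rw [testBit_maskOf, decide_eq_true_eq]
  have h2 : El.val g j = idx (g (pt j)) := rfl
  have h3 : j = idx (pt j) := (idx_pt hj).symm
  rw [Bool.eq_iff_iff, h2, h1]
  nth_rw 1 [h3]
  rw [h1]
  have h4 := (mem_iff.1 hg).2
  constructor
  · intro h5
    rw [← h4]
    exact Finset.smul_mem_smul_finset h5
  · intro h5
    rw [← h4] at h5
    obtain ⟨q, hq, hqe⟩ := Finset.mem_smul_finset.1 h5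
    rwa [← g.injective hqe]

theorem chkA1 : chkN adm vA [tA] TA [[0], [0, 0]] RA WA [[0], [1], [0, 0], [1, 0]] GA = true := by decide +kernel

theorem chkB1 : chkN adm vB [i1, i2] TB [[0], [0, 0], [1], [1, 1], [0, 1]] RB WB [] GB = true := by decide +kernel

theorem chkA2 : chkA ok12 vA TA AA = true := by decide +kernel

theorem chkB2 : chkA ok12 vB TB AB = true := by decide +kernel

theorem chk3 : chkE ok12 [vA, vB] EL CL = true := by decide +kernel

theorem chk4 : chkG EL = true := by decide +kernel

theorem chk5 : El.dist (EL.map fun P => [P]) = true := by decide +kernel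

theorem chk6 : EL.all ok12 = true := by decide +kernel

theorem chkA7 : ok12 vA = true := by decide +kernel

theorem chkB7 : ok12 vB = true := by decide +kernel

theorem chkA8 : El.weq [vA, vA, vA] [] = true := by decide +kernel

theorem chkB8 : El.weq [vB, vB, vB] [] = true := by decide +kernel

theorem chkA9 : TA.all ok12 = true := by decide +kernel

theorem chkB9 : TB.all ok12 = true := by decide +kernel

theorem goodA : GoodCls (Spor.M12.subgroupOf Spor.M12) (⟨El.pm vA, (of_ok12 vA chkA7).2⟩ : Spor.M12) :=
  goodCls' (fun _ hg => (mem_iff.1 hg).1) (fun _ hg j hj => adm_of hg j hj) le_rfl of_ok12 of_ok12 chkA7 chkA8 chkA9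
    chkA1 chkA2

theorem goodB : GoodCls (Spor.M12.subgroupOf Spor.M12) (⟨El.pm vB, (of_ok12 vB chkB7).2⟩ : Spor.M12) :=
  goodCls' (fun _ hg => (mem_iff.1 hg).1) (fun _ hg j hj => adm_of hg j hj) le_rfl of_ok12 of_ok12 chkB7 chkB8 chkB9
    chkB1 chkB2

/-- the elements of order 3 of `M12` -/
theorem rep (b : Spor.M12) (hb : b * b * b = 1) (hb1 : b ≠ 1) :
    ∃ w : Spor.M12, w * b * w⁻¹ = (⟨El.pm vA, (of_ok12 vA chkA7).2⟩ : Spor.M12) ∨
      w * b * w⁻¹ = (⟨El.pm vB, (of_ok12 vB chkB7).2⟩ : Spor.M12) := by
  have hV : ∀ P ∈ [vA, vB], ok12 P = true := by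
    intro P hP
    rcases List.mem_cons.1 hP with rfl | hP
    · exact chkA7
    · rw [List.mem_singleton.1 hP]
      exact chkB7
  obtain ⟨P, hP, w, hw⟩ := exists_rep (D := Spor.M12) of_ok12 chk3 chk4 chk5
    (fun P hP => (of_ok12 P (List.all_eq_true.1 chk6 P hP)).2) (fun P hP => (of_ok12 P (hV P hP)).1)
    (fun P hP => (of_ok12 P (hV P hP)).2) (k := 3) (m := 3520) (by decide)
    (by rw [MTwelveType.SylowModel.card_M12]; norm_num) (by norm_num) b hb hb1
  refine ⟨w, ?_⟩
  rcases List.mem_cons.1 hP with rfl | hP'
  · left; exact hw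
  · right
    obtain rfl := List.mem_singleton.1 hP'
    exact hw

/-- **triples of `M12`** -/
theorem pair : ∀ g b : Spor.M12, g * g = 1 → g ≠ 1 → b * b * b = 1 → b ≠ 1 → g * b = b * g →
    Pair (Spor.M12.subgroupOf Spor.M12) g b := by
  haveI hn : (Spor.M12.subgroupOf Spor.M12).Normal := by
    rw [subgroupOf_self]; infer_instance
  apply all_of_cls
  intro b hb hb1
  obtain ⟨w, hw | hw⟩ := rep b hb hb1
  · exact ⟨_, goodA, w, Or.inl hw⟩
  · exact ⟨_, goodB, w, Or.inl hw⟩

end Cfsg.Agent.OddHalf.NI3.ExM12

end

-- merged: Cfsg.Agent.OddHalf.NI3.Ex4.RowM12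
section

/-!
# (EX4), row `M12` (helper941)
-/

set_option autoImplicit false

namespace Cfsg.Agent.OddHalf.NI3.Ex4

open Subgroup Cfsg Cfsg.Agent.OddHalf.NI3.ExTri

universe u

/-- the triples of `M12` -/
theorem twoTriI_m12 : TwoTriI Spor.M12 := by
  intro w β h1 h2 h3 h4 h5
  have hinner : β ∈ (MulAut.conj : Spor.M12 →* MulAut Spor.M12).range := by
    apply CoThreeStd.M12.Out.inner_of_odd_of_equiv CoThreeStd.M12.equiv (k := 3) (by decide)
    rw [pow_succ, pow_succ, pow_one]
    exact h3
  obtain ⟨b, rfl⟩ := hinner
  have hZ : ∀ x : Spor.M12, MulAut.conj x = 1 → x = 1 := by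
    intro x hx
    have hxZ : x ∈ center Spor.M12 := by
      rw [mem_center_iff]
      intro g
      have h3 := DFunLike.congr_fun hx g
      rw [MulAut.conj_apply, MulAut.one_apply, mul_inv_eq_iff_eq_mul] at h3
      exact h3.symm
    rw [Omega.TwoF.RowM12.center_eq, mem_bot] at hxZ
    exact hxZ
  have b3 : b * b * b = 1 := hZ _ (by rw [map_mul, map_mul]; exact h3)
  have b1 : b ≠ 1 := by
    rintro rfl
    exact h4 (map_one _)
  have hwb : w * b = b * w := by
    rw [MulAut.conj_apply, mul_inv_eq_iff_eq_mul] at h5
    exact h5.symm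
  have htr : ∀ x : Spor.M12, Tri (MulAut.conj w) (MulAut.conj b) x ↔ TriW w b x := by
    intro x
    constructor
    · intro t
      refine ⟨?_, t.sq, t.ne, t.tri⟩
      have := t.fix
      rw [MulAut.conj_apply, mul_inv_eq_iff_eq_mul] at this
      exact this.symm
    · intro t
      refine ⟨?_, t.sq, t.ne, t.tri⟩
      rw [MulAut.conj_apply, mul_inv_eq_iff_eq_mul]
      exact t.comm.symm
  rcases ExM12.pair w b h1 h2 b3 b1 hwb with h | ⟨a, ha, c, hc, ta, tc, n1, n2, n3⟩
  · left
    intro x hx
    exact h x (mem_subgroupOf.2 x.2) ((htr x).1 hx)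
  · right
    exact ⟨a, c, (htr a).2 ta, (htr c).2 tc, n1, n2, n3⟩

/-- **(EX4), row `M12`** -/
theorem row_m12 {X : Type u} [Group X] (h : Spor.IsoM12 X) : Row4 X := by
  obtain ⟨e⟩ := h
  haveI : Finite X := Finite.of_equiv _ e.symm.toEquiv
  exact row4_of_twoTriI (center_eq_bot_of_equiv e Omega.TwoF.RowM12.center_eq) (twoTriI_of_iso e.symm twoTriI_m12)

end Cfsg.Agent.OddHalf.NI3.Ex4

end
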