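import Cfsg.Agent.OddHalf.NI3.Ex4.Tri
import Cfsg.Agent.StandardComponent.SpTwoModel

-- merged: Cfsg.Agent.OddHalf.NI3.Ex4.Quad
section

/-!
# (EX4): the criterion with a quaternion group (helper941)

`not_bad_of_quad`: if `i` is fixed by `α`, `β(i) i = β²(i)`, `i² ≠ 1` (then `⟨i, β(i)⟩ = Q₈`) then there is no
counterexample `A`.

`TwoTriQ X` : for all pairs (inner involution `w`, inner `β` of order 3): two triples in different orbits, or a
quaternion group; `row4_of_twoTriQ` : if all automorphisms of order 3 are inner it implies `Row4 X`.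
-/

set_option autoImplicit false

namespace Cfsg.Agent.OddHalf.NI3.Ex4

open Subgroup Cfsg Cfsg.Agent.OddHalf.NI3.ExTri Cfsg.Agent.OddHalf.NI3.ExFour

universe u

section

variable {X : Type*} [Group X] [Finite X] {α β : MulAut X} {A : Subgroup X}

omit [Finite X] in
theorem quad_rel {i j k : X} (e1 : j * i = k) (e2 : k * j = i) (e3 : i * k = j) :
    j * i * j⁻¹ = i⁻¹ ∧ j * j = i * i ∧ i * i * (i * i) = 1 := by
  have f1 : j * i * j = i := by rw [e1, e2]
  have f2 : i * j * i = j := by rw [mul_assoc, e1, e3]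
  have f3 : j * j = i * i := by
    calc j * j = i * j * i * j := by rw [f2]
      _ = i * (j * i * j) := by group
      _ = i * i := by rw [f1]
  have f4 : j * i * j⁻¹ = i⁻¹ := by
    calc j * i * j⁻¹ = j * i * j * (j * j)⁻¹ := by group
      _ = i * (i * i)⁻¹ := by rw [f1, f3]
      _ = i⁻¹ := by group
  refine ⟨f4, f3, ?_⟩
  have f5 : i * i = (i * i)⁻¹ := by
    calc i * i = j * (j * j) * j⁻¹ := by rw [f3.symm]; group
      _ = (j * i * j⁻¹) * (j * i * j⁻¹) := by rw [f3]; group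
      _ = (i * i)⁻¹ := by rw [f4]; group
  nth_rw 2 [f5]
  group

theorem pgroup_zpowers {i : X} (h : i * i * (i * i) = 1) : IsPGroup 2 (zpowers i) := by
  rintro ⟨x, hx⟩
  obtain ⟨k, rfl⟩ := mem_zpowers_iff.1 hx
  refine ⟨2, Subtype.ext ?_⟩
  push_cast
  have h4 : i ^ 4 = 1 := by
    rw [show 4 = 2 * 2 from rfl, pow_mul, pow_two, pow_two]
    exact h
  rw [← zpow_natCast, ← zpow_mul, mul_comm, zpow_mul, zpow_natCast, h4, one_zpow]

theorem not_bad_of_quad (hZ : center X = ⊥) {i : X} (hf : α i = i) (hr : β i * i = β (β i)) (h2 : i * i ≠ 1) :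
    ¬ Bad α β A := by
  intro h
  haveI : Fact (Nat.Prime 2) := ⟨Nat.prime_two⟩
  have hc : β (β (β i)) = i := h.cube_apply i
  have e2 : β (β i) * β i = i := by rw [← map_mul, hr, hc]
  have e3 : i * β (β i) = β i := by
    have := congrArg β e2
    rwa [map_mul, hc] at this
  obtain ⟨f1, f2, f3⟩ := quad_rel hr e2 e3
  have g3 : β i * β i * (β i * β i) = 1 := by rw [f2, f3]
  have hiB : i ∈ zpowers i ⊔ zpowers (β i) := mem_sup_left (mem_zpowers i)
  have hjB : β i ∈ zpowers i ⊔ zpowers (β i) := mem_sup_right (mem_zpowers _)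
  have hB : IsPGroup 2 (zpowers i ⊔ zpowers (β i) : Subgroup X) := by
    apply IsPGroup.to_sup_of_normal_left' (pgroup_zpowers f3) (pgroup_zpowers g3)
    rw [zpowers_le]
    have h4 : MulAut.conj (β i) i ∈ zpowers i := by
      rw [MulAut.conj_apply, f1]
      exact inv_mem (mem_zpowers i)
    have h5 : (zpowers i).map (MulAut.conj (β i) : X →* X) ≤ zpowers i := by
      rw [MonoidHom.map_zpowers, zpowers_le]
      exact h4
    have h6 : (zpowers i).map (MulAut.conj (β i) : X →* X) = zpowers i := by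
      apply eq_of_le_of_card_ge h5
      rw [card_map_of_injective (MulAut.conj (β i)).injective]
    rw [mem_normalizer_iff]
    intro x
    constructor
    · intro hx
      exact h5 ⟨x, hx, rfl⟩
    · intro hx
      rw [← h6] at hx
      obtain ⟨y, hy, e⟩ := hx
      have e' : β i * y * (β i)⁻¹ = β i * x * (β i)⁻¹ := e
      rw [mul_left_inj, mul_right_inj] at e'
      rw [← e']
      exact hy
  have key : i⁻¹ * β i ∈ A := by
    refine h.mem_of_two hZ hB ?_ ?_ hiB
    · have h4 : zpowers i ⊔ zpowers (β i) ≤ fx α := by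
        rw [sup_le_iff, zpowers_le, zpowers_le]
        exact ⟨hf, h.fx_stab hf⟩
      intro b hb
      exact h4 hb
    · have h4 : (zpowers i ⊔ zpowers (β i)).map (β : X →* X) ≤ zpowers i ⊔ zpowers (β i) := by
        rw [Subgroup.map_sup, MonoidHom.map_zpowers, MonoidHom.map_zpowers, sup_le_iff, zpowers_le, zpowers_le]
        refine ⟨hjB, ?_⟩
        change β (β i) ∈ _
        rw [← hr]
        exact mul_mem hjB hiB
      intro b hb
      exact h4 ⟨b, hb, rfl⟩
  have h7 : i⁻¹ * β i = β i * i := by rw [← f1]; group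
  have h8 := h.inv _ key
  rw [h7, hr, ← map_mul, ← map_mul] at h8
  apply h2
  have h9 : β (i * i) = 1 := β.injective (by rw [h8, map_one])
  exact β.injective (by rw [h9, map_one])

end

/-- pairs (inner involution `w`, inner `β` of order 3): two triples in different orbits, or a quaternion group -/
def TwoTriQ (X : Type*) [Group X] : Prop :=
  ∀ w b : X, w * w = 1 → w ≠ 1 → b * b * b = 1 → b ≠ 1 → w * b = b * w →
    (∃ a c, TriW w b a ∧ TriW w b c ∧ c ≠ a ∧ c ≠ b * a * b⁻¹ ∧ c ≠ b * (b * a * b⁻¹) * b⁻¹) ∨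
    ∃ i, i * w = w * i ∧ b * i * b⁻¹ * i = b * (b * i * b⁻¹) * b⁻¹ ∧ i * i ≠ 1

theorem twoTriQ_of_iso {X Y : Type*} [Group X] [Group Y] (e : X ≃* Y) (h : TwoTriQ X) : TwoTriQ Y := by
  intro w b h1 h2 h3 h4 h5
  have key := h (e.symm w) (e.symm b) (by rw [← map_mul, h1, map_one])
    (fun hc => h2 (e.symm.injective (by rw [hc, map_one]))) (by rw [← map_mul, ← map_mul, h3, map_one])
    (fun hc => h4 (e.symm.injective (by rw [hc, map_one]))) (by rw [← map_mul, ← map_mul, h5])
  have hb : e (e.symm b) = b := e.apply_symm_apply b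
  have hw : e (e.symm w) = w := e.apply_symm_apply w
  have htr : ∀ x : X, TriW (e.symm w) (e.symm b) x → TriW w b (e x) := by
    intro x t
    refine ⟨?_, by rw [← map_mul, t.sq, map_one], fun hc => t.ne (e.injective (by rw [hc, map_one])), ?_⟩
    · have := congrArg e t.comm
      rwa [map_mul, map_mul, hw] at this
    · have := congrArg e t.tri
      simpa only [map_mul, map_inv, hb, map_one] using this
  rcases key with ⟨a, c, ta, tc, n1, n2, n3⟩ | ⟨i, i1, i2, i3⟩
  · left
    refine ⟨e a, e c, htr a ta, htr c tc, fun hh => n1 (e.injective hh), fun hh => n2 (e.injective ?_),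
      fun hh => n3 (e.injective ?_)⟩
    · rw [hh]; simp only [map_mul, map_inv, hb]
    · rw [hh]; simp only [map_mul, map_inv, hb]
  · right
    refine ⟨e i, ?_, ?_, fun hc => i3 (e.injective (by rw [map_mul, hc, map_one]))⟩
    · have := congrArg e i1
      rwa [map_mul, map_mul, hw] at this
    · have := congrArg e i2
      simpa only [map_mul, map_inv, hb] using this

theorem tri_iff {X : Type*} [Group X] {w b x : X} : Tri (MulAut.conj w) (MulAut.conj b) x ↔ TriW w b x := by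
  constructor
  · intro t
    refine ⟨?_, t.sq, t.ne, t.tri⟩
    have := t.fix
    rw [MulAut.conj_apply, mul_inv_eq_iff_eq_mul] at this
    exact this.symm
  · intro t
    refine ⟨?_, t.sq, t.ne, t.tri⟩
    rw [MulAut.conj_apply, mul_inv_eq_iff_eq_mul]
    exact t.comm.symm

/-- **the row from triples and quaternion groups** -/
theorem row4_of_twoTriQ {X : Type u} [Group X] [Finite X] (hZ : center X = ⊥)
    (hin : ∀ β : MulAut X, β * β * β = 1 → ∃ b, β = MulAut.conj b) (h : TwoTriQ X) : Row4 X := by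
  intro w β A C N _ _ f _ _ _ _ a b l _ _ _ _ _ _ _
  have hinj : ∀ x : X, MulAut.conj x = 1 → x = 1 := by
    intro x hx
    have hxZ : x ∈ center X := by
      rw [mem_center_iff]
      intro g
      have h3 := DFunLike.congr_fun hx g
      rw [MulAut.conj_apply, MulAut.one_apply, mul_inv_eq_iff_eq_mul] at h3
      exact h3.symm
    rw [hZ, mem_bot] at hxZ
    exact hxZ
  have hbad : Bad (MulAut.conj w) β A := by
    refine bad_of ?_ (fun h1 => C.w1 (hinj w h1)) C.b3 ?_ ?_ C.A2 C.A4 C.bA C.bne ?_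
    · rw [← map_mul, C.ww, map_one]
    · ext x
      simp only [MulAut.mul_apply, MulAut.conj_apply, map_mul, map_inv, C.bw]
    · intro x hx
      rw [MulAut.conj_apply, mul_inv_eq_iff_eq_mul, C.Aw x hx]
    · rw [fix_conj]; exact C.sn
  obtain ⟨b', rfl⟩ := hin β C.b3
  have b3 : b' * b' * b' = 1 := hinj _ (by rw [map_mul, map_mul]; exact C.b3)
  have b1 : b' ≠ 1 := by
    rintro rfl
    exact hbad.beta_ne (map_one _)
  have hwb : w * b' = b' * w := by
    have h5 := C.bw
    rw [MulAut.conj_apply, mul_inv_eq_iff_eq_mul] at h5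
    exact h5.symm
  rcases h w b' C.ww C.w1 b3 b1 hwb with ⟨a, c, ta, tc, n1, n2, n3⟩ | ⟨i, i1, i2, i3⟩
  · exact not_bad_of_ok hZ (Or.inr ⟨a, c, tri_iff.2 ta, tri_iff.2 tc, n1, n2, n3⟩) hbad
  · refine not_bad_of_quad hZ (i := i) ?_ i2 i3 hbad
    rw [MulAut.conj_apply, mul_inv_eq_iff_eq_mul]
    exact i1.symm

end Cfsg.Agent.OddHalf.NI3.Ex4

end

-- merged: Cfsg.Agent.OddHalf.NI3.Ex4.SpSix
section

/-!
# (EX4), row `Sp₆(2)`: triples and quaternion groups (helper941)

`D : SpData X V`, `|V| = 64`, `w` an involution, `b` of order 3, `w b = b w`; `N v = v + b v + b² v`, `q v = B(v, b v)`.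
`main` : there are two triples in different orbits, or a quaternion group (`TwoTriQ X`).
-/

set_option autoImplicit false

namespace Cfsg.Agent.OddHalf.NI3.Ex4.SpSix

open Subgroup Cfsg Cfsg.Agent.OddHalf.NI3.ExTri
open Cfsg.Agent.StandardComponent.SpTwo

variable {X V : Type*} [Group X] [AddCommGroup V] [Module (ZMod 2) V] (D : SpData X V) {w b : X}

/-- the norm is zero -/
def Nz (b : X) (u : V) : Prop := D.ρ b (D.ρ b u) = u + D.ρ b u

theorem Nz.next {u : V} (h : Nz D b u) : Nz D b (D.ρ b u) := by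
  unfold Nz at h ⊢
  rw [h, map_add, h]

theorem Nz.add {u v : V} (h : Nz D b u) (h' : Nz D b v) : Nz D b (u + v) := by
  unfold Nz at *
  rw [map_add, map_add, h, h']
  abel

theorem cube (h3 : b * b * b = 1) (u : V) : D.ρ b (D.ρ b (D.ρ b u)) = u := by
  rw [← D.ρ_mul, ← D.ρ_mul, h3, D.ρ_one]

/-- `(u, b v) = (b² u, v)` -/
theorem adj (h3 : b * b * b = 1) (u v : V) : D.B u (D.ρ b v) = D.B (D.ρ b (D.ρ b u)) v := by
  rw [← D.inv b (D.ρ b (D.ρ b u)) v, cube D h3]

theorem adj' (h3 : b * b * b = 1) (u v : V) : D.B (D.ρ b u) v = D.B u (D.ρ b (D.ρ b v)) := by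
  rw [← D.inv b u (D.ρ b (D.ρ b v)), cube D h3]

theorem Nz.bnext (h3 : b * b * b = 1) {u : V} (h : Nz D b u) {v : V} (h1 : D.B u v = 0)
    (h2 : D.B u (D.ρ b v) = 0) : D.B (D.ρ b u) v = 0 := by
  rw [adj D h3, h, map_add, LinearMap.add_apply, h1, zero_add] at h2
  exact h2

/-- a fixed vector is orthogonal to the vectors of norm zero -/
theorem fix_perp (h3 : b * b * b = 1) {x u : V} (hx : D.ρ b x = x) (hu : Nz D b u) : D.B x u = 0 := by
  have h1 : D.B x (D.ρ b u) = D.B x u := by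
    rw [adj D h3, hx, hx]
  have h2 : D.B x (D.ρ b (D.ρ b u)) = D.B x u := by
    rw [adj D h3, hx, hx, h1]
  rw [hu, map_add, h1] at h2
  rcases z2 (D.B x u) with h | h
  · exact h
  · rw [h] at h2
    exact absurd h2 (by decide)

theorem Nz.ne {u : V} (h : Nz D b u) (hu : u ≠ 0) : D.ρ b u ≠ u := by
  intro e
  unfold Nz at h
  rw [e, e, aa] at h
  exact hu h

theorem fix_ne {x : V} (hx : D.ρ b x = x) (h : Nz D b x) : x = 0 := by
  by_contra h0
  exact Nz.ne D h h0 hx

theorem next_ne {u : V} (hu : u ≠ 0) : D.ρ b u ≠ 0 := by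
  intro e
  apply hu
  apply D.ρ_inj b
  rw [e, map_zero]

theorem conj_mul2 (b x y : X) : b * (x * y) * b⁻¹ = (b * x * b⁻¹) * (b * y * b⁻¹) := by group

theorem w_next (hwb : w * b = b * w) {u : V} (hu : D.ρ w u = u) : D.ρ w (D.ρ b u) = D.ρ b u := by
  rw [← D.ρ_mul, hwb, D.ρ_mul, hu]

theorem comm_τ {u : V} (hu : D.ρ w u = u) : D.τ u * w = w * D.τ u := (D.τ_commute_of_fix hu).eq

theorem τ_ne {u v : V} (h : u ≠ v) : D.τ u * D.τ v ≠ 1 := by
  intro e
  apply h
  apply D.τ_injective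
  calc D.τ u = D.τ u * D.τ v * D.τ v := by rw [mul_assoc, D.τ_sq, mul_one]
    _ = D.τ v := by rw [e, one_mul]

/-! ### Triples -/

/-- the triple `τ(u) τ(b u)`, `u` singular -/
theorem tri1 (hwb : w * b = b * w) {u : V} (hw : D.ρ w u = u) (hu : D.B u (D.ρ b u) = 0) (hne : D.ρ b u ≠ u)
    (h3 : b * b * b = 1) : TriW w b (D.τ u * D.τ (D.ρ b u)) := by
  refine ⟨?_, ?_, τ_ne D hne.symm, ?_⟩
  · rw [mul_assoc, comm_τ D (w_next D hwb hw), ← mul_assoc, comm_τ D hw, mul_assoc]
  · calc D.τ u * D.τ (D.ρ b u) * (D.τ u * D.τ (D.ρ b u)) =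
          D.τ u * (D.τ (D.ρ b u) * D.τ u) * D.τ (D.ρ b u) := by group
      _ = (D.τ u * D.τ u) * (D.τ (D.ρ b u) * D.τ (D.ρ b u)) := by rw [← D.τ_commute hu]; group
      _ = 1 := by rw [D.τ_sq, D.τ_sq, mul_one]
  · rw [conj_mul2, D.conj_τ, D.conj_τ, conj_mul2, D.conj_τ, D.conj_τ, cube D h3]
    calc D.τ u * D.τ (D.ρ b u) * (D.τ (D.ρ b u) * D.τ (D.ρ b (D.ρ b u))) * (D.τ (D.ρ b (D.ρ b u)) * D.τ u) =
          D.τ u * (D.τ (D.ρ b u) * D.τ (D.ρ b u)) * (D.τ (D.ρ b (D.ρ b u)) * D.τ (D.ρ b (D.ρ b u))) * D.τ u := by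
          group
      _ = 1 := by rw [D.τ_sq, D.τ_sq, mul_one, mul_one, D.τ_sq]

/-- `v ↦ v + (v,u) x + (v,x) u` -/
def s (u x : V) : X := D.τ u * D.τ x * D.τ (u + x)

theorem s_apply {u x : V} (h : D.B u x = 0) (v : V) : D.ρ (s D u x) v = v + D.B v u • x + D.B v x • u := by
  have h' : D.B x u = 0 := by rw [D.symm, h]
  unfold s
  simp only [D.ρ_mul, D.hτ, map_add, map_smul, LinearMap.add_apply, LinearMap.smul_apply, D.alt, h, h',
    smul_eq_mul, mul_zero, add_zero]
  rcases z2 (D.B v u) with p | p <;> rcases z2 (D.B v x) with q | q <;>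
    simp [p, q, add_assoc, add_left_comm, add_comm, aac, aa]

/-- `v ↦ v + (v,u) x + (v,x) u + (v,x) x` -/
theorem t_apply {u x : V} (h : D.B u x = 0) (v : V) :
    D.ρ (D.τ u * D.τ (u + x)) v = v + D.B v u • x + D.B v x • u + D.B v x • x := by
  have h' : D.B x u = 0 := by rw [D.symm, h]
  simp only [D.ρ_mul, D.hτ, map_add, map_smul, LinearMap.add_apply, LinearMap.smul_apply, D.alt, h, h',
    smul_eq_mul, mul_zero, add_zero]
  rcases z2 (D.B v u) with p | p <;> rcases z2 (D.B v x) with q | q <;>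
    simp [p, q, add_assoc, add_left_comm, add_comm, aac, aa]

theorem conj_s (g : X) (u x : V) : g * s D u x * g⁻¹ = s D (D.ρ g u) (D.ρ g x) := by
  unfold s
  rw [conj_mul2, conj_mul2, D.conj_τ, D.conj_τ, D.conj_τ, map_add]

theorem comm_s {u x : V} (hu : D.ρ w u = u) (hx : D.ρ w x = x) : s D u x * w = w * s D u x := by
  have h1 : D.ρ w (u + x) = u + x := by rw [map_add, hu, hx]
  unfold s
  rw [mul_assoc, comm_τ D h1, mul_assoc, ← mul_assoc (D.τ x), comm_τ D hx, ← mul_assoc, ← mul_assoc, comm_τ D hu]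
  group

theorem s_sq {u x : V} (h : D.B u x = 0) : s D u x * s D u x = 1 := by
  have h' : D.B x u = 0 := by rw [D.symm, h]
  apply D.ext_iff
  intro v
  rw [D.ρ_mul, s_apply D h, s_apply D h, D.ρ_one]
  simp only [map_add, map_smul, LinearMap.add_apply, LinearMap.smul_apply, D.alt, h, h', smul_eq_mul, mul_zero,
    add_zero]
  rcases z2 (D.B v u) with p | p <;> rcases z2 (D.B v x) with q | q <;>
    simp [p, q, add_assoc, add_left_comm, add_comm, aac, aa]

/-- the triple `s(u, x)`, `u` singular, `x` fixed -/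
theorem tri3 (h3 : b * b * b = 1) {u x : V} (hw : D.ρ w u = u) (hx : D.ρ w x = x)
    (hu : D.B u (D.ρ b u) = 0) (hn : Nz D b u) (hbx : D.ρ b x = x) (hx0 : x ≠ 0) (hu0 : u ≠ 0) :
    TriW w b (s D u x) := by
  have h1 : D.B u x = 0 := by rw [D.symm]; exact fix_perp D h3 hbx hn
  have h2 : D.B (D.ρ b u) x = 0 := by rw [D.symm]; exact fix_perp D h3 hbx hn.next
  have h2' : D.B (D.ρ b (D.ρ b u)) x = 0 := by rw [D.symm]; exact fix_perp D h3 hbx hn.next.next
  refine ⟨comm_s D hw hx, s_sq D h1, ?_, ?_⟩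
  · intro e
    have hux : u ≠ x := by
      rintro rfl
      exact hu0 (fix_ne D hbx hn)
    obtain ⟨v, hv1, hv2⟩ := D.exists_sep hu0 hux
    have h4 := s_apply D h1 v
    rw [e, D.ρ_one, hv1, hv2, one_smul, zero_smul, add_zero] at h4
    apply hx0
    have h5 := congrArg (fun y => v + y) h4
    simp only [aac, aa] at h5
    exact h5.symm
  · rw [conj_s, conj_s, hbx, hbx]
    have hn' : D.ρ b (D.ρ b u) = u + D.ρ b u := hn
    have hxu : D.B x u = 0 := by rw [D.symm, h1]
    have hxbu : D.B x (D.ρ b u) = 0 := by rw [D.symm, h2]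
    have hbu : D.B (D.ρ b u) u = 0 := by rw [D.symm, hu]
    apply D.ext_iff
    intro v
    rw [D.ρ_mul, D.ρ_mul, s_apply D h2', s_apply D h2, s_apply D h1, D.ρ_one, hn']
    simp only [map_add, map_smul, LinearMap.add_apply, LinearMap.smul_apply, D.alt, h1, h2, hu, hxu, hxbu, hbu,
      smul_eq_mul, mul_zero, add_zero]
    rcases z2 (D.B v u) with p | p <;> rcases z2 (D.B v x) with q | q <;> rcases z2 (D.B v (D.ρ b u)) with r | r <;>
      simp [p, q, r, add_assoc, add_left_comm, add_comm, aac, aa]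

/-- the triple `τ(u) τ(u + x)`, `u` not singular, `x` fixed -/
theorem tri2 (h3 : b * b * b = 1) {u x : V} (hw : D.ρ w u = u) (hx : D.ρ w x = x)
    (hu : D.B u (D.ρ b u) = 1) (hn : Nz D b u) (hbx : D.ρ b x = x) (hx0 : x ≠ 0) :
    TriW w b (D.τ u * D.τ (u + x)) := by
  have h1 : D.B u x = 0 := by rw [D.symm]; exact fix_perp D h3 hbx hn
  have h2 : D.B (D.ρ b u) x = 0 := by rw [D.symm]; exact fix_perp D h3 hbx hn.next
  have h2' : D.B (D.ρ b (D.ρ b u)) x = 0 := by rw [D.symm]; exact fix_perp D h3 hbx hn.next.next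
  have hux : D.ρ w (u + x) = u + x := by rw [map_add, hw, hx]
  refine ⟨?_, ?_, ?_, ?_⟩
  · rw [mul_assoc, comm_τ D hux, ← mul_assoc, comm_τ D hw, mul_assoc]
  · have h4 : D.B u (u + x) = 0 := by rw [map_add, D.alt, h1, add_zero]
    calc D.τ u * D.τ (u + x) * (D.τ u * D.τ (u + x)) = D.τ u * (D.τ (u + x) * D.τ u) * D.τ (u + x) := by group
      _ = (D.τ u * D.τ u) * (D.τ (u + x) * D.τ (u + x)) := by rw [← D.τ_commute h4]; group
      _ = 1 := by rw [D.τ_sq, D.τ_sq, mul_one]
  · apply τ_ne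
    intro e
    apply hx0
    have h5 := congrArg (fun y => u + y) e
    simp only [aac, aa] at h5
    exact h5.symm
  · rw [conj_mul2, D.conj_τ, D.conj_τ, conj_mul2, D.conj_τ, D.conj_τ, map_add, map_add, hbx, hbx]
    have hn' : D.ρ b (D.ρ b u) = u + D.ρ b u := hn
    have hxu : D.B x u = 0 := by rw [D.symm, h1]
    have hxbu : D.B x (D.ρ b u) = 0 := by rw [D.symm, h2]
    have hbu : D.B (D.ρ b u) u = 1 := by rw [D.symm, hu]
    apply D.ext_iff
    intro v
    rw [D.ρ_mul, D.ρ_mul, t_apply D h2', t_apply D h2, t_apply D h1, D.ρ_one, hn']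
    simp only [map_add, map_smul, LinearMap.add_apply, LinearMap.smul_apply, D.alt, h1, h2, hu, hxu, hxbu, hbu,
      smul_eq_mul, mul_zero, add_zero, mul_one]
    rcases z2 (D.B v u) with p | p <;> rcases z2 (D.B v x) with q | q <;> rcases z2 (D.B v (D.ρ b u)) with r | r <;>
      simp [p, q, r, add_assoc, add_left_comm, add_comm, aac, aa]

/-! ### Two triples -/

/-- the conclusion -/
def Two (w b : X) : Prop :=
  ∃ a c, TriW w b a ∧ TriW w b c ∧ c ≠ a ∧ c ≠ b * a * b⁻¹ ∧ c ≠ b * (b * a * b⁻¹) * b⁻¹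

/-- `s(u, x)` is not a product of two transvections with centres in the space of norm zero -/
theorem s_ne {u x p q : V} (h : D.B u x = 0) (hbx : D.ρ b x = x) (hx0 : x ≠ 0) (hn : Nz D b u) (hu0 : u ≠ 0)
    (hp : Nz D b p) (hq : Nz D b q) : s D u x ≠ D.τ p * D.τ q := by
  intro e
  have hux : u ≠ x := by
    rintro rfl
    exact hu0 (fix_ne D hbx hn)
  obtain ⟨v, hv1, hv2⟩ := D.exists_sep hu0 hux
  have h4 := s_apply D h v
  rw [e, D.ττ, hv1, hv2, one_smul, zero_smul, add_zero, add_assoc] at h4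
  have h5 := add_left_cancel h4
  apply hx0
  apply fix_ne D hbx
  rw [← h5]
  have hs : ∀ (c : ZMod 2) {y : V}, Nz D b y → Nz D b (c • y) := by
    intro c y hy
    rcases z2 c with rfl | rfl
    · rw [zero_smul]
      unfold Nz
      simp
    · rwa [one_smul]
  exact (hs _ hq).add D (hs _ hp)

theorem two_of_sing (h3 : b * b * b = 1) (hwb : w * b = b * w) {u x : V} (hw : D.ρ w u = u) (hx : D.ρ w x = x)
    (hu : D.B u (D.ρ b u) = 0) (hn : Nz D b u) (hbx : D.ρ b x = x) (hx0 : x ≠ 0) (hu0 : u ≠ 0) : Two w b := by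
  have h1 : D.B u x = 0 := by rw [D.symm]; exact fix_perp D h3 hbx hn
  refine ⟨_, _, tri1 D hwb hw hu (hn.ne D hu0) h3, tri3 D h3 hw hx hu hn hbx hx0 hu0, ?_, ?_, ?_⟩
  · exact s_ne D h1 hbx hx0 hn hu0 hn hn.next
  · rw [conj_mul2, D.conj_τ, D.conj_τ]
    exact s_ne D h1 hbx hx0 hn hu0 hn.next hn.next.next
  · rw [conj_mul2 b (D.τ u), D.conj_τ, D.conj_τ, conj_mul2, D.conj_τ, D.conj_τ]
    exact s_ne D h1 hbx hx0 hn hu0 hn.next.next hn.next.next.next

theorem two_of_two (h3 : b * b * b = 1) {u x y : V} (hw : D.ρ w u = u) (hx : D.ρ w x = x)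
    (hy : D.ρ w y = y) (hu : D.B u (D.ρ b u) = 1) (hn : Nz D b u) (hbx : D.ρ b x = x) (hby : D.ρ b y = y)
    (hx0 : x ≠ 0) (hy0 : y ≠ 0) (hxy : x ≠ y) : Two w b := by
  have hu0 : u ≠ 0 := by
    rintro rfl
    simp at hu
  have key : ∀ p : V, Nz D b p → p ≠ 0 → p ≠ u → p ≠ 0 → (p + u ≠ 0) →
      D.τ u * D.τ (u + y) ≠ D.τ p * D.τ (p + x) := by
    intro p hp hp0 hpu _ hpu' e
    have hne : p ≠ p + x := by
      intro e
      apply hx0
      have h5 := congrArg (fun z => p + z) e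
      simp only [aac, aa] at h5
      exact h5.symm
    have hyp : ∀ z : V, Nz D b z → z = y → False := by
      rintro z hz rfl
      exact hy0 (fix_ne D hby hz)
    rcases D.mem_of_ττ_eq hp0 hne e with h | h | h
    · exact hpu h
    · apply hyp (u + p) (hn.add D hp)
      rw [h, aac]
    · rw [aac] at h
      exact hyp p hp h
  refine ⟨_, _, tri2 D h3 hw hx hu hn hbx hx0, tri2 D h3 hw hy hu hn hby hy0, ?_, ?_, ?_⟩
  · intro e
    apply hxy
    have h5 := D.τ_injective (mul_left_cancel e)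
    exact (add_left_cancel h5).symm
  · rw [conj_mul2, D.conj_τ, D.conj_τ, map_add, hbx]
    apply key _ hn.next (next_ne D hu0) (hn.ne D hu0) (next_ne D hu0)
    intro e
    exact hn.ne D hu0 (eq_of_add _ _ e)
  · rw [conj_mul2 b (D.τ u), D.conj_τ, D.conj_τ, conj_mul2, D.conj_τ, D.conj_τ, map_add, map_add, hbx, hbx]
    have hne : D.ρ b (D.ρ b u) ≠ u := by
      intro e
      have h5 := congrArg (D.ρ b) e
      rw [cube D h3] at h5
      exact hn.ne D hu0 h5.symm
    apply key _ hn.next.next (next_ne D (next_ne D hu0)) hne (next_ne D (next_ne D hu0))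
    intro e
    exact hne (eq_of_add _ _ e)

/-! ### The quaternion group -/

theorem quad_of (h3 : b * b * b = 1) (hwb : w * b = b * w) {u y : V} (hw : D.ρ w u = u) (hy : D.ρ w y = y)
    (hu : D.B u (D.ρ b u) = 0) (hu0 : u ≠ 0) (hn : Nz D b u) (hny : Nz D b y) (h1 : D.B u y = 0)
    (h2 : D.B (D.ρ b u) y = 0) (hyy : D.B y (D.ρ b y) = 1) :
    ∃ i, i * w = w * i ∧ b * i * b⁻¹ * i = b * (b * i * b⁻¹) * b⁻¹ ∧ i * i ≠ 1 := by
  have hn' : D.ρ b (D.ρ b u) = u + D.ρ b u := hn
  have hny' : D.ρ b (D.ρ b y) = y + D.ρ b y := hny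
  have hyu : D.B y u = 0 := by rw [D.symm, h1]
  have hybu : D.B y (D.ρ b u) = 0 := by rw [D.symm, h2]
  have hbu : D.B (D.ρ b u) u = 0 := by rw [D.symm, hu]
  have hby : D.B (D.ρ b y) y = 1 := by rw [D.symm, hyy]
  have hbybu : D.B (D.ρ b y) (D.ρ b u) = 0 := by rw [D.inv, hyu]
  have hbuby : D.B (D.ρ b u) (D.ρ b y) = 0 := by rw [D.inv, h1]
  have hbyu : D.B (D.ρ b y) u = 0 := by
    rw [adj' D h3, hn', map_add, hyu, hybu, add_zero]
  have hubY : D.B u (D.ρ b y) = 0 := by rw [D.symm, hbyu]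
  set c := s D u (D.ρ b u) with hc
  set s0 := s D y u with hs0
  set s1 := s D (D.ρ b y) (D.ρ b u) with hs1
  have hyu2 : D.B (D.ρ b (D.ρ b y)) (D.ρ b (D.ρ b u)) = 0 := by rw [D.inv, hbybu]
  have hu2 : D.B (D.ρ b u) (D.ρ b (D.ρ b u)) = 0 := by rw [D.inv, hu]
  have bs0 : b * s0 * b⁻¹ = s1 := conj_s D b y u
  -- `c` is fixed by `b`
  have bc : b * c * b⁻¹ = c := by
    rw [hc, conj_s]
    apply D.ext_iff
    intro v
    rw [s_apply D hu2, s_apply D hu, hn', map_add]
    rcases z2 (D.B v u) with p | p <;> rcases z2 (D.B v (D.ρ b u)) with q | q <;>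
      simp [p, q, add_assoc, add_left_comm, add_comm, aac, aa]
  -- the commutators
  have r01 : s0 * s1 = c * (s1 * s0) := by
    apply D.ext_iff
    intro v
    rw [D.ρ_mul, D.ρ_mul, D.ρ_mul, hs0, hs1, hc, s_apply D hyu, s_apply D hbybu, s_apply D hu, s_apply D hbybu,
      s_apply D hyu]
    simp only [map_add, map_smul, LinearMap.add_apply, LinearMap.smul_apply, D.alt, h1, h2, hu, hyy, hyu, hybu, hbu,
      hby, hbybu, hbuby, hbyu, hubY, smul_eq_mul, mul_zero, add_zero, mul_one]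
    rcases z2 (D.B v u) with p | p <;> rcases z2 (D.B v y) with q | q <;>
      rcases z2 (D.B v (D.ρ b u)) with r | r <;> rcases z2 (D.B v (D.ρ b y)) with t | t <;>
      simp [p, q, r, t, add_assoc, add_left_comm, add_comm, aac, aa]
  have c0 : c * s0 = s0 * c := by
    apply D.ext_iff
    intro v
    rw [D.ρ_mul, D.ρ_mul, hs0, hc, s_apply D hyu, s_apply D hu, s_apply D hu, s_apply D hyu]
    simp only [map_add, map_smul, LinearMap.add_apply, LinearMap.smul_apply, D.alt, h1, h2, hu, hyy, hyu, hybu, hbu,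
      hby, hbybu, hbuby, hbyu, hubY, smul_eq_mul, mul_zero, add_zero, mul_one]
    rcases z2 (D.B v u) with p | p <;> rcases z2 (D.B v y) with q | q <;>
      rcases z2 (D.B v (D.ρ b u)) with r | r <;>
      simp [p, q, r, add_assoc, add_left_comm, add_comm, aac, aa]
  have c1 : c * s1 = s1 * c := by
    have := congrArg (fun z => b * z * b⁻¹) c0
    simp only [conj_mul2, bc, bs0] at this
    exact this
  set s2 := b * s1 * b⁻¹ with hs2
  have c2 : c * s2 = s2 * c := by
    have := congrArg (fun z => b * z * b⁻¹) c1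
    simp only [conj_mul2 b, bc] at this
    exact this
  have r12 : s1 * s2 = c * (s2 * s1) := by
    have := congrArg (fun z => b * z * b⁻¹) r01
    simp only [conj_mul2 b, bc, bs0] at this
    exact this
  have q0 : s0 * s0 = 1 := s_sq D hyu
  have q1 : s1 * s1 = 1 := s_sq D hbybu
  have qc : c * c = 1 := s_sq D hu
  have b2 : b * s2 * b⁻¹ = s0 := by
    rw [hs2, hs1, conj_s, conj_s, cube D h3, cube D h3]
  refine ⟨s0 * s1, ?_, ?_, ?_⟩
  · have e0 : s0 * w = w * s0 := comm_s D hy hw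
    have e1 : s1 * w = w * s1 := comm_s D (w_next D hwb hy) (w_next D hwb hw)
    rw [mul_assoc, e1, ← mul_assoc, e0, mul_assoc]
  · rw [conj_mul2, bs0, conj_mul2, b2, ← hs2]
    calc s1 * s2 * (s0 * s1) = c * (s2 * s1) * (c * (s1 * s0)) := by rw [r12, r01]
      _ = (c * s2) * (s1 * c) * s1 * s0 := by group
      _ = (s2 * c) * (c * s1) * s1 * s0 := by rw [c2, c1]
      _ = s2 * (c * c) * (s1 * s1) * s0 := by group
      _ = s2 * s0 := by rw [qc, q1, mul_one, mul_one]
  · intro e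
    have e1 : c = 1 := by
      calc c = c * (s1 * (s0 * s0) * s1) := by rw [q0, mul_one, q1, mul_one]
        _ = c * (s1 * s0) * (s0 * s1) := by group
        _ = s0 * s1 * (s0 * s1) := by rw [← r01]
        _ = 1 := e
    have hne : u ≠ D.ρ b u := (hn.ne D hu0).symm
    obtain ⟨v, hv1, hv2⟩ := D.exists_sep hu0 hne
    have h4 := s_apply D hu v
    rw [← hc, e1, D.ρ_one, hv1, hv2, one_smul, zero_smul, add_zero] at h4
    apply next_ne D (b := b) hu0
    have h5 := congrArg (fun y => v + y) h4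
    simp only [aac, aa] at h5
    exact h5.symm

/-! ### Counting -/

theorem q_add (h3 : b * b * b = 1) {u v : V} (hv : Nz D b v) :
    D.B (u + v) (D.ρ b (u + v)) = D.B u (D.ρ b u) + D.B v (D.ρ b v) + D.B u v := by
  have h1 : D.B v (D.ρ b u) = D.B u v + D.B u (D.ρ b v) := by
    rw [adj D h3, hv, map_add, LinearMap.add_apply, D.symm v u, D.symm (D.ρ b v) u]
  simp only [map_add, LinearMap.add_apply, h1]
  rcases z2 (D.B u (D.ρ b u)) with p | p <;> rcases z2 (D.B u (D.ρ b v)) with q | q <;>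
    rcases z2 (D.B v (D.ρ b v)) with r | r <;> rcases z2 (D.B u v) with t | t <;>
    rw [p, q, r, t] <;> decide

theorem n_next (hwb : w * b = b * w) (v : V) : D.ρ b (D.n w v) = D.n w (D.ρ b v) := by
  rw [D.n_apply, D.n_apply, map_add, ← D.ρ_mul, ← D.ρ_mul, hwb]

/-- commutators are singular -/
theorem sing (hww : w * w = 1) (hwb : w * b = b * w) (v : V) : D.B (D.n w v) (D.ρ b (D.n w v)) = 0 := by
  rw [n_next D hwb, D.n_adj hww, D.n_n hww, map_zero, LinearMap.zero_apply]

/-- the norm -/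
def Nm (b : X) : V →ₗ[ZMod 2] V := LinearMap.id + D.ρ b + (D.ρ b).comp (D.ρ b)

theorem Nm_apply (b : X) (v : V) : Nm D b v = v + D.ρ b v + D.ρ b (D.ρ b v) := rfl

theorem Nm_eq_zero {v : V} : Nm D b v = 0 ↔ Nz D b v := by
  rw [Nm_apply]
  constructor
  · intro h
    exact (eq_of_add _ _ h).symm
  · intro h
    unfold Nz at h
    rw [h, aa]

theorem fix_Nm (h3 : b * b * b = 1) (v : V) : D.ρ b (Nm D b v) = Nm D b v := by
  rw [Nm_apply, map_add, map_add, cube D h3]
  abel

theorem Nz_n (h3 : b * b * b = 1) (v : V) : Nz D b (D.n b v) := by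
  rw [← Nm_eq_zero, Nm_apply, D.n_apply, map_add, map_add, cube D h3]
  simp [add_assoc, add_left_comm, add_comm, aac, aa]

theorem Nz_nw (hwb : w * b = b * w) {v : V} (h : Nz D b v) : Nz D b (D.n w v) := by
  unfold Nz at *
  rw [n_next D hwb, n_next D hwb, h, map_add]

theorem card_le_two {M : Type*} [AddCommGroup M] [Module (ZMod 2) M] (S : Submodule (ZMod 2) M) (x : M)
    (h : ∀ y ∈ S, y = 0 ∨ y = x) : Nat.card S ≤ 2 := by
  classical
  have h1 : (S : Set M) ⊆ ({0, x} : Finset M) := by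
    intro y hy
    rcases h y hy with rfl | rfl <;> simp
  have h2 := Set.ncard_le_ncard h1 (Finset.finite_toSet _)
  rw [Set.ncard_coe_finset] at h2
  exact h2.trans Finset.card_le_two

/-- if few vectors are fixed by `b` and `w`, then there are vectors of norm zero orthogonal to `u`, `b u` -/
theorem exists_perp [Finite V] (hV : Nat.card V = 64) (hww : w * w = 1) (hwb : w * b = b * w)
    (h3 : b * b * b = 1) (x : V) (hx : ∀ y, D.ρ b y = y → D.ρ w y = y → y = 0 ∨ y = x) (u : V) :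
    ∃ v, v ≠ 0 ∧ Nz D b v ∧ D.B v u = 0 ∧ D.B v (D.ρ b u) = 0 := by
  -- the fixed vectors of `b`
  have hF : Nat.card (LinearMap.ker (D.n b)) ≤ 4 := by
    have h1 := SpData.card_ker_mul ((D.n w).comp (LinearMap.ker (D.n b)).subtype)
    have h2 : Nat.card (LinearMap.ker ((D.n w).comp (LinearMap.ker (D.n b)).subtype)) ≤ 2 := by
      by_cases hxF : x ∈ LinearMap.ker (D.n b)
      · apply card_le_two _ ⟨x, hxF⟩
        rintro ⟨y, hy⟩ hy'
        rcases hx y (D.mem_ker.1 hy) (D.n_eq_zero.1 hy') with h | h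
        · left; exact Subtype.ext h
        · right; exact Subtype.ext h
      · apply card_le_two _ 0
        rintro ⟨y, hy⟩ hy'
        rcases hx y (D.mem_ker.1 hy) (D.n_eq_zero.1 hy') with h | h
        · left; exact Subtype.ext h
        · exfalso
          apply hxF
          rw [← h]
          exact hy
    have h4 : Nat.card (LinearMap.range ((D.n w).comp (LinearMap.ker (D.n b)).subtype)) ≤ 2 := by
      apply card_le_two _ x
      rintro _ ⟨⟨y, hy⟩, rfl⟩
      rw [D.mem_ker] at hy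
      apply hx
      · change D.ρ b (D.n w y) = D.n w y
        rw [n_next D hwb, hy]
      · exact D.n_ρ hww y
    rw [← h1]
    exact Nat.mul_le_mul h2 h4
  have hN : 16 ≤ Nat.card (LinearMap.ker (Nm D b)) := by
    have h1 := SpData.card_ker_mul (Nm D b)
    have h2 : LinearMap.range (Nm D b) ≤ LinearMap.ker (D.n b) := by
      rintro _ ⟨v, rfl⟩
      exact D.mem_ker.2 (fix_Nm D h3 v)
    have h4 := Nat.le_of_dvd Nat.card_pos (SpData.card_dvd_of_le h2)
    rw [hV] at h1
    have h5 : Nat.card (LinearMap.range (Nm D b)) ≤ 4 := h4.trans hF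
    nlinarith
  let ψ : LinearMap.ker (Nm D b) →ₗ[ZMod 2] (ZMod 2 × ZMod 2) :=
    ((D.B.flip u).prod (D.B.flip (D.ρ b u))).comp (LinearMap.ker (Nm D b)).subtype
  have h6 := SpData.card_ker_mul ψ
  have h7 : Nat.card (LinearMap.range ψ) ≤ 4 := by
    have h8 : Nat.card (LinearMap.range ψ) ≤ Nat.card (ZMod 2 × ZMod 2) :=
      Nat.card_le_card_of_injective _ Subtype.val_injective
    have h9 : Nat.card (ZMod 2 × ZMod 2) = 4 := by
      rw [Nat.card_prod, Nat.card_zmod]
    rwa [h9] at h8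
  have h8 : 1 < Nat.card (LinearMap.ker ψ) := by nlinarith
  rw [Finite.one_lt_card_iff_nontrivial] at h8
  obtain ⟨⟨⟨v, hv⟩, hv'⟩, hne⟩ := exists_ne (0 : LinearMap.ker ψ)
  refine ⟨v, fun h => hne (Subtype.ext (Subtype.ext h)), (Nm_eq_zero D).1 hv, ?_, ?_⟩
  · exact congrArg Prod.fst (LinearMap.mem_ker.1 hv')
  · exact congrArg Prod.snd (LinearMap.mem_ker.1 hv')

/-- if `b` fixes no vector, then `w` fixes a vector which is not singular -/
theorem exists_nonsing [Finite V] (hV : Nat.card V = 64) (hww : w * w = 1) (hwb : w * b = b * w)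
    (h3 : b * b * b = 1) (hF : ∀ y, D.ρ b y = y → y = 0) : ∃ y, D.ρ w y = y ∧ D.B y (D.ρ b y) = 1 := by
  classical
  by_contra hcon
  push Not at hcon
  have hN : ∀ v, Nz D b v := fun v => (Nm_eq_zero D).1 (hF _ (fix_Nm D h3 v))
  have hq : ∀ y, D.ρ w y = y → D.B y (D.ρ b y) = 0 := by
    intro y hy
    rcases z2 (D.B y (D.ρ b y)) with h | h
    · exact h
    · exact absurd h (hcon y hy)
  set K := LinearMap.ker (D.n w) with hK
  have hiso : ∀ y ∈ K, ∀ z ∈ K, D.B y z = 0 := by
    intro y hy z hz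
    have h1 := q_add D h3 (u := y) (v := z) (hN z)
    rw [hq y (D.mem_ker.1 hy), hq z (D.mem_ker.1 hz), hq (y + z) (D.mem_ker.1 (K.add_mem hy hz)), zero_add,
      zero_add] at h1
    exact h1.symm
  -- the order is at most 8
  have hfin : Module.Finite (ZMod 2) V := inferInstance
  have h6 : Module.finrank (ZMod 2) V = 6 := by
    have := Module.natCard_eq_pow_finrank (K := ZMod 2) (V := V)
    rw [hV, Nat.card_zmod] at this
    exact (Nat.pow_right_injective le_rfl (show 2 ^ 6 = 2 ^ Module.finrank (ZMod 2) V by rw [← this])).symm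
  have hnd : LinearMap.BilinForm.Nondegenerate (D.B : LinearMap.BilinForm (ZMod 2) V) :=
    ⟨D.nondeg, fun v h => D.nondeg v (fun w => by rw [D.symm]; exact h w)⟩
  have h7 := LinearMap.BilinForm.finrank_orthogonal hnd K
  have h8 : K ≤ LinearMap.BilinForm.orthogonal (D.B : LinearMap.BilinForm (ZMod 2) V) K := by
    intro y hy z hz
    exact hiso z hz y hy
  have h9 := Submodule.finrank_mono h8
  rw [h7, h6] at h9
  have h10 : Nat.card K = 2 ^ Module.finrank (ZMod 2) K := by
    have := Module.natCard_eq_pow_finrank (K := ZMod 2) (V := K)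
    rwa [Nat.card_zmod] at this
  have h11 := D.eight_le hV hww
  rw [← hK, h10] at h11
  have h12 : Module.finrank (ZMod 2) K = 3 := by
    have : 3 ≤ Module.finrank (ZMod 2) K := by
      rw [show 8 = 2 ^ 3 by norm_num] at h11
      exact (Nat.pow_le_pow_iff_right (by norm_num)).1 h11
    omega
  rw [h12] at h10
  -- the fixed points of `b`
  haveI : Fintype K := Fintype.ofFinite K
  haveI : Fact (Nat.Prime 3) := ⟨Nat.prime_three⟩
  let f : Function.End K := fun k => ⟨D.ρ b k, D.mem_ker.2 (w_next D hwb (D.mem_ker.1 k.2))⟩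
  have hf : f ^ 3 ^ 1 = 1 := by
    funext k
    exact Subtype.ext (cube D h3 k)
  have h13 := Equiv.Perm.card_fixedPoints_modEq hf
  have h14 : Fintype.card (Function.fixedPoints f) = 1 := by
    rw [Fintype.card_eq_one_iff]
    refine ⟨⟨0, ?_⟩, ?_⟩
    · exact Subtype.ext (map_zero _)
    · rintro ⟨k, hk⟩
      apply Subtype.ext
      apply Subtype.ext
      exact hF _ (congrArg Subtype.val hk)
  rw [h14, ← Nat.card_eq_fintype_card, h10] at h13
  exact absurd h13 (by decide)

include D in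
/-- **two triples in different orbits, or a quaternion group** -/
theorem main [Finite V] (hV : Nat.card V = 64) (hww : w * w = 1) (hw1 : w ≠ 1) (h3 : b * b * b = 1)
    (hb1 : b ≠ 1) (hwb : w * b = b * w) : Two w b ∨
    ∃ i, i * w = w * i ∧ b * i * b⁻¹ * i = b * (b * i * b⁻¹) * b⁻¹ ∧ i * i ≠ 1 := by
  by_cases hU : ∃ v, Nz D b v ∧ D.n w v ≠ 0
  · obtain ⟨v, hv, hv0⟩ := hU
    have hn := Nz_nw D hwb hv
    have hw := D.n_ρ hww v
    have hs := sing D hww hwb v
    by_cases hF : ∃ x, D.ρ b x = x ∧ D.ρ w x = x ∧ x ≠ 0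
    · obtain ⟨x, hx1, hx2, hx0⟩ := hF
      exact Or.inl (two_of_sing D h3 hwb hw hx2 hs hn hx1 hx0 hv0)
    · push Not at hF
      have hF' : ∀ y, D.ρ b y = y → y = 0 := by
        intro y hy
        have h1 : D.n w y = 0 := by
          apply hF _ _ (D.n_ρ hww y)
          rw [n_next D hwb, hy]
        exact hF y hy (D.n_eq_zero.1 h1)
      have hN : ∀ v, Nz D b v := fun v => (Nm_eq_zero D).1 (hF' _ (fix_Nm D h3 v))
      obtain ⟨y, hy1, hy2⟩ := exists_nonsing D hV hww hwb h3 hF'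
      right
      refine quad_of D h3 hwb hw hy1 hs hv0 hn (hN y) (D.B_n_ker hww v hy1) ?_ hy2
      rw [n_next D hwb]
      exact D.B_n_ker hww _ hy1
  · push Not at hU
    -- `w` fixes the vectors of norm zero
    obtain ⟨v0, hv0⟩ : ∃ v, D.n w v ≠ 0 := by
      by_contra hcon
      push Not at hcon
      exact hw1 (D.eq_one_of_n hcon)
    set f := Nm D b v0 with hf
    have hbf : D.ρ b f = f := fix_Nm D h3 v0
    have hf1 : D.n w f = D.n w v0 := by
      have h1 : Nz D b (v0 + f) := by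
        rw [← Nm_eq_zero, map_add, ← hf, Nm_apply D b f, hbf, hbf]
        simp [aa]
      have h2 := hU _ h1
      rw [map_add] at h2
      exact (eq_of_add _ _ h2).symm
    have hx0 : D.n w f ≠ 0 := by rw [hf1]; exact hv0
    have hxw := D.n_ρ hww f
    have hxb : D.ρ b (D.n w f) = D.n w f := by rw [n_next D hwb, hbf]
    obtain ⟨v1, hv1⟩ : ∃ v, D.n b v ≠ 0 := by
      by_contra hcon
      push Not at hcon
      exact hb1 (D.eq_one_of_n hcon)
    set u := D.n b v1 with hu
    have hun : Nz D b u := Nz_n D h3 v1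
    have huw : ∀ {z}, Nz D b z → D.ρ w z = z := fun hz => D.n_eq_zero.1 (hU _ hz)
    left
    rcases z2 (D.B u (D.ρ b u)) with hq | hq
    · exact two_of_sing D h3 hwb (huw hun) hxw hq hun hxb hx0 hv1
    · by_cases hx : ∃ y, D.ρ b y = y ∧ D.ρ w y = y ∧ y ≠ 0 ∧ y ≠ D.n w f
      · obtain ⟨y, hy1, hy2, hy3, hy4⟩ := hx
        exact two_of_two D h3 (huw hun) hxw hy2 hq hun hxb hy1 hx0 hy3 hy4.symm
      · push Not at hx
        obtain ⟨v, hv0', hvn, hvu, hvbu⟩ := exists_perp D hV hww hwb h3 (D.n w f) (by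
          intro y h1 h2
          by_cases h0 : y = 0
          · exact Or.inl h0
          · exact Or.inr (hx y h1 h2 h0)) u
        rcases z2 (D.B v (D.ρ b v)) with hqv | hqv
        · exact two_of_sing D h3 hwb (huw hvn) hxw hqv hvn hxb hx0 hv0'
        · have h1 : D.B (u + v) (D.ρ b (u + v)) = 0 := by
            rw [q_add D h3 hvn, hq, hqv, D.symm u v, hvu]
            decide
          have h2 : u + v ≠ 0 := by
            intro e
            have e' := eq_of_add _ _ e
            rw [← e'] at hvbu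
            rw [hvbu] at hq
            exact absurd hq (by decide)
          exact two_of_sing D h3 hwb (huw (hun.add D hvn)) hxw h1 (hun.add D hvn) hxb hx0 h2

end Cfsg.Agent.OddHalf.NI3.Ex4.SpSix

end
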