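import Cfsg.Agent.OddHalf.NI3.Ex4.Large
import Cfsg.Agent.OddHalf.NI.Ex.OfSheet
import Cfsg.Agent.OddHalf.CaseM.SheetX
import Cfsg.Agent.OddHalf.D8.SheetMap
import Cfsg.Agent.OddHalf.D8.RowB
import Cfsg.Agent.KFacts.Co1.CaseM
import Cfsg.Agent.KFacts.J2.SheetX
import Cfsg.Agent.OddHalf.NI3.Ex4.Tri
import Cfsg.Agent.OddHalf.NI3.Bad.ExM22
import Cfsg.Agent.OddHalf.NI3.Ex4.Defs
import Cfsg.Agent.OddHalf.NI3.Bad.ExFour
import Cfsg.Agent.OddHalf.NI.Ex.RowRu
import Cfsg.Agent.KFacts.SuzSheetE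
import Cfsg.Agent.TwoESix.SheetMain
import Cfsg.Agent.OddHalf.D9.Cut
import Cfsg.Agent.OddHalf.D4.Sz.KFB
import Cfsg.Agent.LThreeFour.Inv
import Cfsg.Agent.LThreeFour.Exists
import Cfsg.Agent.OddHalf.NI3.Ex4.LargeP
import Cfsg.Agent.OddHalf.NI.Ex.RowFi22
import Cfsg.Agent.OddHalf.NI3.Ex4.LargeZ
import Cfsg.Agent.OddHalf.NI.Ex.HasGTwoFour
import Cfsg.Agent.OddHalf.NI.Ex.RowHS
import Cfsg.Agent.OddHalf.NI3.Ex4.SpSix
import Cfsg.Agent.OddHalf.NI3.Ex.SpSix
import Cfsg.Agent.StandardComponent.SpTwoAut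
import Cfsg.Agent.OddHalf.NI.Ex.HasUSix
import Cfsg.Agent.OddHalf.NI3.Ex4.Cut
import Cfsg.Agent.OddHalf.NI3.Ex4.RowM12
import Cfsg.Agent.OddHalf.NI3.Ex4.RowF4

-- merged: Cfsg.Agent.OddHalf.NI3.Ex4.OfSheet
section

/-!
# (EX4): the rows with a perfect sheet

`large4_of_sheet` : `SheetX z C(z) R` gives `Large4 z ⟨z⟩`; `row4_of_sheet`, `row4_of_equiv`.
-/

set_option autoImplicit false
set_option linter.style.haveILetI false

namespace Cfsg.Agent.OddHalf.NI3.Ex4

open Subgroup Cfsg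
open Cfsg.Agent.OddHalf.D8.JTwo.Sheet
open Cfsg.Agent.OddHalf.NI.Ex.Lemma (NoComm)

universe u

variable {X : Type u} [Group X]

theorem mem_zpowers_two {z : X} (zz : z * z = 1) {x : X} : x ∈ zpowers z ↔ x = 1 ∨ x = z := by
  constructor
  · rintro ⟨k, rfl⟩
    change z ^ k = 1 ∨ z ^ k = z
    rcases Int.even_or_odd' k with ⟨m, rfl | rfl⟩
    · left
      rw [zpow_mul, zpow_two, zz, one_zpow]
    · right
      rw [zpow_add, zpow_mul, zpow_two, zz, one_zpow, one_mul, zpow_one]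
  · rintro (rfl | rfl)
    · exact one_mem _
    · exact mem_zpowers _

/-- `O₂(C(z)) = R` -/
theorem OO2_eq [Finite X] {z : X} {R : Subgroup X} (h : SheetX z (centralizer ({z} : Set X)) R) : OO2 z = R := by
  haveI : Fact (Nat.Prime 2) := ⟨Nat.prime_two⟩
  apply le_antisymm
  · refine h.Rmax _ ?_ (OO2_isPGroup z) ?_
    · intro x hx
      exact mem_centralizer_singleton_iff.2 (OO2_comm hx)
    · intro x hx b hb
      exact OO2_conj hb (mem_centralizer_singleton_iff.1 hx)
  · intro r hr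
    have hrc : r ∈ centralizer ({z} : Set X) := h.RP hr
    have hn : (R.subgroupOf (centralizer ({z} : Set X))).Normal := by
      refine ⟨fun n hn g => ?_⟩
      exact h.Rn g g.2 n hn
    have h2 : IsPGroup 2 ↥(R.subgroupOf (centralizer ({z} : Set X))) :=
      h.R2.comap_of_injective _ (Subgroup.subtype_injective _)
    have h3 : R.subgroupOf (centralizer ({z} : Set X)) ≤ pCore 2 ↥(centralizer ({z} : Set X)) :=
      Lib.Cores.le_pCore hn h2
    exact ⟨⟨r, hrc⟩, h3 hr, rfl⟩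

/-- the center of `R` -/
theorem sheet_cent {z : X} {P R : Subgroup X} (h : SheetX z P R) {b : X} (hb : b ∈ R) (hc : ∀ r ∈ R, b * r = r * b) :
    b = 1 ∨ b = z := by
  rcases h.Rmin (R ⊓ centralizer (R : Set X)) inf_le_left (by
    rintro x hx b ⟨hb1, hb2⟩
    refine ⟨h.Rn x hx b hb1, ?_⟩
    have hb2 := mem_centralizer_iff.1 hb2
    refine mem_centralizer_iff.2 fun r hr => ?_
    have h1 := h.Rn x⁻¹ (P.inv_mem hx) r hr
    have h2 := hb2 _ h1
    calc r * (x * b * x⁻¹) = x * ((x⁻¹ * r * x⁻¹⁻¹) * b) * x⁻¹ := by group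
      _ = x * (b * (x⁻¹ * r * x⁻¹⁻¹)) * x⁻¹ := by rw [h2]
      _ = x * b * x⁻¹ * r := by group) with h1 | h1
  · exact h1 b ⟨hb, mem_centralizer_iff.2 fun r hr => (hc r hr).symm⟩
  · exfalso
    obtain ⟨a, ha, b, hb, hab⟩ := h.Rna
    rw [← h1] at ha
    exact hab ((mem_centralizer_iff.1 ha.2 b hb).symm)

/-- the squares of `R` -/
theorem sheet_sq [Finite X] {z : X} {P R : Subgroup X} (h : SheetX z P R) {x : X} (hx : x ∈ R) :
    x * x = 1 ∨ x * x = z := by
  have hzc : ∀ r ∈ R, r * z = z * r := fun r hr => h.cen r (h.RP hr)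
  have hcl : ∀ a b : X, (a = 1 ∨ a = z) → (b = 1 ∨ b = z) → (a * b = 1 ∨ a * b = z) := by
    rintro a b (rfl | rfl) (rfl | rfl)
    · left; rw [one_mul]
    · right; rw [one_mul]
    · right; rw [mul_one]
    · left; exact h.zz
  have hinv : ∀ a : X, (a = 1 ∨ a = z) → (a⁻¹ = 1 ∨ a⁻¹ = z) := by
    rintro a (rfl | rfl)
    · left; rw [inv_one]
    · right; exact inv_eq_of_mul_eq_one_right h.zz
  have hcen : ∀ a r : X, (a = 1 ∨ a = z) → r ∈ R → r * a = a * r := by
    rintro a r (rfl | rfl) hr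
    · rw [one_mul, mul_one]
    · exact hzc r hr
  have hcomm : ∀ a ∈ R, ∀ b ∈ R, a * b * a⁻¹ * b⁻¹ = 1 ∨ a * b * a⁻¹ * b⁻¹ = z := fun a ha b hb =>
    CaseM.X.comm_R h _ (commutator_mem_commutator ha hb)
  let B : Subgroup X :=
    { carrier := {x | x ∈ R ∧ (x * x = 1 ∨ x * x = z)}
      mul_mem' := by
        rintro a b ⟨ha, ha2⟩ ⟨hb, hb2⟩
        refine ⟨R.mul_mem ha hb, ?_⟩
        have h1 := hcomm a⁻¹ (R.inv_mem ha) b hb
        have h2 : a * b * (a * b) = (a * a) * ((a⁻¹ * b * a⁻¹⁻¹ * b⁻¹) * (b * b)) := by group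
        rw [h2]
        exact hcl _ _ ha2 (hcl _ _ h1 hb2)
      one_mem' := ⟨R.one_mem, Or.inl (one_mul _)⟩
      inv_mem' := by
        rintro a ⟨ha, ha2⟩
        refine ⟨R.inv_mem ha, ?_⟩
        rw [← mul_inv_rev]
        exact hinv _ ha2 }
  have hB : ∀ x, x ∈ B ↔ x ∈ R ∧ (x * x = 1 ∨ x * x = z) := fun x => Iff.rfl
  rcases h.Rmin B (fun x hx => ((hB x).1 hx).1) (by
    intro x hx b hb
    rw [hB] at hb ⊢
    refine ⟨h.Rn x hx b hb.1, ?_⟩
    have h1 : x * b * x⁻¹ * (x * b * x⁻¹) = x * (b * b) * x⁻¹ := by group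
    rw [h1]
    rcases hb.2 with h2 | h2
    · left; rw [h2]; group
    · right; rw [h2, h.cen x hx, mul_inv_cancel_right]) with h1 | h1
  · exfalso
    -- every element of `R` lies in `⟨z⟩`
    have h2 : ∀ r ∈ R, r = 1 ∨ r = z := by
      intro r hr
      obtain ⟨k, hk⟩ := h.R2 ⟨r, hr⟩
      have hk' : r ^ 2 ^ k = 1 := congrArg Subtype.val hk
      have h3 : ∀ k : ℕ, ∀ r ∈ R, r ^ 2 ^ k = 1 → r = 1 ∨ r = z := by
        intro k
        induction k with
        | zero =>
          intro r _ h4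
          left
          rwa [pow_zero, pow_one] at h4
        | succ k ih =>
          intro r hr h4
          have h5 := ih (r * r) (R.mul_mem hr hr) (by
            rw [← pow_two, ← pow_mul, mul_comm, ← pow_succ]; exact h4)
          exact h1 r ((hB r).2 ⟨hr, h5⟩)
      exact h3 k r hr hk'
    obtain ⟨a, ha, b, hb, hab⟩ := h.Rna
    exact hab (hcen b a (h2 b hb) ha)
  · rw [← h1] at hx
    exact ((hB x).1 hx).2

theorem large4_of_sheet [Finite X] {z : X} {R : Subgroup X} (h : SheetX z (centralizer ({z} : Set X)) R) :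
    Large4 z (zpowers z) where
  zz := h.zz
  z1 := h.z1
  syl := by
    obtain ⟨S, -, hS, -⟩ := h.syl
    exact ⟨S, hS⟩
  con := by
    intro g hg hc
    rw [OO2_eq h] at hc ⊢
    exact h.cR g (mem_centralizer_singleton_iff.2 hg) hc
  mem := mem_zpowers z
  le := by
    rw [zpowers_le, OO2_eq h]
    exact h.zR
  ex := by
    intro x hx
    rcases (mem_zpowers_two h.zz).1 hx with rfl | rfl
    · exact one_mul _
    · exact h.zz
  cen := by
    intro x hx g hg
    rcases (mem_zpowers_two h.zz).1 hx with rfl | rfl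
    · rw [one_mul, mul_one]
    · exact hg
  sq := by
    intro x hx
    rw [OO2_eq h] at hx
    exact (mem_zpowers_two h.zz).2 (sheet_sq h hx)
  nc := by
    intro x hx hx1
    rcases (mem_zpowers_two h.zz).1 hx with rfl | rfl
    · exact absurd rfl hx1
    · exact NI.Ex.Lemma.Good.noComm (NI.Ex.good_of_sheet h)
  fix := by
    intro β _ hβ x hx
    rcases (mem_zpowers_two h.zz).1 hx with rfl | rfl
    · exact map_one _
    · exact hβ
  four := by
    intro B hB hc h4
    exfalso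
    rw [OO2_eq h] at hB hc
    have h5 : (B : Set X) ⊆ {1, z} := by
      intro b hb
      exact sheet_cent h (hB hb) (hc b hb)
    have h6 : (B : Set X).ncard ≤ ({1, z} : Set X).ncard := Set.ncard_le_ncard h5 (Set.toFinite _)
    have h7 : ({1, z} : Set X).ncard ≤ 2 := Set.ncard_insert_le _ _ |>.trans (by simp)
    have h8 : (B : Set X).ncard = 4 := by
      change Nat.card B = 4
      exact h4
    omega

/-- the center of a simple group with two elements which do not commute -/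
theorem center_bot [hs : IsSimpleGroup X] {a b : X} (h : a * b ≠ b * a) : center X = ⊥ := by
  rcases (inferInstance : (center X).Normal).eq_bot_or_eq_top with h1 | h1
  · exact h1
  · exact absurd ((mem_center_iff.1 (h1 ▸ mem_top b : b ∈ center X)) a) h

theorem row4_of_sheet [Finite X] [IsSimpleGroup X] {z : X} {R : Subgroup X}
    (h : SheetX z (centralizer ({z} : Set X)) R) : Row4 X := by
  obtain ⟨a, _, b, _, hab⟩ := h.Rna
  exact row4_of_large (center_bot hab) (large4_of_sheet h)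

/-- the row from a sheet of a model -/
theorem row4_of_sheetE {Y : Type*} [Group Y] [Finite X] [IsSimpleGroup X] (e : Y ≃* X) {z : Y} {R : Subgroup Y}
    (h : D8.Sheet.SheetE z (centralizer ({z} : Set Y)) R) : Row4 X := by
  refine row4_of_sheet (z := e z) (R := R.map e.toMonoidHom) ?_
  rw [D8.SheetMap.centralizer_map e z]
  exact of_sheetE (D8.SheetMap.sheetE_map e h)

/-- the row from a model -/
theorem row4_of_equiv {Y : Type u} [Group Y] [Finite Y] (e : Y ≃* X) (hZ : center X = ⊥) {ζ : Y} {Z₁ : Subgroup Y}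
    (h : Large4 ζ Z₁) : Row4 X := by
  haveI : Finite X := Finite.of_equiv _ e.toEquiv
  exact row4_of_large hZ (h.map e)

end Cfsg.Agent.OddHalf.NI3.Ex4

end

-- merged: Cfsg.Agent.OddHalf.NI3.Ex4.RowB
section

/-!
# (EX4): the row of the Baby Monster
-/

set_option autoImplicit false

namespace Cfsg.Agent.OddHalf.NI3.Ex4

open Cfsg

universe u

theorem row_b (X : Type u) [Group X] [Finite X] [IsSimpleGroup X] (h : Spor.IsoB X) : Row4 X := by
  obtain ⟨e⟩ := Cfsg.Agent.KFacts.Baby.Sheet.exists_iso_of_isoB h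
  exact row4_of_sheetE e (Cfsg.Agent.KFacts.Baby.Row.sheet_model D8.RowB.inner)

end Cfsg.Agent.OddHalf.NI3.Ex4

end

-- merged: Cfsg.Agent.OddHalf.NI3.Ex4.RowCo1
section

/-!
# (EX4): the row of the first Conway group
-/

set_option autoImplicit false

namespace Cfsg.Agent.OddHalf.NI3.Ex4

open Cfsg

universe u

theorem row_co1 (X : Type u) [Group X] [Finite X] [IsSimpleGroup X] (h : Spor.IsoCo1 X) : Row4 X := by
  obtain ⟨e⟩ := h
  obtain ⟨o, ho⟩ := Cfsg.Agent.CoOneType.ClosingCo1.exists_octad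
  exact row4_of_sheetE e.symm (Cfsg.Agent.KFacts.Co1.CaseM.sheetE ho)

end Cfsg.Agent.OddHalf.NI3.Ex4

end

-- merged: Cfsg.Agent.OddHalf.NI3.Ex4.RowJ2
section

/-!
# (EX4): the row of the Hall-Janko group
-/

set_option autoImplicit false

namespace Cfsg.Agent.OddHalf.NI3.Ex4

open Cfsg

universe u

theorem row_j2 (X : Type u) [Group X] [Finite X] [IsSimpleGroup X] (h : Spor.IsoJ2 X) : Row4 X := by
  obtain ⟨t, u, Q, v, ρ, D⟩ := Cfsg.Agent.KFacts.J2.Facts.exists_dat_of h
  exact row4_of_sheet (Cfsg.Agent.KFacts.J2.SheetX.sheetX D)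

end Cfsg.Agent.OddHalf.NI3.Ex4

end

-- merged: Cfsg.Agent.OddHalf.NI3.Ex4.RowM22
section

/-!
# (EX4), row `M22` (helper941)
-/

set_option autoImplicit false

namespace Cfsg.Agent.OddHalf.NI3.Ex4

open Subgroup Cfsg

universe u

/-- (EX4) for `M22`, in the strong form -/
theorem ex4_m22 {X : Type u} [Group X] (h : Spor.IsoM22 X) : EX4 X ∧ center X = ⊥ := by
  obtain ⟨e⟩ := h
  have hZ : center Spor.M22 = ⊥ := by
    rw [eq_bot_iff]
    intro c hc
    have h1 : (c : Equiv.Perm GolayPt) = 1 := by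
      apply J4Type.Aut22.eq_one_of_centralizes (J4Type.Aut22.M22_le_D22 c.2)
      intro m
      have h2 := congrArg Subtype.val (mem_center_iff.1 hc m)
      have h3 : (m : Equiv.Perm GolayPt) * c = c * m := h2
      rw [← h3]
      group
    exact mem_bot.2 (Subtype.ext h1)
  haveI : Finite X := Finite.of_equiv _ e.symm.toEquiv
  have hX := center_eq_bot_of_equiv e hZ
  exact ⟨ex4_of_twoTri hX (ExTri.twoTri_of_iso e.symm ExM22.twoTri), hX⟩

/-- **(EX4), row `M22`** -/
theorem row_m22 {X : Type u} [Group X] (h : Spor.IsoM22 X) : Row4 X := (ex4_m22 h).1.row4 (ex4_m22 h).2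

end Cfsg.Agent.OddHalf.NI3.Ex4

end

-- merged: Cfsg.Agent.OddHalf.NI3.Ex4.RowRu
section

/-!
# (EX4): the row `Ru`

`bad`: no `ExFour.Bad` configuration in the Rudvalis group: `α`, `β` are inner (by `u`, `v`), `v` of order three in
`C(u)`, so `u` is of class 2A, and `[O₂(C(u)), v]` is not elementary abelian.
-/

set_option autoImplicit false

namespace Cfsg.Agent.OddHalf.NI3.Ex4.RowRu

open Subgroup Cfsg Cfsg.Agent.OddHalf.NI3 Cfsg.Agent.SporadicB

universe u

variable {X : Type u} [Group X]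

theorem center_of (e : X ≃* RuOrder.H) : center X = ⊥ := by
  rw [eq_bot_iff]
  intro c hc
  rw [mem_bot]
  apply e.injective
  rw [map_one]
  have h1 : e c ∈ center RuOrder.H := mem_center_iff.2 fun y => by
    have h2 := congrArg e (mem_center_iff.1 hc (e.symm y))
    rw [map_mul, map_mul, e.apply_symm_apply] at h2
    exact h2
  rwa [Cfsg.Agent.RuLat.center_H, mem_bot] at h1

/-- **no bad configuration** -/
theorem bad [Finite X] (e : X ≃* RuOrder.H) : ExFour.EX4 X := by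
  intro α β A h
  have hZ := center_of e
  have hinj := ExFour.conj_inj hZ
  obtain ⟨u, hu'⟩ := NI.Ex.RowRu.exists_inner e α
  obtain ⟨v, hv'⟩ := NI.Ex.RowRu.exists_inner e β
  have hu : α = MulAut.conj u := by ext x; rw [hu', MulAut.conj_apply]
  have hv : β = MulAut.conj v := by ext x; rw [hv', MulAut.conj_apply]
  have huu : u * u = 1 := by
    apply hinj
    rw [map_mul, map_one, ← hu]; exact h.sq
  have hu1 : u ≠ 1 := by
    rintro rfl
    exact h.ne (by rw [hu, map_one])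
  have hv3 : v * v * v = 1 := by
    apply hinj
    rw [map_mul, map_mul, map_one, ← hv]; exact h.cube
  have hv1 : v ≠ 1 := by
    rintro rfl
    exact h.beta_ne (by rw [hv, map_one])
  have huv : v * u = u * v := by
    apply hinj
    rw [map_mul, map_mul, ← hv, ← hu]; exact h.comm.symm
  have evu : e v * e u = e u * e v := by rw [← map_mul, huv, map_mul]
  have ev3 : e v * e v * e v = 1 := by rw [← map_mul, ← map_mul, hv3, map_one]
  have ev1 : e v ≠ 1 := fun h => hv1 (e.injective (by rw [h, map_one]))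
  rcases Bad.ExRuK.main (z := e u) (by rw [← map_mul, huu, map_one])
    (fun h => hu1 (e.injective (by rw [h, map_one]))) with ⟨B, hB⟩ | h'
  · obtain ⟨y, hy, hne⟩ := hB.three (e v) evu ev3 ev1
    apply hne
    let Q : Subgroup X := B.comap e.toMonoidHom
    have hQm : ∀ q, q ∈ Q ↔ e q ∈ B := fun q => Iff.rfl
    have hQ2 : IsPGroup 2 Q := hB.two.comap_of_injective _ e.injective
    have hyQ : (e.symm y)⁻¹ ∈ Q := by rw [hQm, map_inv, e.apply_symm_apply]; exact inv_mem hy
    have h1 : (e.symm y)⁻¹⁻¹ * β (e.symm y)⁻¹ ∈ A := by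
      refine h.mem_of_two hZ hQ2 ?_ ?_ hyQ
      · intro q hq
        rw [hu', mul_inv_eq_iff_eq_mul]
        apply e.injective
        rw [map_mul, map_mul]
        exact (hB.comm _ hq).symm
      · intro q hq
        rw [hQm, hv', map_mul, map_mul, map_inv]
        exact hB.nor _ evu _ hq
    have h2 := h.inv _ h1
    have h3 := congrArg e h2
    rw [inv_inv, hv', map_mul, map_mul, map_mul, map_mul, map_inv, map_inv, e.apply_symm_apply, map_one] at h3
    calc y * e v * y⁻¹ * (e v)⁻¹ * (y * e v * y⁻¹ * (e v)⁻¹)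
        = y * (e v * y⁻¹ * (e v)⁻¹) * (y * (e v * y⁻¹ * (e v)⁻¹)) := by group
      _ = 1 := h3
  · exact ev1 (h' (e v) evu ev3)

theorem ex4 [Finite X] (e : X ≃* RuOrder.H) : EX4 X := by
  intro α β A h1 h2 h3 h4 h5 h6 h7 h8 h9 h10 _
  refine bad e α β A ⟨h1, h2, h3, h4, h5, h7, h6, h8, ?_, ?_⟩
  · have h11 : 1 < Nat.card A := by omega
    have : Nontrivial A := Finite.one_lt_card_iff_nontrivial.1 h11
    obtain ⟨a, ha⟩ := exists_ne (1 : A)
    exact ⟨a, a.2, fun h => ha (Subtype.ext (h9 a a.2 h))⟩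
  · exact h10

theorem row4 [Finite X] (e : X ≃* RuOrder.H) : Row4 X := (ex4 e).row4 (center_of e)

/-- **row `Ru`** -/
theorem ru [Finite X] (h : Spor.IsoRu X) : Row4 X := by
  obtain ⟨e⟩ := h
  exact row4 (e.trans Cfsg.Agent.RuLat.Main.equiv)

end Cfsg.Agent.OddHalf.NI3.Ex4.RowRu

end

-- merged: Cfsg.Agent.OddHalf.NI3.Ex4.RowSuz
section

/-!
# (EX4): the row of the Suzuki group
-/

set_option autoImplicit false

namespace Cfsg.Agent.OddHalf.NI3.Ex4

open Cfsg

universe u

theorem row_suz (X : Type u) [Group X] [Finite X] [IsSimpleGroup X] (h : Spor.IsoSuz X) : Row4 X := by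
  obtain ⟨e⟩ := h
  exact row4_of_sheetE e.symm Cfsg.Agent.KFacts.SuzSheetE.sheetE

end Cfsg.Agent.OddHalf.NI3.Ex4

end

-- merged: Cfsg.Agent.OddHalf.NI3.Ex4.RowTE62
section

/-!
# (EX4): the row `²E₆(2)`
-/

set_option autoImplicit false

namespace Cfsg.Agent.OddHalf.NI3.Ex4

open Cfsg Cfsg.Agent.OddHalf.D9.Cut

universe u

theorem row_te62 (X : Type u) [Group X] [Finite X] [IsSimpleGroup X] (h : X2E62 X) : Row4 X := by
  obtain ⟨F, _, _, hF, ⟨e⟩⟩ := h
  obtain ⟨-, φ, F'⟩ := Cfsg.Agent.TwoESix.LeviA.exists_four F hF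
  exact row4_of_sheetE e.symm (Cfsg.Agent.TwoESix.SheetMain.sheet F')

end Cfsg.Agent.OddHalf.NI3.Ex4

end

-- merged: Cfsg.Agent.OddHalf.NI3.Ex4.RowTwo
section

/-!
# (EX4), rows `L₃(4)` and `Sz(q)` (helper146)

`Cfg4.false_of_two` : `C(w)` is a 2-group and the involutions of its centre are squares.
-/

set_option autoImplicit false
set_option linter.style.haveILetI false

namespace Cfsg.Agent.OddHalf.NI3.Ex4

open Subgroup Cfsg

universe u

section Lem

variable {X : Type u} [Group X] {w : X} {β : MulAut X} {A : Subgroup X}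

theorem Cfg4.false_of_two [Finite X] (C : Cfg4 w β A) (hZ : center X = ⊥)
    (h2 : IsPGroup 2 ↥(centralizer ({w} : Set X)))
    (hsq : ∀ a : X, a * a = 1 → (∀ s, s * w = w * s → s * a = a * s) → ∃ x, x * w = w * x ∧ x * x = a) :
    False := by
  have key : ∀ s, s * w = w * s → β s * s⁻¹ ∈ A := by
    intro s hs
    refine C.two hZ h2 (fun b hb => mem_centralizer_singleton_iff.1 hb) ?_ C.bC s
      (mem_centralizer_singleton_iff.2 hs)
    intro a ha b hb
    have h3 : a ∈ centralizer ({w} : Set X) := mem_centralizer_singleton_iff.2 (C.Aw a ha)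
    exact mul_mem (mul_mem h3 hb) (inv_mem h3)
  have hww := C.ww
  -- every element of `A` is a commutator with `β`
  have hA : ∀ a ∈ A, β (β a) * (β a)⁻¹ = a := by
    intro a ha
    have h1 := C.prod ha
    have h2 := C.A2 _ (C.bA a ha)
    have h3 : (β a)⁻¹ = β a := inv_eq_of_mul_eq_one_left h2
    have h4 : β (β a) * β a = β a * β (β a) := C.comm (C.bA _ (C.bA a ha)) (C.bA a ha)
    rw [h3, h4]
    have h5 : a * (β a * β (β a)) = 1 := by rw [← mul_assoc]; exact h1
    exact mul_left_cancel (h5.trans (C.A2 a ha).symm)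
  -- the fixed elements of `C(w)` normalise and centralise `A`
  have hn : ∀ c, c * w = w * c → β c = c → ∀ a ∈ A, c * a * c⁻¹ ∈ A := by
    intro c hc hβ a ha
    have h1 : c * β a * c⁻¹ * w = w * (c * β a * c⁻¹) := by
      have e1 := C.Aw _ (C.bA a ha)
      have e2 : c⁻¹ * w = w * c⁻¹ := by
        rw [inv_mul_eq_iff_eq_mul, ← mul_assoc, hc, mul_inv_cancel_right]
      calc c * β a * c⁻¹ * w = c * β a * (c⁻¹ * w) := by group
        _ = c * (β a * w) * c⁻¹ := by rw [e2]; group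
        _ = (c * w) * β a * c⁻¹ := by rw [e1]; group
        _ = w * (c * β a * c⁻¹) := by rw [hc]; group
    have h3 := key _ h1
    have e : β (c * β a * c⁻¹) * (c * β a * c⁻¹)⁻¹ = c * (β (β a) * (β a)⁻¹) * c⁻¹ := by
      rw [map_mul, map_mul, map_inv, hβ]; group
    rwa [e, hA a ha] at h3
  have hcen : ∀ c, c * w = w * c → β c = c → ∀ a ∈ A, c * a = a * c := by
    intro c hc hβ a ha
    by_cases ha1 : a = 1
    · rw [ha1, mul_one, one_mul]
    have hb1 : β a ≠ 1 := fun h => ha1 (β.injective (by rw [h, map_one]))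
    have hne : a ≠ β a := fun h => ha1 (C.bne a ha h.symm)
    have hpr : a * β a ≠ 1 := by
      intro h
      apply hne
      have h5 : a * a = a * β a := by rw [C.A2 a ha, h]
      exact mul_left_cancel h5
    -- `c³` commutes with `a`
    have hc3 : (c * c * c) * a = a * (c * c * c) := by
      have hstep : ∀ x ∈ A, c * β x * c⁻¹ = β (c * x * c⁻¹) := by
        intro x _
        rw [map_mul, map_mul, map_inv, hβ]
      rcases four_cases C.A4 ha (C.bA a ha) ha1 hb1 hne hpr _ (hn c hc hβ a ha) with h | h | h | h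
      · exfalso
        apply ha1
        have h5 : a = c⁻¹ * (c * a * c⁻¹) * c := by group
        rw [h5, h]; group
      · have h5 : Commute c a := mul_inv_eq_iff_eq_mul.1 h
        exact (h5.mul_left h5).mul_left h5
      · have e1 : c * β a * c⁻¹ = β (β a) := by rw [hstep a ha, h]
        have e2 : c * β (β a) * c⁻¹ = a := by rw [hstep _ (C.bA a ha), e1, C.beta3]
        calc c * c * c * a = c * c * (c * a * c⁻¹) * c := by group
          _ = c * (c * β a * c⁻¹) * c * c := by rw [h]; group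
          _ = (c * β (β a) * c⁻¹) * c * c * c := by rw [e1]; group
          _ = a * (c * c * c) := by rw [e2]; group
      · have h6 : a * β a = β (β a) := by
          have h7 := C.prod ha
          have h8 := C.A2 _ (C.bA _ (C.bA a ha))
          exact mul_right_cancel (h7.trans h8.symm)
        rw [h6] at h
        have e1 : c * β (β a) * c⁻¹ = β a := by
          rw [hstep _ (C.bA a ha), hstep a ha, h, C.beta3]
        have e2 : c * β a * c⁻¹ = a := by rw [hstep a ha, h, C.beta3]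
        calc c * c * c * a = c * c * (c * a * c⁻¹) * c := by group
          _ = c * (c * β (β a) * c⁻¹) * c * c := by rw [h]; group
          _ = (c * β a * c⁻¹) * c * c * c := by rw [e1]; group
          _ = a * (c * c * c) := by rw [e2]; group
    obtain ⟨n, hcn⟩ := h2 ⟨c, mem_centralizer_singleton_iff.2 hc⟩
    have hcn' : c ^ 2 ^ n = 1 := by simpa using congrArg Subtype.val hcn
    -- `c` is a power of `c³`
    have hpow : ∃ k : ℕ, c = (c * c * c) ^ k := by
      have hcop : Nat.Coprime 3 (2 ^ n) := Nat.Coprime.pow_right n (by norm_num)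
      rcases Nat.eq_zero_or_pos n with h0 | h0
      · subst h0
        rw [pow_zero, pow_one] at hcn'
        exact ⟨0, by rw [hcn', pow_zero]⟩
      obtain ⟨k, hk⟩ := Nat.exists_mul_mod_eq_one_of_coprime hcop (by
        calc 1 < 2 ^ 1 := by norm_num
          _ ≤ 2 ^ n := Nat.pow_le_pow_right (by norm_num) h0)
      refine ⟨k, ?_⟩
      have e3 : c * c * c = c ^ 3 := by rw [pow_succ, pow_two]
      rw [e3, ← pow_mul]
      have h5 : 3 * k = 2 ^ n * (3 * k / 2 ^ n) + 1 := by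
        have := Nat.div_add_mod (3 * k) (2 ^ n)
        rw [hk.2] at this
        exact this.symm
      rw [h5, pow_add, pow_mul, hcn', one_pow, one_mul, pow_one]
    obtain ⟨k, hk⟩ := hpow
    have h5 : Commute (c * c * c) a := hc3
    rw [hk]
    exact h5.pow_left k
  -- `A` is central in `C(w)`
  have hcA : ∀ s, s * w = w * s → ∀ a ∈ A, s * a = a * s := by
    intro s hs a ha
    set d := β s * s⁻¹ with hd
    have hdA : d ∈ A := key s hs
    have h1 : β s = d * s := by rw [hd]; group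
    set c := (β d)⁻¹ * s with hc
    have hcw : c * w = w * c := by
      have e1 := C.Aw _ (C.bA d hdA)
      have e2 : (β d)⁻¹ * w = w * (β d)⁻¹ := by
        rw [inv_mul_eq_iff_eq_mul, ← mul_assoc, e1, mul_inv_cancel_right]
      calc c * w = (β d)⁻¹ * (s * w) := by rw [hc]; group
        _ = ((β d)⁻¹ * w) * s := by rw [hs]; group
        _ = w * c := by rw [e2, hc]; group
    have hcβ : β c = c := by
      rw [hc, map_mul, map_inv, h1]
      have e3 := hA d hdA
      have e4 : (β d)⁻¹ = (β (β d))⁻¹ * d := by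
        rw [eq_inv_mul_iff_mul_eq]; exact e3
      rw [e4]; group
    have h3 := hcen c hcw hcβ a ha
    have h4 : s = β d * c := by rw [hc]; group
    rw [h4]
    calc β d * c * a = β d * (c * a) := by group
      _ = (β d * a) * c := by rw [h3]; group
      _ = a * (β d * c) := by rw [C.comm (C.bA d hdA) ha]; group
  -- the elements of `A` are squares
  have hfix : ∀ a ∈ A, a = 1 := by
    intro a ha
    obtain ⟨x, hx, hxx⟩ := hsq a (C.A2 a ha) (fun s hs => hcA s hs a ha)
    have h1 := key x hx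
    set d := β x * x⁻¹ with hd
    have h3 : β x = d * x := by rw [hd]; group
    apply C.bne a ha
    rw [← hxx, map_mul, h3]
    have h4 := hcA x hx d h1
    calc d * x * (d * x) = d * (x * d) * x := by group
      _ = (d * d) * (x * x) := by rw [h4]; group
      _ = x * x := by rw [C.A2 d h1, one_mul]
  have h3 : A = ⊥ := by
    rw [eq_bot_iff]
    intro a ha
    rw [mem_bot]
    exact hfix a ha
  have h4 := C.A4
  rw [h3, card_bot] at h4
  omega

/-- **The row from the centralizers of the involutions.** -/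
theorem row4_of_pgroup_two [Finite X] (hZ : center X = ⊥)
    (h : ∀ w : X, w * w = 1 → w ≠ 1 → IsPGroup 2 ↥(centralizer ({w} : Set X)) ∧
      ∀ a : X, a * a = 1 → (∀ s, s * w = w * s → s * a = a * s) → ∃ x, x * w = w * x ∧ x * x = a) :
    Row4 X := by
  intro w β A C N _ _ f _ _ _ _ a b l _ _ _ _ _ _ _
  obtain ⟨h1, h2⟩ := h w C.ww C.w1
  exact C.false_of_two hZ h1 h2

end Lem

/-! ### `L₃(4)` -/

section L34

open Cfsg.Agent.LThreeFour Cfsg.Agent.SporadicA.FieldFour

theorem code_four : ∀ a b c, cmul (cmul ⟨a, b, c⟩ ⟨a, b, c⟩) (cmul ⟨a, b, c⟩ ⟨a, b, c⟩) = cone := by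
  decide +kernel

theorem code_cen : ∀ a b c, cmul ⟨a, b, c⟩ ⟨1, 0, 0⟩ = cmul ⟨1, 0, 0⟩ ⟨a, b, c⟩ →
    cmul ⟨a, b, c⟩ ⟨0, 1, 0⟩ = cmul ⟨0, 1, 0⟩ ⟨a, b, c⟩ → a = 0 ∧ b = 0 := by
  decide +kernel

theorem code_sq : ∀ c : F4, cmul ⟨c, 1, 0⟩ ⟨c, 1, 0⟩ = ⟨0, 0, c⟩ := by
  decide +kernel

theorem code_z : ∀ a b c, cmul ⟨a, b, c⟩ ⟨0, 0, 1⟩ = cmul ⟨0, 0, 1⟩ ⟨a, b, c⟩ := by
  decide +kernel

/-- **(EX4), row `L₃(4)`** -/
theorem row_l34 {X : Type u} [Group X] (h : D9.Cut.XL34 X) : Row4 X := by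
  obtain ⟨F, _, _, hF, ⟨e⟩⟩ := h
  obtain ⟨D⟩ := exists_dat hF e
  haveI : Finite X := Nat.finite_of_card_ne_zero (by rw [D.card]; norm_num)
  have hz : ∀ p : Code, D.el p * D.x 0 2 1 = D.x 0 2 1 * D.el p := by
    rintro ⟨a, b, c⟩
    rw [← D.el_x02, D.el_mul, D.el_mul, code_z]
  have hZ : center X = ⊥ := by
    rw [eq_bot_iff]
    intro x hx
    rw [mem_bot]
    apply D.conj_eq_one
    ext y
    rw [MulAut.conj_apply, MulAut.one_apply, mul_inv_eq_iff_eq_mul]
    exact ((mem_center_iff.1 hx) y).symm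
  refine row4_of_pgroup_two hZ ?_
  intro w ww w1
  obtain ⟨g, hg⟩ := D.invol_conj w w1 ww
  have hw : ∀ s, s * w = w * s → ∃ p, g * s * g⁻¹ = D.el p := by
    intro s hs
    obtain ⟨p, hp⟩ := D.cent (g * s * g⁻¹) (by
      rw [← hg]
      calc g * s * g⁻¹ * (g * w * g⁻¹) = g * (s * w) * g⁻¹ := by group
        _ = g * w * g⁻¹ * (g * s * g⁻¹) := by rw [hs]; group)
    exact ⟨p, hp⟩
  have hw' : ∀ p, (g⁻¹ * D.el p * g) * w = w * (g⁻¹ * D.el p * g) := by
    intro p
    have h1 := hz p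
    rw [← hg] at h1
    calc g⁻¹ * D.el p * g * w = g⁻¹ * (D.el p * (g * w * g⁻¹)) * g := by group
      _ = w * (g⁻¹ * D.el p * g) := by rw [h1]; group
  refine ⟨?_, ?_⟩
  · rintro ⟨s, hs⟩
    rw [mem_centralizer_singleton_iff] at hs
    obtain ⟨⟨a, b, c⟩, hp⟩ := hw s hs
    refine ⟨2, Subtype.ext ?_⟩
    change s ^ 2 ^ 2 = 1
    have h1 : (g * s * g⁻¹) * (g * s * g⁻¹) * ((g * s * g⁻¹) * (g * s * g⁻¹)) = 1 := by
      rw [hp, D.el_mul, D.el_mul, code_four, D.el_one]
    have h2 : g * (s ^ 2 ^ 2) * g⁻¹ = 1 := by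
      rw [← h1]
      have e : s ^ 2 ^ 2 = s * s * (s * s) := by
        rw [show (2 : ℕ) ^ 2 = 2 + 2 by norm_num, pow_add, pow_two]
      rw [e]; group
    have h3 : s ^ 2 ^ 2 = g⁻¹ * (g * (s ^ 2 ^ 2) * g⁻¹) * g := by group
    rw [h3, h2]; group
  · intro a aa ha
    obtain ⟨⟨p, q, r⟩, hp⟩ := hw a (ha w rfl).symm
    have h1 : ∀ c : Code, D.el ⟨p, q, r⟩ * D.el c = D.el c * D.el ⟨p, q, r⟩ := by
      intro c
      rw [← hp]
      have h2 := ha _ (hw' c)
      calc g * a * g⁻¹ * D.el c = g * (a * (g⁻¹ * D.el c * g)) * g⁻¹ := by group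
        _ = D.el c * (g * a * g⁻¹) := by rw [← h2]; group
    have h2 := h1 ⟨1, 0, 0⟩
    have h3 := h1 ⟨0, 1, 0⟩
    rw [D.el_mul, D.el_mul] at h2 h3
    obtain ⟨rfl, rfl⟩ := code_cen p q r (D.inj h2) (D.inj h3)
    refine ⟨g⁻¹ * D.el ⟨r, 1, 0⟩ * g, hw' _, ?_⟩
    have h4 : D.el ⟨r, 1, 0⟩ * D.el ⟨r, 1, 0⟩ = g * a * g⁻¹ := by
      rw [D.el_mul, code_sq, hp]
    calc g⁻¹ * D.el ⟨r, 1, 0⟩ * g * (g⁻¹ * D.el ⟨r, 1, 0⟩ * g)
        = g⁻¹ * (D.el ⟨r, 1, 0⟩ * D.el ⟨r, 1, 0⟩) * g := by group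
      _ = a := by rw [h4]; group

end L34

/-! ### `Sz(q)` -/

section Sz

open Cfsg.Agent.OddHalf.D4.Sz Cfsg.Agent.OddHalf.D4.Basic

/-- **(EX4), row `Sz(q)`** -/
theorem row_sz {X : Type u} [Group X] (h : D9.Cut.XSz X) : Row4 X := by
  obtain ⟨F, _, _, m, hm, hF, ⟨e⟩⟩ := h
  haveI : Finite X := Finite.of_equiv _ e.symm.toEquiv
  haveI : Fact (Nat.Prime 2) := ⟨Nat.prime_two⟩
  have e' : ↥(⊤ : Subgroup X) ≃* ↥(Cfsg.Lie.Sz F (2 ^ (m + 1))) := topEquiv.trans e
  have hZ : center X = ⊥ := by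
    obtain ⟨T, hT, -⟩ := exists_isSyl (G := X) (M := ⊤) (Q := ⊥) IsPGroup.of_bot bot_le
    obtain ⟨p, hh, V⟩ := KD.exists_kd hm hF e' hT
    rw [eq_bot_iff]
    intro x hx
    rw [mem_bot]
    refine V.cen x (mem_top x) ?_
    rw [mem_centralizer_iff]
    intro y _
    exact (mem_center_iff.1 hx) y
  refine row4_of_pgroup_two hZ ?_
  intro w ww w1
  have hw2 : IsPGroup 2 ↥(zpowers w) := by
    rintro ⟨x, k, rfl⟩
    refine ⟨1, Subtype.ext ?_⟩
    change (w ^ k) ^ (2 ^ 1) = 1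
    rw [pow_one, ← zpow_natCast, ← zpow_mul, mul_comm, zpow_mul, zpow_natCast, pow_two, ww, one_zpow]
  obtain ⟨T, hT, hwT⟩ := exists_isSyl (G := X) (M := ⊤) (Q := zpowers w) hw2 le_top
  obtain ⟨p, hh, V⟩ := KD.exists_kd hm hF e' hT
  have hwT' : w ∈ T := hwT (mem_zpowers w)
  have hcT : ∀ s, s * w = w * s → s ∈ T := fun s hs => V.cent s (mem_top s) w hwT' w1 hs
  obtain ⟨b, rfl⟩ := V.eq_of_sq hwT' ww
  refine ⟨?_, ?_⟩
  · refine V.syl.two.to_le ?_
    intro s hs
    exact hcT s (mem_centralizer_singleton_iff.1 hs)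
  · intro a aa ha
    obtain ⟨c, rfl⟩ := V.eq_of_sq (hcT a (ha _ rfl).symm) aa
    refine ⟨p (c ^ (2 ^ (m + 1) - 1)) 0, V.z_comm _ _ _, ?_⟩
    rw [V.p_sq]
    congr 1
    by_cases hc : c = 0
    · rw [hc, ← pow_mul]
      apply zero_pow
      have h1 : 2 ≤ 2 ^ (m + 1) := by
        calc 2 = 2 ^ 1 := by norm_num
          _ ≤ 2 ^ (m + 1) := Nat.pow_le_pow_right (by norm_num) (by omega)
      have h2 : 0 < 2 ^ (m + 1) - 1 := by omega
      positivity
    · have h1 := V.th_th c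
      have h2 : 1 ≤ 2 ^ (m + 1) := Nat.one_le_two_pow
      apply mul_right_cancel₀ hc
      rw [← pow_mul, ← pow_succ]
      have h3 : (2 ^ (m + 1) - 1) * (1 + 2 ^ (m + 1)) + 1 = 2 ^ (m + 1) * 2 ^ (m + 1) := by
        obtain ⟨k, hk⟩ := Nat.exists_eq_add_of_le h2
        rw [hk, Nat.add_sub_cancel_left]
        ring
      rw [h3, pow_mul, h1, pow_two]

end Sz

end Cfsg.Agent.OddHalf.NI3.Ex4

end

-- merged: Cfsg.Agent.OddHalf.NI3.Ex4.RowFi22
section

/-!
# (EX4), row `Fi22` (helper967; bb ODD #15341, #18008)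

`ζ = z = d d'`, `P = R = O₂(C(d, d'))`, `Z₁ = ⟨z⟩`; `β` fixes `z`, hence `d` and `d'`, and `A = [A, β] ≤ C(d, d')`.
-/

set_option autoImplicit false
set_option linter.style.haveILetI false

namespace Cfsg.Agent.OddHalf.NI3.Ex4

open Subgroup Cfsg Cfsg.Agent.KFacts.FiTT Cfsg.Agent.OddHalf.D8.Fi22 Cfsg.Agent.R01
open Cfsg.Agent.OddHalf.NI.Ex.Lemma (NoComm)
open Cfsg.Agent.OddHalf.NI.Ex (RowFi22.good)

universe u

open scoped Pointwise in
/-- a conjugate of the 2-central involution `ζ` commutes with `w` and `A` -/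
theorem Cfg4.exists_conj {X : Type u} [Group X] [Finite X] {w ζ : X} {β : MulAut X} {A : Subgroup X}
    (C : Cfg4 w β A) (hS : ∃ S : Sylow 2 X, ∀ x ∈ S, x * ζ = ζ * x) :
    ∃ g : X, w * (g * ζ * g⁻¹) = (g * ζ * g⁻¹) * w ∧ ∀ a ∈ A, a * (g * ζ * g⁻¹) = (g * ζ * g⁻¹) * a := by
  haveI : Fact (Nat.Prime 2) := ⟨Nat.prime_two⟩
  obtain ⟨S, hS⟩ := hS
  have hle : zpowers w ≤ normalizer (A : Set X) := by
    rw [zpowers_le]
    refine normalizer_of_forall fun a ha => ?_
    rw [← C.Aw a ha, mul_inv_cancel_right]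
    exact ha
  have hA2 : IsPGroup 2 ↥A := IsPGroup.of_card (n := 2) (by rw [C.A4]; norm_num)
  have hw2 : IsPGroup 2 ↥(zpowers w) := by
    rintro ⟨x, k, rfl⟩
    refine ⟨1, Subtype.ext ?_⟩
    change (w ^ k) ^ (2 ^ 1) = 1
    rw [pow_one, ← zpow_natCast, ← zpow_mul, mul_comm, zpow_mul, zpow_natCast, pow_two, C.ww, one_zpow]
  have hAw : IsPGroup 2 ↥(A ⊔ zpowers w) := hA2.to_sup_of_normal_left' hw2 hle
  obtain ⟨T, hT⟩ := hAw.exists_le_sylow
  obtain ⟨g, hg⟩ := MulAction.exists_smul_eq X S T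
  have hζ : ∀ x ∈ T, x * (g * ζ * g⁻¹) = (g * ζ * g⁻¹) * x := by
    intro x hx
    rw [← hg] at hx
    have hx' : g⁻¹ * x * g ∈ S := by
      have h1 := Subgroup.mem_smul_pointwise_iff_exists x (MulAut.conj g) (S : Subgroup X)
      have h2 : x ∈ MulAut.conj g • (S : Subgroup X) := hx
      obtain ⟨s, hs, h3⟩ := h1.1 h2
      rw [MulAut.smul_def, MulAut.conj_apply] at h3
      rw [← h3]
      have h4 : g⁻¹ * (g * s * g⁻¹) * g = s := by group
      rw [h4]; exact hs
    have h1 := hS _ hx'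
    calc x * (g * ζ * g⁻¹) = g * ((g⁻¹ * x * g) * ζ) * g⁻¹ := by group
      _ = g * (ζ * (g⁻¹ * x * g)) * g⁻¹ := by rw [h1]
      _ = (g * ζ * g⁻¹) * x := by group
  exact ⟨g, hζ w (hT (mem_sup_right (mem_zpowers w))), fun a ha => hζ a (hT (mem_sup_left ha))⟩

section

variable {X : Type u} [Group X] {T : Set X} {d d' : X} {R : Subgroup X}

theorem fi_largeP [Finite X] (F : Facts X d d' R) (k : KTrans X T) (hd : d ∈ T) (hd' : d' ∈ T) :
    LargeP (d * d') (zpowers (d * d')) R where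
  zz := Sheet22.zz F
  z1 := Sheet22.z_ne F
  P2 := F.R_two
  Pc := fun x hx => Sheet22.z_comm (F.R_le hx)
  Pn := fun x hx h hh => F.R_normal h hh x hx
  le := by
    rw [zpowers_le]
    exact mul_mem F.d_mem F.d'_mem
  ex := by
    intro x hx
    rcases (mem_zpowers_two (Sheet22.zz F)).1 hx with rfl | rfl
    · exact one_mul _
    · exact Sheet22.zz F
  cen := by
    intro x hx h hh
    rcases (mem_zpowers_two (Sheet22.zz F)).1 hx with rfl | rfl
    · rw [one_mul, mul_one]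
    · exact hh
  sq := fun x hx => (mem_zpowers_two (Sheet22.zz F)).2 (F.R_sq x hx)
  nc := by
    intro x hx hx1
    rcases (mem_zpowers_two (Sheet22.zz F)).1 hx with rfl | rfl
    · exact absurd rfl hx1
    · exact NI.Ex.Lemma.Good.noComm (RowFi22.good F k hd hd')
  four := by
    intro B _ hc h4
    have h5 : ∀ b ∈ B, b = 1 ∨ b = d ∨ b = d' ∨ b = d * d' := fun b hb => F.R_center b (hc b hb)
    by_contra hcon
    have hz : d * d' ∉ B := fun h => hcon ⟨_, h, Sheet22.z_ne F, mem_zpowers _⟩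
    have h6 : (B : Set X) ⊆ {1, d, d'} := by
      intro b hb
      rcases h5 b hb with h | h | h | h
      · rw [h]; simp
      · rw [h]; simp
      · rw [h]; simp
      · exact absurd (h ▸ hb) hz
    have h7 : (B : Set X).ncard ≤ ({1, d, d'} : Set X).ncard := Set.ncard_le_ncard h6 (Set.toFinite _)
    have h8 : ({1, d, d'} : Set X).ncard ≤ 3 := by
      calc ({1, d, d'} : Set X).ncard ≤ ({d, d'} : Set X).ncard + 1 := Set.ncard_insert_le _ _
        _ ≤ (({d'} : Set X).ncard + 1) + 1 := Nat.add_le_add_right (Set.ncard_insert_le _ _) 1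
        _ = 3 := by rw [Set.ncard_singleton]
    have h9 : (B : Set X).ncard = 4 := by
      change Nat.card B = 4
      exact h4
    omega

/-- `R ≤ O₂(C(z))` -/
theorem fi_R_le [Finite X] (F : Facts X d d' R) : R ≤ OO2 (d * d') := by
  haveI : Fact (Nat.Prime 2) := ⟨Nat.prime_two⟩
  intro r hr
  have hle : R ≤ centralizer ({d * d'} : Set X) := fun x hx =>
    mem_centralizer_singleton_iff.2 (Sheet22.z_comm (F.R_le hx))
  have hn : (R.subgroupOf (centralizer ({d * d'} : Set X))).Normal := by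
    refine ⟨fun n hn g => ?_⟩
    exact F.R_normal g (mem_centralizer_singleton_iff.1 g.2) n hn
  have h2 : IsPGroup 2 ↥(R.subgroupOf (centralizer ({d * d'} : Set X))) :=
    F.R_two.comap_of_injective _ (Subgroup.subtype_injective _)
  have h3 : R.subgroupOf (centralizer ({d * d'} : Set X)) ≤ pCore 2 ↥(centralizer ({d * d'} : Set X)) :=
    Lib.Cores.le_pCore hn h2
  exact ⟨⟨r, hle hr⟩, h3 hr, rfl⟩

/-- `O₂(C(z)) ⊓ C(d, d') ≤ R` -/
theorem fi_le_R [Finite X] (F : Facts X d d' R) {x : X} (hx : x ∈ OO2 (d * d'))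
    (hx' : x ∈ centralizer ({d, d'} : Set X)) : x ∈ R := by
  have h1 : OO2 (d * d') ⊓ centralizer ({d, d'} : Set X) ≤ R := by
    refine F.O2 _ inf_le_right ?_ ((OO2_isPGroup (d * d')).to_le inf_le_left)
    rintro g g1 g2 y ⟨hy, hy'⟩
    have hg : g ∈ centralizer ({d, d'} : Set X) := Sheet22.mem_P.2 ⟨g1, g2⟩
    have hy2 : y ∈ centralizer ({d, d'} : Set X) := hy'
    have h3 : g * y * g⁻¹ ∈ centralizer ({d, d'} : Set X) := mul_mem (mul_mem hg hy2) (inv_mem hg)
    exact ⟨OO2_conj hy (Sheet22.z_comm hg), h3⟩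
  exact h1 ⟨hx, hx'⟩

theorem fi_fix (F : Facts X d d' R) (k : KTrans X T) (hd : d ∈ T) (hd' : d' ∈ T) {β : MulAut X}
    (b3 : β * β * β = 1) (hβ : β (d * d') = d * d') : β d = d ∧ β d' = d' := by
  have h1 : β d * β d' = d * d' := by rw [← map_mul, hβ]
  have h2 : β d * β d' = β d' * β d := by rw [← map_mul, F.comm, map_mul]
  have key : β d = d → β d' = d' := by
    intro h
    rw [h] at h1
    exact mul_left_cancel h1
  rcases k.uniq d hd d' hd' (β d) (k.aut β d hd) (β d') (k.aut β d' hd') F.ne F.comm h2 h1.symm with h | h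
  · exact ⟨h, key h⟩
  · exfalso
    have h3 : β d' = d := by
      rw [h] at h1
      have h4 : d' * (β d') = d' * d := by rw [h1, F.comm]
      exact mul_left_cancel h4
    have h4 : β (β (β d)) = d := by
      rw [← MulAut.mul_apply, ← MulAut.mul_apply, b3, MulAut.one_apply]
    rw [h, h3, h] at h4
    exact F.ne h4.symm

end

/-- **row `Fi22` of (EX4)** -/
theorem row_fi22 (X : Type u) [Group X] [Finite X] [IsSimpleGroup X] (hX : Spor.IsoFi22 X) : Row4 X := by
  obtain ⟨e⟩ := hX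
  have k := kTrans e
  obtain ⟨d0, hd0, d0', hd0', hne, hcm⟩ := k.pair
  obtain ⟨R0, A0⟩ := all_of_iso e hd0 hd0' hne hcm
  obtain ⟨S, -, hS, -⟩ := A0.basic.syl
  have hZ : center X = ⊥ := by
    obtain ⟨x, _, y, _, h⟩ := A0.facts.R_nonab
    refine center_bot (a := x) (b := y) fun h1 => ?_
    rw [h1] at h
    apply Sheet22.z_ne A0.facts
    rw [← h]; group
  intro w β A C N _ _ f hf hker hker2 hN a b l ha hb hl hal hbl hk ho
  have hab : a * b ≠ b * a := by
    intro h1
    have h2 : a * b * a⁻¹ * b⁻¹ = 1 := by rw [h1]; group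
    rw [h2, orderOf_one] at ho
    omega
  obtain ⟨g, hw, hA⟩ := C.exists_conj ⟨S, hS⟩
  have hd := k.conj g d0 hd0
  have hd' := k.conj g d0' hd0'
  have eg : g * (d0 * d0') * g⁻¹ = (g * d0 * g⁻¹) * (g * d0' * g⁻¹) := by group
  rw [eg] at hw hA
  have hne' : g * d0 * g⁻¹ ≠ g * d0' * g⁻¹ := by
    intro h
    apply hne
    have h1 : g⁻¹ * (g * d0 * g⁻¹) * g = g⁻¹ * (g * d0' * g⁻¹) * g := by rw [h]
    have e1 : g⁻¹ * (g * d0 * g⁻¹) * g = d0 := by group
    have e2 : g⁻¹ * (g * d0' * g⁻¹) * g = d0' := by group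
    rwa [e1, e2] at h1
  have hcm' : (g * d0 * g⁻¹) * (g * d0' * g⁻¹) = (g * d0' * g⁻¹) * (g * d0 * g⁻¹) := by
    calc (g * d0 * g⁻¹) * (g * d0' * g⁻¹) = g * (d0 * d0') * g⁻¹ := by group
      _ = g * (d0' * d0) * g⁻¹ := by rw [hcm]
      _ = (g * d0' * g⁻¹) * (g * d0 * g⁻¹) := by group
  obtain ⟨R, Al⟩ := all_of_iso e hd hd' hne' hcm'
  have F := Al.facts
  generalize g * d0 * g⁻¹ = d at *
  generalize g * d0' * g⁻¹ = d' at *
  have L := fi_largeP F k hd hd'
  have hβ : β (d * d') = d * d' :=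
    C.beta_eq hZ (L.nc _ (mem_zpowers _) L.z1) L.zz hw hA hf hker hker2 hN ha hb hal hbl hab
  obtain ⟨b1, b2⟩ := fi_fix F k hd hd' C.b3 hβ
  have hβC : ∀ x ∈ centralizer ({d, d'} : Set X), β x ∈ centralizer ({d, d'} : Set X) := by
    intro x hx
    obtain ⟨h1, h2⟩ := Sheet22.mem_P.1 hx
    refine Sheet22.mem_P.2 ⟨?_, ?_⟩
    · have h3 := congrArg β h1
      rwa [map_mul, map_mul, b1] at h3
    · have h3 := congrArg β h2
      rwa [map_mul, map_mul, b2] at h3
  have hAO : A ≤ OO2 (d * d') := by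
    refine C.le_OO2 hZ ?_ hβ hw hA
    intro h _ hc
    apply fi_R_le F
    rcases F.R_center h (fun y hy => hc y (fi_R_le F hy)) with rfl | rfl | rfl | rfl
    · exact one_mem _
    · exact F.d_mem
    · exact F.d'_mem
    · exact mul_mem F.d_mem F.d'_mem
  have hAR : A ≤ R := by
    intro a ha
    have hx := C.bA a ha
    have hy := C.bA _ hx
    have e1 : a = β (β a) * (β a)⁻¹ := by
      have h1 := C.prod ha
      have h2 : (β a)⁻¹ = β a := inv_eq_of_mul_eq_one_right (C.A2 _ hx)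
      have h3 : a⁻¹ = a := inv_eq_of_mul_eq_one_right (C.A2 _ ha)
      rw [h2, C.comm hy hx]
      rw [mul_assoc] at h1
      rw [← inv_eq_of_mul_eq_one_right h1, h3]
    rw [e1]
    refine fi_le_R F (mul_mem (hAO hy) (inv_mem (hAO hx))) ?_
    rcases F.cz (β a) (OO2_comm (hAO hx)) with ⟨h1, h2⟩ | ⟨h1, h2⟩
    · have h3 : β a ∈ centralizer ({d, d'} : Set X) := Sheet22.mem_P.2 ⟨h1, h2⟩
      exact mul_mem (hβC _ h3) (inv_mem h3)
    · have h3 := congrArg β h1
      have h4 := congrArg β h2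
      rw [map_mul, map_mul, map_inv, b1, b2] at h3 h4
      refine Sheet22.mem_P.2 ⟨?_, ?_⟩
      · rw [← mul_inv_eq_iff_eq_mul]
        calc β (β a) * (β a)⁻¹ * d * (β (β a) * (β a)⁻¹)⁻¹
            = β (β a) * ((β a)⁻¹ * d * β a) * (β (β a))⁻¹ := by group
          _ = β (β a) * ((β a)⁻¹ * (β a * d' * (β a)⁻¹) * β a) * (β (β a))⁻¹ := by rw [h2]
          _ = β (β a) * d' * (β (β a))⁻¹ := by group
          _ = d := h4
      · rw [← mul_inv_eq_iff_eq_mul]
        calc β (β a) * (β a)⁻¹ * d' * (β (β a) * (β a)⁻¹)⁻¹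
            = β (β a) * ((β a)⁻¹ * d' * β a) * (β (β a))⁻¹ := by group
          _ = β (β a) * ((β a)⁻¹ * (β a * d * (β a)⁻¹) * β a) * (β (β a))⁻¹ := by rw [h1]
          _ = β (β a) * d * (β (β a))⁻¹ := by group
          _ = d' := h3
  have hβR : ∀ x ∈ R, β x ∈ R := by
    intro x hx
    exact fi_le_R F (beta_OO2 hβ (fi_R_le F hx)) (hβC x (F.R_le hx))
  refine false_of_largeP hZ L C hw hA hAR hβR ?_ hf hker hker2 hN ha hb hl hal hbl hab
  intro x hx
  rcases (mem_zpowers_two L.zz).1 hx with rfl | rfl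
  · exact map_one _
  · exact hβ

end Cfsg.Agent.OddHalf.NI3.Ex4

end

-- merged: Cfsg.Agent.OddHalf.NI3.Ex4.RowG24
section

/-!
# (EX4): the row `G₂(4)` (helper831)

`ζ` a long root element: `C(ζ) = 2^{2+8} : A₅`, `O₂(C(ζ)) = Q₁` of order `2¹⁰`, `Z₁ = Z(Q₁)` of order four.
-/

set_option autoImplicit false
set_option linter.style.haveILetI false

namespace Cfsg.Agent.OddHalf.NI3.Ex4

open Subgroup Cfsg
open Cfsg.Agent.OddHalf.NI.Ex (Good hasGood_L good_long exists_long cent_eq_P finite_L' card_L')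
open Cfsg.Agent.GTwoFour Cfsg.Agent.GTwoFour.Mdl
open Cfsg.Agent.StdG24.Mod6

universe u

/-- a Sylow 2-subgroup contained in a subgroup of odd index -/
theorem exists_syl_of_odd {K : Type*} [Group K] [Finite K] (C : Subgroup K) (hodd : Odd C.index) :
    ∃ T : Sylow 2 K, (T : Subgroup K) ≤ C := by
  haveI : Fact (Nat.Prime 2) := ⟨Nat.prime_two⟩
  obtain ⟨P⟩ : Nonempty (Sylow 2 C) := inferInstance
  have h1 : IsPGroup 2 ((P : Subgroup C).map C.subtype) := P.2.map _
  obtain ⟨T, hT⟩ := h1.exists_le_sylow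
  have hcard : Nat.card (T : Subgroup K) ≤ Nat.card ((P : Subgroup C).map C.subtype) := by
    rw [Nat.card_congr ((P : Subgroup C).equivMapOfInjective C.subtype C.subtype_injective).toEquiv.symm,
      T.card_eq_multiplicity, P.card_eq_multiplicity]
    have h2 : Nat.card K = Nat.card C * C.index := (Subgroup.card_mul_index C).symm
    have h3 : (Nat.card K).factorization 2 = (Nat.card C).factorization 2 := by
      rw [h2, Nat.factorization_mul (Nat.card_pos.ne') (Subgroup.index_ne_zero_of_finite)]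
      simp only [Finsupp.coe_add, Pi.add_apply]
      rw [Nat.factorization_eq_zero_of_not_dvd (n := C.index), add_zero]
      rw [← even_iff_two_dvd, Nat.not_even_iff_odd]
      exact hodd
    rw [h3]
  have heq : (P : Subgroup C).map C.subtype = (T : Subgroup K) := eq_of_le_of_card_ge hT hcard
  refine ⟨T, ?_⟩
  rw [← heq]
  exact Subgroup.map_subtype_le _

section L

theorem mem_cent {z : L} (hz : z ∈ DL.Z) (h1 : z ≠ 1) {x : L} : x * z = z * x ↔ x ∈ DL.P := by
  rw [← mem_centralizer_singleton_iff, cent_eq_P hz h1]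

theorem OO2_L {z : L} (hz : z ∈ DL.Z) (h1 : z ≠ 1) : OO2 z = DL.Q1 := by
  haveI : Finite L := finite_L'
  haveI : Fact (Nat.Prime 2) := ⟨Nat.prime_two⟩
  apply le_antisymm
  · refine factsL.core_P _ ?_ ?_ (OO2_isPGroup z)
    · intro x hx
      exact (mem_cent hz h1).1 (OO2_comm hx)
    · intro p hp x hx
      exact OO2_conj hx ((mem_cent hz h1).2 hp)
  · have hle : DL.Q1 ≤ centralizer ({z} : Set L) := by
      rw [cent_eq_P hz h1]; exact factsL.Q1_le
    have hQ : IsPGroup 2 ↥DL.Q1 := IsPGroup.of_card (n := 10) (by rw [factsL.card_Q1]; norm_num)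
    intro r hr
    have hn : (DL.Q1.subgroupOf (centralizer ({z} : Set L))).Normal := by
      refine ⟨fun n hn g => ?_⟩
      have hg : (g : L) ∈ DL.P := by
        rw [← cent_eq_P hz h1]; exact g.2
      exact factsL.norm_Q1 g hg n hn
    have h2 : IsPGroup 2 ↥(DL.Q1.subgroupOf (centralizer ({z} : Set L))) :=
      hQ.comap_of_injective _ (Subgroup.subtype_injective _)
    have h3 : DL.Q1.subgroupOf (centralizer ({z} : Set L)) ≤ pCore 2 ↥(centralizer ({z} : Set L)) :=
      Lib.Cores.le_pCore hn h2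
    exact ⟨⟨r, hle hr⟩, h3 hr, rfl⟩

/-- the center of `Q₁` -/
theorem mem_Z_iff {x : L} : x ∈ DL.Z ↔ x ∈ DL.Q1 ∧ ∀ q ∈ DL.Q1, x * q = q * x := by
  constructor
  · intro hx
    refine ⟨factsL.Z_le hx, fun q hq => ?_⟩
    have h1 := factsL.Q1_le hq
    exact (((factsL.cent_Z q (factsL.P_le h1)).2 h1) x hx).symm
  · rintro ⟨h1, h2⟩
    exact factsL.center_Q1 x h1 h2

theorem preG_L {z : L} (hz : z ∈ DL.Z) (h1 : z ≠ 1) : PreG z DL.Z := by
  haveI : Finite L := finite_L'
  haveI : Fact (Nat.Prime 2) := ⟨Nat.prime_two⟩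
  refine
    { zz := factsL.sq_Z z hz
      z1 := h1
      syl := ?_
      con := ?_
      mem := hz
      le := by rw [OO2_L hz h1]; exact factsL.Z_le
      ex := factsL.sq_Z
      cen := ?_
      sq := by rw [OO2_L hz h1]; exact factsL.sq_Q1
      gd := fun x hx hx1 => good_long hx hx1
      fix := ?_ }
  · -- a Sylow 2-subgroup of odd index
    have h3 := (centralizer ({z} : Set L)).card_mul_index
    have h4 : Nat.card (centralizer ({z} : Set L)) = 61440 := by
      rw [cent_eq_P hz h1]; exact factsL.card_P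
    rw [h4, card_L'] at h3
    have h5 : (centralizer ({z} : Set L)).index = 4095 := by omega
    obtain ⟨S, hS⟩ := exists_syl_of_odd (centralizer ({z} : Set L)) (by rw [h5]; decide)
    exact ⟨S, fun x hx => mem_centralizer_singleton_iff.1 (hS hx)⟩
  · intro h hh hc
    rw [OO2_L hz h1] at hc ⊢
    refine factsL.cent_Q1Z h ((mem_cent hz h1).1 hh) fun q hq => ?_
    rw [commutatorElement_def, hc q hq, mul_inv_cancel_right, mul_inv_cancel]
    exact one_mem _
  · intro x hx h hh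
    have h3 := (mem_cent hz h1).1 hh
    exact ((factsL.cent_Z h (factsL.P_le h3)).2 h3) x hx
  · -- an automorphism of order three which fixes `z` is trivial on `Z`
    intro β b3 hβ
    have hb : ∀ x ∈ DL.Z, β x ∈ DL.Z := by
      intro x hx
      rw [mem_Z_iff] at hx ⊢
      rw [← OO2_L hz h1] at hx ⊢
      refine ⟨beta_OO2 hβ hx.1, fun q hq => ?_⟩
      have hβ' : β.symm z = z := by rw [MulEquiv.symm_apply_eq]; exact hβ.symm
      have hq' : β.symm q ∈ OO2 z := beta_OO2 (β := β.symm) hβ' hq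
      have h3 := hx.2 _ hq'
      have h4 := congrArg β h3
      rwa [map_mul, map_mul, MulEquiv.apply_symm_apply] at h4
    intro x hx
    by_contra hne
    have hx1 : x ≠ 1 := by rintro rfl; exact hne (map_one β)
    have hxz : x ≠ z := by rintro rfl; exact hne hβ
    have hxzx : x * z ≠ 1 := by
      intro h3
      apply hxz
      have h4 := factsL.sq_Z x hx
      exact (mul_left_cancel (h4.trans h3.symm)).symm ▸ rfl
    have h3 : ∀ c ∈ DL.Z, c = 1 ∨ c = x ∨ c = z ∨ c = x * z :=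
      four_cases factsL.card_Z hx hz hx1 h1 hxz hxzx
    -- `β x = x z`
    have h4 : β x = x * z := by
      rcases h3 _ (hb x hx) with e | e | e | e
      · exact absurd (β.injective (by rw [e, map_one])) hx1
      · exact absurd e hne
      · exact absurd (β.injective (by rw [e, hβ])) hxz
      · exact e
    have h5 : β (β (β x)) = x * z := by
      rw [h4, map_mul, h4, hβ, mul_assoc, factsL.sq_Z z hz, mul_one, h4]
    have h6 : β (β (β x)) = x := by
      have := DFunLike.congr_fun b3 x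
      rwa [MulAut.mul_apply, MulAut.mul_apply, MulAut.one_apply] at this
    rw [h6] at h5
    exact h1 (mul_eq_left.1 h5.symm)

end L

theorem row_g24 (X : Type u) [Group X] [Finite X] [IsSimpleGroup X] (h : D9.Cut.XG24 X) : Row4 X := by
  haveI : Finite L := finite_L'
  obtain ⟨F, i1, i2, hF, ⟨e⟩⟩ := h
  obtain ⟨e'⟩ := Cfsg.Agent.StdG24.Iso6.equiv_chev F hF
  have f : L ≃* X := e'.trans e.symm
  obtain ⟨z, hz, h1⟩ := exists_long
  have hP := ((preG_L hz h1).map f).pre4
  have hOO : ∀ x : L, f x ∈ OO2 (f z) ↔ x ∈ DL.Q1 := fun x => by rw [OO2_map_iff, OO2_L hz h1]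
  -- a noncommuting pair
  have hnc : ∃ a b : L, a * b ≠ b * a := by
    by_contra hcon
    push Not at hcon
    have h3 : centralizer ({z} : Set L) = ⊤ := by
      rw [eq_top_iff]
      intro x _
      exact mem_centralizer_singleton_iff.2 (hcon x z)
    rw [cent_eq_P hz h1] at h3
    have h4 := factsL.card_P
    rw [h3, Subgroup.card_top, card_L'] at h4
    omega
  obtain ⟨a, b, hab⟩ := hnc
  refine row4_of_large (ζ := f z) (Z₁ := DL.Z.map (f : L →* X))
    (center_bot (a := f a) (b := f b) fun h3 => hab (f.injective (by rw [map_mul, map_mul, h3]))) ?_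
  refine ⟨hP.zz, hP.z1, hP.syl, hP.con, hP.mem, hP.le, hP.ex, hP.cen, hP.sq, hP.nc, hP.fix, ?_⟩
  intro B hB hc h4
  have h5 : ∃ b ∈ B, b ≠ 1 := by
    by_contra hcon
    push Not at hcon
    have h6 : B = ⊥ := (Subgroup.eq_bot_iff_forall _).2 hcon
    rw [h6, Subgroup.card_bot] at h4
    omega
  obtain ⟨b, hb, hb1⟩ := h5
  refine ⟨b, hb, hb1, ?_⟩
  obtain ⟨x, rfl⟩ := f.surjective b
  refine ⟨x, mem_Z_iff.2 ⟨(hOO x).1 (hB hb), fun q hq => ?_⟩, rfl⟩
  exact f.injective (by rw [map_mul, map_mul]; exact hc _ hb _ ((hOO q).2 hq))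

end Cfsg.Agent.OddHalf.NI3.Ex4

end

-- merged: Cfsg.Agent.OddHalf.NI3.Ex4.RowHS
section

/-!
# (EX4), row `HS`

`z` of class 2A, `R = O₂(C(z)) = 4 ∘ 2^(1+4)`: `Large4 z ⟨z⟩` (the elements of `C(z)` which centralise `R` are `1`, `z`,
`u`, `u⁻¹` with `u² = z`, so `z` is in every subgroup of order 4 of `Z(R)`).
-/

set_option autoImplicit false
set_option linter.style.haveILetI false

namespace Cfsg.Agent.OddHalf.NI3.Ex4.RowHS

open Subgroup Cfsg
open Cfsg.Agent.HN Cfsg.Agent.HN.Pres Cfsg.Agent.HN.HS100 Cfsg.Agent.HN.P1408 Cfsg.Agent.HN.H0Basic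
open Cfsg.Agent.HN.XMat Cfsg.Agent.HN.WMask Cfsg.Agent.KFacts.HS Cfsg.Agent.KFacts.HS.Cent

universe u

variable {L : Type u} [Group L] (D : Cfsg.Agent.KFacts.HS.Mod L)

theorem sgL (e : Bool) : D.π ⟨sg e, sg_mem_K e⟩ = 1 ∨ D.π ⟨sg e, sg_mem_K e⟩ = D.z := by
  cases e
  · exact Or.inl (D.π_one _)
  · exact Or.inr rfl

/-- the squares of `R` -/
theorem sqR {x : L} (hx : x ∈ D.R) : x * x = 1 ∨ x * x = D.z := by
  obtain ⟨g, hg, hgR, rfl⟩ := D.mem_im.1 hx
  obtain ⟨m, _, _, e, he⟩ := mem_Rt.1 hgR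
  obtain ⟨e', he'⟩ := R_sq m
  have h1 : g * g = sg e' := by
    calc g * g = R m * (sg e * R m) * sg e := by rw [he]; group
      _ = (R m * R m) * (sg e * sg e) := by rw [R_sg]; group
      _ = sg e' := by
        rw [he', sg_mul, sg_mul]
        cases e' <;> cases e <;> rfl
  have h2 : D.π ⟨g, hg⟩ * D.π ⟨g, hg⟩ = D.π ⟨sg e', sg_mem_K e'⟩ := by
    rw [D.π_mul]
    exact D.π_congr _ h1
  rw [h2]
  exact sgL D e'

theorem OO2_eq : OO2 D.z = D.R := by
  haveI := D.finite
  haveI : Fact (Nat.Prime 2) := ⟨Nat.prime_two⟩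
  apply le_antisymm
  · refine D.core _ (fun x hx => mem_centralizer_singleton_iff.2 (OO2_comm hx)) (OO2_isPGroup D.z) ?_
    intro x hx c hc
    exact OO2_conj hc (D.Pcomm hx)
  · intro r hr
    have hrc : r ∈ centralizer ({D.z} : Set L) := D.P_le (D.RP hr)
    have hn : (D.R.subgroupOf (centralizer ({D.z} : Set L))).Normal := by
      refine ⟨fun n hn g => ?_⟩
      exact D.Rn' (mem_centralizer_singleton_iff.1 g.2) hn
    have h2 : IsPGroup 2 ↥(D.R.subgroupOf (centralizer ({D.z} : Set L))) :=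
      D.isPGroup_R.comap_of_injective _ (Subgroup.subtype_injective _)
    have h3 : D.R.subgroupOf (centralizer ({D.z} : Set L)) ≤ pCore 2 ↥(centralizer ({D.z} : Set L)) :=
      Lib.Cores.le_pCore hn h2
    exact ⟨⟨r, hrc⟩, h3 hr, rfl⟩

/-- **`Large4`** -/
theorem large4 : Large4 D.z (zpowers D.z) := by
  haveI := D.finite
  have hO := OO2_eq D
  have hmem : ∀ x : L, x ∈ zpowers D.z ↔ x = 1 ∨ x = D.z := fun x => mem_zpowers_two D.zz
  exact
  { zz := D.zz
    z1 := D.z1
    syl := by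
      obtain ⟨S, _, zc, _⟩ := D.syl
      exact ⟨S, zc⟩
    con := by
      intro h hh hc
      rw [hO] at hc ⊢
      rcases D.cR' h hh hc with h1 | h1 | h1 | h1
      · rw [h1]; exact one_mem _
      · rw [h1]; exact D.zR
      · rw [h1]; exact D.uR
      · rw [h1]; exact inv_mem D.uR
    mem := mem_zpowers _
    le := by
      rw [hO, zpowers_le]; exact D.zR
    ex := by
      intro x hx
      rcases (hmem x).1 hx with h | h
      · rw [h, one_mul]
      · rw [h]; exact D.zz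
    cen := by
      intro x hx h hh
      rcases (hmem x).1 hx with h1 | h1
      · rw [h1, one_mul, mul_one]
      · rw [h1]; exact hh
    sq := by
      intro x hx
      rw [hO] at hx
      exact (hmem _).2 (sqR D hx)
    nc := by
      intro x hx h1
      rcases (hmem x).1 hx with h2 | h2
      · exact absurd h2 h1
      · rw [h2]; exact NI.Ex.Lemma.Good.noComm (NI.Ex.RowHS.good D)
    fix := by
      intro β _ hβ x hx
      rcases (hmem x).1 hx with h | h
      · rw [h, map_one]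
      · rw [h]; exact hβ
    four := by
      intro B hB hc h4
      have h5 : ∀ b ∈ B, b = 1 ∨ b = D.z ∨ b = D.u ∨ b = D.u⁻¹ := by
        intro b hb
        refine D.cR' b (OO2_comm (hB hb)) fun r hr => hc b hb r ?_
        rw [hO]; exact hr
      by_contra hcon
      push Not at hcon
      have h6 : D.z ∉ B := fun h => hcon D.z h D.z1 (mem_zpowers _)
      have h7 : ∀ b ∈ B, b = 1 := by
        intro b hb
        rcases h5 b hb with h | h | h | h
        · exact h
        · exact absurd (h ▸ hb) h6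
        · exfalso; apply h6; rw [← D.uu, ← h]; exact mul_mem hb hb
        · exfalso; apply h6
          have h8 : D.u = b⁻¹ := by rw [h, inv_inv]
          rw [← D.uu, h8]; exact mul_mem (inv_mem hb) (inv_mem hb)
      have h8 : B = ⊥ := by
        rw [eq_bot_iff]
        intro b hb
        exact mem_bot.2 (h7 b hb)
      rw [h8, card_bot] at h4
      omega }

/-- **row `HS`** -/
theorem row_hs (X : Type u) [Group X] [Finite X] [IsSimpleGroup X] (h : Spor.IsoHS X) : Row4 X := by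
  obtain ⟨D⟩ := exists_mod h
  obtain ⟨a, b, hab⟩ : ∃ a b : X, a * b ≠ b * a := by
    by_contra hcon
    push Not at hcon
    have h1 : D.P = ⊥ := by
      rw [← D.perf, eq_bot_iff, commutator_le]
      intro x _ y _
      rw [mem_bot, commutatorElement_eq_one_iff_mul_comm]
      exact hcon x y
    have h2 := D.cardP
    rw [h1, card_bot] at h2
    omega
  exact row4_of_large (center_bot hab) (large4 D)

end Cfsg.Agent.OddHalf.NI3.Ex4.RowHS

end

-- merged: Cfsg.Agent.OddHalf.NI3.Ex4.RowSp62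
section

/-!
# (EX4), row `Sp₆(2)` (helper941)
-/

set_option autoImplicit false

namespace Cfsg.Agent.OddHalf.NI3.Ex4

open Subgroup Cfsg Cfsg.Agent.OddHalf.NI3.ExTri Cfsg.Agent.OddHalf.D9.Cut

universe u

/-- the triples and quaternion groups of `Sp₆(2)` -/
theorem twoTriQ_sp62 : TwoTriQ (Matrix.symplecticGroup (Fin 3) (ZMod 2)) := by
  intro w b h1 h2 h3 h4 h5
  exact SpSix.main StandardComponent.SpTwoModel.data StandardComponent.SpTwoModel.card_V h1 h2 h3 h4 h5

/-- **(EX4), row `Sp₆(2)`** -/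
theorem row_sp62 {X : Type u} [Group X] [Finite X] (hs : IsSimpleGroup X) (hna : ¬ IsMulCommutative X)
    (h : XSp62 X) : Row4 X := by
  have hZ := (NI3.Ex.ct_sp62 hs hna h).center
  have hin := NI3.Ex.inner_sp62 hs hna h
  obtain ⟨F, i, j, hF, ⟨e⟩⟩ := h
  obtain ⟨e'⟩ := StandardComponent.SpTwoAut.exists_equiv hF
  exact row4_of_twoTriQ hZ (fun β _ => hin β) (twoTriQ_of_iso (e.trans e').symm twoTriQ_sp62)

end Cfsg.Agent.OddHalf.NI3.Ex4

end

-- merged: Cfsg.Agent.OddHalf.NI3.Ex4.RowU62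
section

/-!
# (EX4): the row `U₆(2)` (helper704)

`z` = a transvection of `PSU_n(2)`, `n ≥ 6`; `O₂(C(z))` = the Siegel group `QQ` (helper604's sheet).
-/

set_option autoImplicit false
set_option linter.style.haveILetI false

namespace Cfsg.Agent.OddHalf.NI3.Ex4

open Subgroup Cfsg Cfsg.Agent.LieClassical.HermBasic Cfsg.Agent.LieClassical.SUBasic
  Cfsg.Agent.ClassicalGeometry.PSUAutBasic Cfsg.Agent.ClassicalGeometry.PSUAutSylow
  Cfsg.Agent.ClassicalGeometry.PSUAutUnip Cfsg.Agent.ClassicalGeometry.PSUAutPhi Cfsg.Agent.KFacts.Unit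
  Cfsg.Agent.KFacts.Unit.SheetTwo

universe u

section

variable {F : Type*} [Field F] [Fintype F] {n : ℕ} [CharP F 2] {e f : Fin n → F}

/-- `O₂(C(z)) = QQ` -/
theorem OO2_zt (hF : Fintype.card F = 2 ^ 2) (hn : 6 ≤ n) (H : IsFrame 2 e f) :
    OO2 (zt hF H.ee) = QQ hF e H.ee := by
  haveI : Fact (Nat.Prime 2) := ⟨Nat.prime_two⟩
  apply le_antisymm
  · refine Rmax hF (by omega) H _ ?_ (OO2_isPGroup _) ?_
    · intro x hx
      obtain ⟨k, hk⟩ := OO2_isPGroup (zt hF H.ee) ⟨x, hx⟩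
      exact mem_PP_of_commute hF (by omega) (frame_ne_zero H) H.ee (zt_mem hF H.ee)
        (zt_ne hF (by omega) (frame_ne_zero H) H.ee) (congrArg Subtype.val hk) (OO2_comm hx)
    · intro x hx b hb
      exact OO2_conj hb (zt_P hF H.ee hx)
  · intro r hr
    have hrc : r ∈ centralizer ({zt hF H.ee} : Set (PSU n F 2)) :=
      mem_centralizer_singleton_iff.2 (zt_P hF H.ee (QQ_le_PP hF H.ee hr))
    have hn' : ((QQ hF e H.ee).subgroupOf (centralizer ({zt hF H.ee} : Set (PSU n F 2)))).Normal := by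
      refine ⟨fun y hy g => ?_⟩
      exact NI.Ex.conj_QQ hF (by omega) H (mem_centralizer_singleton_iff.1 g.2) _ hy
    have h2 : IsPGroup 2 ↥((QQ hF e H.ee).subgroupOf (centralizer ({zt hF H.ee} : Set (PSU n F 2)))) :=
      (R2 hF H.ee).comap_of_injective _ (Subgroup.subtype_injective _)
    have h3 := Lib.Cores.le_pCore hn' h2
    exact ⟨⟨r, hrc⟩, h3 hr, rfl⟩

/-- the squares of `QQ` -/
theorem QQ_sq (hF : Fintype.card F = 2 ^ 2) (H : IsFrame 2 e f) {x : PSU n F 2} (hx : x ∈ QQ hF e H.ee) :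
    x * x = 1 ∨ x * x = zt hF H.ee := by
  obtain ⟨w, μ, h, rfl⟩ := mem_QQ.1 hx
  apply RR_cases hF H.ee
  have h0 : w + w = 0 := by
    funext i
    rw [Pi.add_apply, CharTwo.add_self_eq_zero, Pi.zero_apply]
  have h1 := h.mul hF h
  have h2 := h1.tr
  rw [h0, herm_zero_left, add_zero] at h2
  rw [← map_mul, LieClassical.HermSiegel.siegel_mul, mem_RR]
  refine ⟨_, h2, ?_⟩
  rw [transv]
  congr 1
  exact LieClassical.HermSiegel.siegel_congr hF _ _ rfl h0 rfl

/-- `C(QQ) = ⟨z⟩` -/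
theorem cent_QQ (hF : Fintype.card F = 2 ^ 2) (hn : 6 ≤ n) (H : IsFrame 2 e f) {x : PSU n F 2}
    (hx : ∀ y ∈ QQ hF e H.ee, x * y = y * x) : x ∈ RR hF e H.ee := by
  obtain ⟨r, hr, hxr⟩ := autCent_point hF (by omega) (frame_ne_zero H) H.ee (MulAut.conj x) (fun y hy => by
    rw [MulAut.conj_apply, hx y hy, mul_inv_cancel_right])
  have h1 : x = r := by
    have h2 : r⁻¹ * x ∈ Subgroup.center (PSU n F 2) := by
      rw [Subgroup.mem_center_iff]
      intro y
      have h3 := DFunLike.congr_fun hxr y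
      rw [MulAut.conj_apply, MulAut.conj_apply] at h3
      have h4 : x * y = r * y * r⁻¹ * x := by rw [← h3, inv_mul_cancel_right]
      rw [mul_assoc r⁻¹ x y, h4]
      group
    rw [center_eq_bot' hF hn (frame_ne_zero H) H.ee, Subgroup.mem_bot] at h2
    exact (inv_mul_eq_one.1 h2).symm
  rw [h1]
  exact hr

theorem mem_zpowers_of {Y : Type*} [Group Y] {z : Y} (zz : z * z = 1) {x : Y} :
    x ∈ zpowers z ↔ x = 1 ∨ x = z := by
  constructor
  · rintro ⟨k, rfl⟩
    change z ^ k = 1 ∨ z ^ k = z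
    rcases Int.even_or_odd' k with ⟨m, rfl | rfl⟩
    · left
      rw [zpow_mul, zpow_two, zz, one_zpow]
    · right
      rw [zpow_add, zpow_mul, zpow_two, zz, one_zpow, one_mul, zpow_one]
  · rintro (rfl | rfl)
    · exact one_mem _
    · exact mem_zpowers _

theorem preG_zt (hF : Fintype.card F = 2 ^ 2) (hn : 6 ≤ n) (H : IsFrame 2 e f) :
    PreG (zt hF H.ee) (zpowers (zt hF H.ee)) where
  zz := zt_sq hF H.ee
  z1 := zt_ne hF (by omega) (frame_ne_zero H) H.ee
  syl := by
    obtain ⟨S, -, hS, -⟩ := syl hF hn (frame_ne_zero H) H.ee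
    exact ⟨S, hS⟩
  con := by
    intro g _ hc
    rw [OO2_zt hF hn H] at hc ⊢
    exact RR_le_QQ hF H.ee (cent_QQ hF hn H hc)
  mem := mem_zpowers _
  le := by
    rw [zpowers_le, OO2_zt hF hn H]
    exact RR_le_QQ hF H.ee (zt_mem hF H.ee)
  ex := by
    intro x hx
    rcases (mem_zpowers_of (zt_sq hF H.ee)).1 hx with rfl | rfl
    · exact one_mul _
    · exact zt_sq hF H.ee
  cen := by
    intro x hx g hg
    rcases (mem_zpowers_of (zt_sq hF H.ee)).1 hx with rfl | rfl
    · rw [one_mul, mul_one]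
    · exact hg
  sq := by
    intro x hx
    rw [OO2_zt hF hn H] at hx
    exact (mem_zpowers_of (zt_sq hF H.ee)).2 (QQ_sq hF H hx)
  gd := by
    intro x hx hx1
    rcases (mem_zpowers_of (zt_sq hF H.ee)).1 hx with rfl | rfl
    · exact absurd rfl hx1
    · exact NI.Ex.good_zt hF hn H
  fix := by
    intro β _ hβ x hx
    rcases (mem_zpowers_of (zt_sq hF H.ee)).1 hx with rfl | rfl
    · exact map_one _
    · exact hβ

theorem two4_zt (hF : Fintype.card F = 2 ^ 2) (hn : 6 ≤ n) (H : IsFrame 2 e f) :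
    Two4 (zt hF H.ee) (zt hF H.ee) (zpowers (zt hF H.ee)) (zpowers (zt hF H.ee)) where
  p₁ := preG_zt hF hn H
  p₂ := preG_zt hF hn H
  syl := by
    obtain ⟨S, -, hS, -⟩ := syl hF hn (frame_ne_zero H) H.ee
    exact ⟨S, fun x hx => ⟨hS x hx, hS x hx⟩⟩
  cc := by
    intro g hg _
    rw [OO2_zt hF hn H] at hg
    rcases RR_cases hF H.ee (cent_QQ hF hn H hg) with h | h
    · exact Or.inl h
    · exact Or.inr (Or.inl h)

end

/-- **The row `U₆(2)` of (EX4).** -/
theorem row_u62 (X : Type u) [Group X] [Finite X] [IsSimpleGroup X] (h : D9.Cut.XU62 X) : Row4 X := by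
  obtain ⟨F, i1, i2, hF, ⟨ε⟩⟩ := h
  haveI : CharP F 2 := by
    haveI : Fact (Nat.Prime 2) := ⟨Nat.prime_two⟩
    exact charP_of_card_eq_prime_pow (f := 2) (by rw [hF]; norm_num)
  have hF' : Fintype.card F = 2 ^ 2 := by rw [hF]; norm_num
  obtain ⟨e, f, H⟩ := exists_frame (F := F) (q := 2) (n := 6) hF' (by omega)
  haveI : Finite (PSU 6 F 2) := Finite.of_equiv _ ε.toEquiv
  obtain ⟨a, -, b, -, hab⟩ := Rna hF' (by omega) H
  refine row4_of_zeta ε.symm (center_bot (a := ε.symm a) (b := ε.symm b) ?_) (two4_zt hF' le_rfl H)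
  intro h1
  rw [← map_mul, ← map_mul] at h1
  exact hab (ε.symm.injective h1)

end Cfsg.Agent.OddHalf.NI3.Ex4

end

-- merged: Cfsg.Agent.OddHalf.NI3.Ex4.RowsOf
section

/-!
# (EX4) of THEOREM NIB: the rows

`rows4 : Open4 → Rows4`: the landed rows are plugged, `Open4` is what is open.
-/

set_option autoImplicit false

namespace Cfsg.Agent.OddHalf.NI3.Ex4

open Cfsg Cfsg.Agent.OddHalf.D9.Cut

universe u

/-- the open rows -/
structure Open4 : Prop where
  o82 : ∀ (X : Type u) [Group X] [Finite X] [IsSimpleGroup X], XO82 X → Row4 X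

theorem center_eq_bot {X : Type u} [Group X] [hs : IsSimpleGroup X] (hna : ¬ IsMulCommutative X) :
    Subgroup.center X = ⊥ := by
  rcases (inferInstance : (Subgroup.center X).Normal).eq_bot_or_eq_top with h1 | h1
  · exact h1
  · exact absurd ⟨⟨fun a b => (Subgroup.mem_center_iff.1 (h1 ▸ Subgroup.mem_top b : b ∈ Subgroup.center X)) a⟩⟩ hna

theorem rows4 (O : Open4.{u}) : Rows4.{u} where
  exc2 := fun X _ _ hs hna h => by
    haveI := hs
    rcases h with h | h | h | h | h | h | h | h | h | h | h | h | h | h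
    · exact row_u62 X h
    · exact row_sp62 hs hna h
    · exact O.o82 X h
    · exact row_g24 X h
    · exact RowF4.row4_f42 (center_eq_bot hna) h
    · exact row_te62 X h
    · exact row_m12 h
    · exact row_j2 X h
    · exact RowHS.row_hs X h
    · exact row_suz X h
    · exact RowRu.ru h
    · exact row_fi22 X h
    · exact row_co1 X h
    · exact row_b X h
  exc4 := fun X _ _ hs h => by
    rcases h with h | h
    · exact row_l34 h
    · exact row_m22 h
  sz := fun X _ _ hs h => by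
    exact row_sz h

end Cfsg.Agent.OddHalf.NI3.Ex4

end
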