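import Cfsg.Agent.OddHalf.NI3.Ex4.OEight.Base
import Cfsg.Agent.StdO8.Code
import Cfsg.Agent.StdO8.Frame
import Cfsg.Agent.StdO8.EvenLin
import Cfsg.Agent.OddHalf.D9.Cut
import Cfsg.Agent.OddHalf.NI3.Ex4.RowsOf
import Cfsg.Agent.OddHalf.NI3.Ex4.OEight.Class

-- merged: Cfsg.Agent.OddHalf.NI3.Ex4.OEight.CFourWord
section

/-!
# (EX4), the row `Ω₈⁺(2)`, the involution `w₀` of type `c₄`: words (helper831)

`okE` : for the eight elements `β ≠ 1` of `⟨tri, conj c₀⟩` there are two triples of `(w₀, β)` in different orbits of `β`.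
-/

set_option autoImplicit false
set_option linter.style.haveILetI false

namespace Cfsg.Agent.OddHalf.NI3.Ex4.O8.CFour

open Subgroup Cfsg Cfsg.Agent.OddHalf.NI3.ExTri Cfsg.Agent.OddHalf.NI3.Ex4
open Cfsg.Agent.StdO8.Model (V q B O8 Om)
open Cfsg.Agent.StdO8.D4Root (E roots Φ)
open Cfsg.Agent.StdO8.Bas (bv hd xO xb)
open Cfsg.Agent.StdO8.DataOf (xm)
open Cfsg.Agent.StdO8.Tri (tri tri_xm rho rho_mem)
open Cfsg.Agent.StdO8.Code

section TwoT

variable {X : Type*} [Group X] {α β γ : MulAut X}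

/-- two triples in different orbits -/
def TwoT (α β : MulAut X) : Prop := ∃ b c, Tri α β b ∧ Tri α β c ∧ c ≠ b ∧ c ≠ β b ∧ c ≠ β (β b)

theorem TwoT.ok (h : TwoT α β) : Ok α β := Or.inr h

theorem TwoT.ne_one (h : TwoT α β) : β ≠ 1 := by
  rintro rfl
  obtain ⟨b, -, hb, -⟩ := h
  have h1 := hb.tri
  rw [MulAut.one_apply, MulAut.one_apply, hb.sq, one_mul] at h1
  exact hb.ne h1

theorem TwoT.sq (h : TwoT α β) (b3 : β * β * β = 1) : TwoT α (β * β) := by
  have h3 : ∀ x, β (β (β x)) = x := fun x => by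
    rw [← MulAut.mul_apply, ← MulAut.mul_apply, b3, MulAut.one_apply]
  have ht : ∀ b, Tri α β b → Tri α (β * β) b := by
    intro b hb
    refine ⟨hb.fix, hb.sq, hb.ne, ?_⟩
    rw [MulAut.mul_apply, MulAut.mul_apply, h3]
    -- `b β²b βb = 1`
    have h1 : β b * β b = 1 := by rw [← map_mul, hb.sq, map_one]
    have h2 : β (β b) * β (β b) = 1 := by rw [← map_mul, h1, map_one]
    have h4 : b⁻¹ = b := inv_eq_of_mul_eq_one_right hb.sq
    have h5 : (β b)⁻¹ = β b := inv_eq_of_mul_eq_one_right h1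
    have h6 : (β (β b))⁻¹ = β (β b) := inv_eq_of_mul_eq_one_right h2
    have h7 : b = β (β b) * β b := by
      have h8 := eq_inv_of_mul_eq_one_left hb.tri
      have h9 : b = β (β b) * (β b)⁻¹ := by
        rw [h6] at h8
        rw [← h8, mul_assoc, mul_inv_cancel, mul_one]
      rw [h5] at h9
      exact h9
    rw [mul_assoc, ← h7, hb.sq]
  obtain ⟨b, c, hb, hc, n1, n2, n3⟩ := h
  refine ⟨b, c, ht b hb, ht c hc, n1, n3, ?_⟩
  rw [MulAut.mul_apply, MulAut.mul_apply, h3]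
  exact n2

theorem TwoT.conj {w : X} (hγ : γ w = w) (h : TwoT (MulAut.conj w) β) : TwoT (MulAut.conj w) (γ * β * γ⁻¹) := by
  have hf : ∀ x, (γ * β * γ⁻¹) (γ x) = γ (β x) := fun x => by
    rw [MulAut.mul_apply, MulAut.mul_apply, MulAut.inv_apply_self]
  have ht : ∀ b, Tri (MulAut.conj w) β b → Tri (MulAut.conj w) (γ * β * γ⁻¹) (γ b) := by
    intro b hb
    refine ⟨?_, by rw [← map_mul, hb.sq, map_one], fun h => hb.ne (γ.injective (by rw [h, map_one])), ?_⟩
    · have h1 := hb.fix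
      rw [MulAut.conj_apply] at h1 ⊢
      have h2 : w * γ b * w⁻¹ = γ (w * b * w⁻¹) := by rw [map_mul, map_mul, map_inv, hγ]
      rw [h2, h1]
    · rw [hf, hf, ← map_mul, ← map_mul, hb.tri, map_one]
  obtain ⟨b, c, hb, hc, n1, n2, n3⟩ := h
  refine ⟨γ b, γ c, ht b hb, ht c hc, fun e => n1 (γ.injective e), fun e => n2 (γ.injective ?_),
    fun e => n3 (γ.injective ?_)⟩
  · rw [e, hf]
  · rw [e, hf, hf]

end TwoT

/-! ### Words -/

/-- the code of a root element -/
def cd (s : E) : ℕ × ℕ := (2 ^ (hd s).1.1, 2 ^ (hd s).2.1)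

theorem bv_dec : ∀ i : Fin 8, bv i = dec (2 ^ i.1) := by decide +kernel

theorem xm_eq (s : E) : xm s = gen (cd s) := by
  apply Subtype.ext
  show Cfsg.Agent.StdO8.Model.X (bv (hd s).1) (bv (hd s).2) = _
  rw [bv_dec, bv_dec]
  rfl

/-- the word of a list of roots -/
noncomputable def wd (l : List E) : Om := word (l.map cd)

theorem wd_nil : wd [] = 1 := rfl

theorem wd_cons (s : E) (l : List E) : wd (s :: l) = xm s * wd l := by
  rw [xm_eq]; rfl

theorem wd_append (l l' : List E) : wd (l ++ l') = wd l * wd l' := by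
  rw [wd, List.map_append, word_append]; rfl

theorem wd_reverse (l : List E) : wd l.reverse = (wd l)⁻¹ := by
  rw [wd, List.map_reverse, word_reverse]; rfl

theorem tri_wd {l : List E} (h : ∀ s ∈ l, s ∈ roots) : tri (wd l) = wd (l.map rho) := by
  induction l with
  | nil => rw [List.map_nil, wd_nil, map_one]
  | cons s l ih =>
    rw [List.map_cons, wd_cons, wd_cons, map_mul, ih fun t ht => h t (List.mem_cons_of_mem _ ht),
      tri_xm (h s List.mem_cons_self)]

/-- the words of the lists `l`, `l'` are equal -/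
def same' (l l' : List E) : Bool := same (l.map cd) (l'.map cd)

theorem wd_eq {l l' : List E} (h : same' l l' = true) : wd l = wd l' := word_eq h

/-- the words of the lists `l`, `l'` are different -/
def diff' (l l' : List E) : Bool :=
  (l.map cd).all ok && (l'.map cd).all ok && basis.any fun b =>
    ev (l.map cd) b != ev (l'.map cd) b && (ev (l.map cd) b < 256 && ev (l'.map cd) b < 256)

theorem wd_ne {l l' : List E} (h : diff' l l' = true) : wd l ≠ wd l' := by
  intro e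
  rw [diff', Bool.and_eq_true, Bool.and_eq_true, List.any_eq_true (l := basis)] at h
  obtain ⟨⟨h1, h2⟩, b, -, h3⟩ := h
  simp only [Bool.and_eq_true, bne_iff_ne, decide_eq_true_eq] at h3
  obtain ⟨h3, h4, h5⟩ := h3
  have h6 := word_dec h1 b
  have h7 := word_dec h2 b
  rw [show word (l.map cd) = word (l'.map cd) from e, h7] at h6
  exact h3 (dec_inj h5 h4 h6).symm

/-! ### The automorphisms -/

/-- the word of `w₀` -/
def W : List E := [![1, -1, 0, 0], ![0, 0, 1, -1], ![0, 0, 1, 1]]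

/-- the word of `c₀` -/
def C : List E := [![1, 1, 0, 0], ![-1, -1, 0, 0]]

theorem w0_eq : w0 = wd W := by
  rw [W, wd_cons, wd_cons, wd_cons, wd_nil, mul_one, ← mul_assoc]
  rfl

/-- the element `c₀` of order 3 -/
noncomputable def c0 : Om := wd C

theorem tri_w0 : tri w0 = w0 := by
  rw [w0_eq, tri_wd (by decide)]
  exact wd_eq (by decide +kernel)

theorem c0_w0 : c0 * w0 * c0⁻¹ = w0 := by
  rw [w0_eq, c0, ← wd_reverse, ← wd_append, ← wd_append]
  exact wd_eq (by decide +kernel)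

/-- an automorphism which acts on words -/
def Acts (β : MulAut Om) (f : List E → List E) : Prop := ∀ l : List E, (∀ s ∈ l, s ∈ roots) → β (wd l) = wd (f l)

theorem acts_tri : Acts tri (fun l => l.map rho) := fun _ h => tri_wd h

theorem acts_c0 : Acts (MulAut.conj c0) (fun l => C ++ l ++ C.reverse) := by
  intro l _
  rw [MulAut.conj_apply, c0, ← wd_reverse, ← wd_append, ← wd_append]

/-- the check for one automorphism -/
def chk (f : List E → List E) (b c : List E) : Bool :=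
  same' (W ++ b ++ W.reverse) b && same' (b ++ b) [] && diff' b [] && same' (b ++ f b ++ f (f b)) [] &&
    (same' (W ++ c ++ W.reverse) c && same' (c ++ c) [] && diff' c [] && same' (c ++ f c ++ f (f c)) []) &&
    (diff' c b && diff' c (f b) && diff' c (f (f b))) &&
    (decide (∀ s ∈ b, s ∈ roots) && decide (∀ s ∈ c, s ∈ roots) && decide (∀ s ∈ f b, s ∈ roots) &&
      decide (∀ s ∈ f c, s ∈ roots))

theorem twoT_of {β : MulAut Om} {f : List E → List E} (hf : Acts β f) {b c : List E} (h : chk f b c = true) :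
    TwoT (MulAut.conj w0) β := by
  simp only [chk, Bool.and_eq_true, decide_eq_true_eq] at h
  obtain ⟨⟨⟨⟨⟨⟨b1, b2⟩, b3⟩, b4⟩, ⟨⟨⟨c1, c2⟩, c3⟩, c4⟩⟩, ⟨⟨d1, d2⟩, d3⟩⟩, ⟨⟨⟨rb, rc⟩, rfb⟩, rfc⟩⟩ := h
  have ht : ∀ b : List E, (∀ s ∈ b, s ∈ roots) → (∀ s ∈ f b, s ∈ roots) → same' (W ++ b ++ W.reverse) b = true →
      same' (b ++ b) [] = true → diff' b [] = true → same' (b ++ f b ++ f (f b)) [] = true →
      Tri (MulAut.conj w0) β (wd b) := by
    intro b rb rfb h1 h2 h3 h4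
    refine ⟨?_, ?_, ?_, ?_⟩
    · rw [MulAut.conj_apply, w0_eq, ← wd_reverse, ← wd_append, ← wd_append]
      exact wd_eq h1
    · rw [← wd_append, wd_eq h2, wd_nil]
    · rw [← wd_nil]
      exact wd_ne h3
    · rw [hf b rb, hf _ rfb, ← wd_append, ← wd_append, wd_eq h4, wd_nil]
  refine ⟨wd b, wd c, ht b rb rfb b1 b2 b3 b4, ht c rc rfc c1 c2 c3 c4, wd_ne d1, ?_, ?_⟩
  · rw [hf b rb]
    exact wd_ne d2
  · rw [hf b rb, hf _ rfb]
    exact wd_ne d3

/-- the conjugation with `c₀` -/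
noncomputable def K : MulAut Om := MulAut.conj c0

theorem tri_K : tri * K = K * tri := by
  have h1 : tri c0 = c0 := by
    rw [c0, tri_wd (by decide)]
    exact wd_eq (by decide +kernel)
  ext x : 1
  rw [MulAut.mul_apply, MulAut.mul_apply, K, MulAut.conj_apply, MulAut.conj_apply, map_mul, map_mul, map_inv, h1]

theorem K_three : K * K * K = 1 := by
  have h1 : c0 * c0 * c0 = 1 := by
    rw [c0, ← wd_append, ← wd_append, ← wd_nil]
    exact wd_eq (by decide +kernel)
  rw [K, ← map_mul, ← map_mul, h1, map_one]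

theorem tri_three : tri * tri * tri = 1 := by
  have h : (((tri * tri * tri : MulAut Om) : Om ≃* Om) : Om →* Om) = MonoidHom.id Om := by
    apply Cfsg.Agent.StdO8.Tri.hom_ext
    intro s hs
    have h1 := rho_mem s hs
    have h2 := rho_mem _ h1.1
    show tri (tri (tri (xm s))) = xm s
    rw [tri_xm hs, tri_xm h1.1, tri_xm h2.1, h1.2.2.2.2]
    rw [h1.2.2.1]
  ext x : 1
  exact DFunLike.congr_fun h x

theorem tK : TwoT (MulAut.conj w0) K :=
  twoT_of acts_c0 (b := [![1, 0, 1, 0]]) (c := [![1, -1, 0, 0], ![1, 0, 0, 1], ![1, 0, 0, -1]]) (by decide +kernel)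

theorem tT : TwoT (MulAut.conj w0) tri :=
  twoT_of acts_tri (b := [![1, -1, 0, 0], ![0, 0, 1, 1]]) (c := [![1, 0, 0, 1], ![1, 0, 0, -1]]) (by decide +kernel)

theorem tTK : TwoT (MulAut.conj w0) (K * tri) := by
  refine twoT_of (f := fun l => C ++ l.map rho ++ C.reverse) ?_ (b := [![1, 0, 1, 0]])
    (c := [![1, -1, 0, 0], ![0, 0, 1, 1]]) (by decide +kernel)
  intro l h
  rw [MulAut.mul_apply, tri_wd h, K, MulAut.conj_apply, c0, ← wd_reverse, ← wd_append, ← wd_append]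

theorem tTKK : TwoT (MulAut.conj w0) (K * K * tri) := by
  refine twoT_of (f := fun l => C ++ (C ++ l.map rho ++ C.reverse) ++ C.reverse) ?_ (b := [![1, 0, 1, 0]])
    (c := [![1, -1, 0, 0], ![0, 0, 1, 1]]) (by decide +kernel)
  intro l h
  rw [MulAut.mul_apply, MulAut.mul_apply, tri_wd h, K, MulAut.conj_apply, MulAut.conj_apply, c0, ← wd_reverse,
    ← wd_append, ← wd_append, ← wd_append, ← wd_append]

end Cfsg.Agent.OddHalf.NI3.Ex4.O8.CFour

end

-- merged: Cfsg.Agent.OddHalf.NI3.Ex4.OEight.CFour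
section

/-!
# (EX4), the row `Ω₈⁺(2)`: the involution `w₀` of type `c₄` is dead (helper831)

The 3-part of the centralizer of `w₀` in `Aut Ω₈⁺(2)` is 9: a 3-subgroup of `C_{O₈}(w₀)` acts faithfully on the flag
`⟨e₂⟩ < ⟨e₀, f₁, e₂⟩ < C_V(w₀) < V`, so it has order at most 3. Hence every `β` of order 3 fixing `w₀` is conjugate in
`C_{Aut}(w₀)` to an element of `⟨tri, conj c₀⟩`.
-/

set_option autoImplicit false
set_option linter.style.haveILetI false

namespace Cfsg.Agent.OddHalf.NI3.Ex4.O8.CFour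

open Subgroup Cfsg Cfsg.Agent.OddHalf.NI3.ExTri Cfsg.Agent.OddHalf.NI3.Ex4
open Cfsg.Agent.StdO8.Model (V q B O8 Om O8_q O8_B)
open Cfsg.Agent.StdO8.D4Root (E roots Φ)
open Cfsg.Agent.StdO8.Tri (tri)
open Cfsg.Agent.StdO8.Aut (cj cj_coe index_range)
open Cfsg.Agent.StdO8.Code

/-! ### The flag -/

/-- codes of `U₃ = ⟨e₀, f₁, e₂⟩` -/
def U3 : List ℕ := [0, 1, 32, 33, 4, 5, 36, 37]

/-- codes of `U₄ = C_V(w₀) = ⟨e₀, f₁, e₂, e₃ + f₃⟩` -/
def U4 : List ℕ := U3 ++ U3.map (· ^^^ 136)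

theorem ok_W : (W.map cd).all ok = true := by decide +kernel

theorem w0_dec (v : ℕ) : ((w0 : Om) : V ≃ₗ[ZMod 2] V) (dec v) = dec (ev (W.map cd) v) := by
  rw [w0_eq]
  exact word_dec ok_W v

theorem lt_ev : ∀ n : Fin 256, ev (W.map cd) n.1 < 256 := by decide +kernel

theorem fix_iff : ∀ n : Fin 256, ev (W.map cd) n.1 = n.1 ↔ n.1 ∈ U4 := by decide +kernel

theorem q_U4 : ∀ n ∈ U4, qn n = false ↔ n ∈ U3 := by decide +kernel

theorem perp_U4 : ∀ n : Fin 256, (∀ m ∈ U4, Bn n.1 m = false) → n.1 ∈ U4 := by decide +kernel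

theorem form_W : ∀ n : Fin 256, Bn n.1 (ev (W.map cd) n.1) = Bn n.1 4 := by decide +kernel

theorem lt_U4 : ∀ n ∈ U4, n < 256 := by decide +kernel

/-- membership of a vector in a list of codes -/
def In (v : V) (L : List ℕ) : Prop := ∃ n ∈ L, v = dec n

theorem fix_iff' (v : V) : ((w0 : Om) : V ≃ₗ[ZMod 2] V) v = v ↔ In v U4 := by
  obtain ⟨n, hn, rfl⟩ := dec_surj v
  rw [w0_dec]
  constructor
  · intro h
    have h1 := dec_inj (lt_ev ⟨n, hn⟩) hn h
    exact ⟨n, (fix_iff ⟨n, hn⟩).1 h1, rfl⟩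
  · rintro ⟨m, hm, h⟩
    have h1 := dec_inj hn (lt_U4 m hm) h
    subst h1
    rw [(fix_iff ⟨n, hn⟩).2 hm]

theorem in_U3_iff (v : V) : In v U3 ↔ In v U4 ∧ q v = 0 := by
  constructor
  · rintro ⟨n, hn, rfl⟩
    have h1 : n ∈ U4 := List.mem_append_left _ hn
    refine ⟨⟨n, h1, rfl⟩, ?_⟩
    rw [q_dec, (q_U4 n h1).2 hn]
    rfl
  · rintro ⟨⟨n, hn, rfl⟩, h⟩
    rw [q_dec] at h
    exact ⟨n, (q_U4 n hn).1 (cc_eq_zero h), rfl⟩

theorem perp_U4' (v : V) (h : ∀ u, In u U4 → B v u = 0) : In v U4 := by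
  obtain ⟨n, hn, rfl⟩ := dec_surj v
  refine ⟨n, perp_U4 ⟨n, hn⟩ fun m hm => ?_, rfl⟩
  have h1 := h (dec m) ⟨m, hm, rfl⟩
  rw [B_dec] at h1
  exact cc_eq_zero h1

theorem form_W' (v : V) : B v (((w0 : Om) : V ≃ₗ[ZMod 2] V) v) = B v (dec 4) := by
  obtain ⟨n, hn, rfl⟩ := dec_surj v
  rw [w0_dec, B_dec, B_dec, form_W ⟨n, hn⟩]

/-! ### Elements of odd order of `C_{O₈}(w₀)` -/

theorem iter_add {M : V ≃ₗ[ZMod 2] V} {v x : V} (hv : M v = v + x) (hx : M x = x) (n : ℕ) :
    (M ^ n) v = v + n • x := by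
  induction n with
  | zero => rw [pow_zero, zero_smul, add_zero]; rfl
  | succ n ih =>
    rw [pow_succ']
    show M ((M ^ n) v) = _
    rw [ih, map_add, map_nsmul, hx, hv, succ_nsmul]
    abel

theorem two_nsmul_V (x : V) : 2 • x = 0 := by
  rw [two_nsmul]; exact Cfsg.Agent.StdO8.Model.add_self x

/-- an element of odd order with `[v, M] ≤ C(M)` centralizes `v` -/
theorem odd_fix {M : V ≃ₗ[ZMod 2] V} {n : ℕ} (hn : Odd n) (hM : M ^ n = 1) {v x : V} (hv : M v = v + x)
    (hx : M x = x) : M v = v := by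
  have h1 := iter_add hv hx n
  rw [hM] at h1
  have h2 : n • x = 0 := by
    have h3 : v = v + n • x := h1
    exact (left_eq_add.1 h3)
  obtain ⟨k, rfl⟩ := hn
  rw [add_smul, one_smul, mul_comm, mul_smul, two_nsmul_V, smul_zero, zero_add] at h2
  rw [hv, h2, add_zero]

theorem eq_of_In_singleton {v : V} {a : ℕ} (h : In v [a]) : v = dec a := by
  obtain ⟨n, hn, rfl⟩ := h
  rw [List.mem_singleton.1 hn]

/-- **an element of odd order of `C_{O₈}(w₀)` which fixes `e₀` modulo `e₂` is 1** -/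
theorem eq_one {M : V ≃ₗ[ZMod 2] V} (hO : M ∈ O8) (hw : M * (w0 : Om) = (w0 : Om) * M) {n : ℕ} (hn : Odd n)
    (hM : M ^ n = 1) (h1 : M (dec 1) = dec 1 ∨ M (dec 1) = dec 1 + dec 4) : M = 1 := by
  have hw' : ∀ v, ((w0 : Om) : V ≃ₗ[ZMod 2] V) (M v) = M (((w0 : Om) : V ≃ₗ[ZMod 2] V) v) := fun v =>
    (DFunLike.congr_fun hw v).symm
  have hU4 : ∀ v, In v U4 → In (M v) U4 := by
    intro v hv
    rw [← fix_iff'] at hv ⊢
    rw [hw', hv]
  have hU3 : ∀ v, In v U3 → In (M v) U3 := by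
    intro v hv
    rw [in_U3_iff] at hv ⊢
    exact ⟨hU4 v hv.1, by rw [O8_q hO, hv.2]⟩
  -- `e₂` is fixed
  have h4 : M (dec 4) = dec 4 := by
    apply Cfsg.Agent.StdO8.Model.eq_of_B
    intro v
    obtain ⟨u, rfl⟩ := M.surjective v
    rw [O8_B hO, Cfsg.Agent.StdO8.Model.B_comm (dec 4) (M u), ← form_W', hw', O8_B hO, form_W',
      Cfsg.Agent.StdO8.Model.B_comm]
  -- `e₀` is fixed
  have h1' : M (dec 1) = dec 1 := by
    rcases h1 with h | h
    · exact h
    · exact odd_fix hn hM h h4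
  -- `f₁` is fixed
  have h32 : M (dec 32) = dec 32 := by
    obtain ⟨a, ha, e⟩ := hU3 (dec 32) ⟨32, by decide, rfl⟩
    have hd : ∀ a ∈ U3, (a = 0 ∨ a = 1 ∨ a = 4 ∨ a = 5) ∨ ∃ x ∈ [0, 1, 4, 5], a = 32 ^^^ x := by
      decide
    have h5 : M (dec 5) = dec 5 := by
      rw [show (5 : ℕ) = 1 ^^^ 4 from rfl, dec_xor, map_add, h1', h4]
    have hfix : ∀ x : ℕ, (x = 0 ∨ x = 1 ∨ x = 4 ∨ x = 5) → M (dec x) = dec x := by
      rintro x (rfl | rfl | rfl | rfl)
      · rw [dec_zero, map_zero]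
      · exact h1'
      · exact h4
      · exact h5
    rcases hd a ha with h | ⟨x, hx, h⟩
    · exfalso
      have h6 := hfix a h
      have h7 : dec 32 = dec a := M.injective (by rw [h6, e])
      have h8 : a < 256 := by rcases h with rfl | rfl | rfl | rfl <;> norm_num
      have h9 := dec_inj (by norm_num) h8 h7
      rcases h with rfl | rfl | rfl | rfl <;> omega
    · refine odd_fix hn hM (x := dec x) ?_ (hfix x (by simpa using hx))
      rw [e, h, dec_xor]
  -- `U₃` is fixed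
  have hU3' : ∀ a ∈ U3, M (dec a) = dec a := by
    have hd : ∀ a ∈ U3, ∃ x y z : Bool, a = (if x then 1 else 0) ^^^ (if y then 32 else 0) ^^^ (if z then 4 else 0) := by
      decide
    intro a ha
    obtain ⟨x, y, z, rfl⟩ := hd a ha
    rw [dec_xor, dec_xor, dec_ite, dec_ite, dec_ite, map_add, map_add, map_smul, map_smul, map_smul, h1', h32, h4]
  -- `U₄` is fixed
  have h136 : M (dec 136) = dec 136 := by
    obtain ⟨a, ha, e⟩ := hU4 (dec 136) ⟨136, by decide, rfl⟩
    have hd : ∀ a ∈ U4, a ∈ U3 ∨ ∃ x ∈ U3, a = 136 ^^^ x := by decide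
    rcases hd a ha with h | ⟨x, hx, h⟩
    · exfalso
      have h6 := hU3' a h
      have h7 : dec 136 = dec a := M.injective (by rw [h6, e])
      have h8 : a < 256 := lt_U4 a ha
      have h9 := dec_inj (by norm_num) h8 h7
      subst h9
      revert h
      decide
    · refine odd_fix hn hM (x := dec x) ?_ (hU3' x hx)
      rw [e, h, dec_xor]
  have hU4' : ∀ u, In u U4 → M u = u := by
    rintro _ ⟨a, ha, rfl⟩
    have hd : ∀ a ∈ U4, a ∈ U3 ∨ ∃ x ∈ U3, a = 136 ^^^ x := by decide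
    rcases hd a ha with h | ⟨x, hx, h⟩
    · exact hU3' a h
    · rw [h, dec_xor, map_add, h136, hU3' x hx]
  -- `V` is fixed
  apply LinearEquiv.ext
  intro v
  have h5 : In (M v + v) U4 := by
    apply perp_U4'
    intro u hu
    rw [Cfsg.Agent.StdO8.Model.B_add_left]
    have h6 := O8_B hO v u
    rw [hU4' u hu] at h6
    rw [h6]
    exact CharTwo.add_self_eq_zero _
  have h6 : M v = v + (M v + v) := by
    rw [add_comm (M v) v, ← add_assoc, Cfsg.Agent.StdO8.Model.add_self, zero_add]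
  exact odd_fix hn hM h6 (hU4' _ h5)

/-- the vectors `e₀, f₁, e₀ + f₁` -/
noncomputable def three : Finset V := {dec 1, dec 32, dec 33}

/-- **a 3-subgroup of `C_{O₈}(w₀)` has order at most 3** -/
theorem card_le_three (P : Subgroup O8) (hP : IsPGroup 3 P)
    (hw : ∀ M ∈ P, (M : V ≃ₗ[ZMod 2] V) * (w0 : Om) = (w0 : Om) * M) : Nat.card P ≤ 3 := by
  classical
  -- the value at `e₀`
  have hval : ∀ M : P, ∃ v ∈ three, ((M : O8) : V ≃ₗ[ZMod 2] V) (dec 1) = v ∨
      ((M : O8) : V ≃ₗ[ZMod 2] V) (dec 1) = v + dec 4 := by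
    intro M
    have hM := (M : O8).2
    have hw' : ∀ v, ((w0 : Om) : V ≃ₗ[ZMod 2] V) (((M : O8) : V ≃ₗ[ZMod 2] V) v) =
        ((M : O8) : V ≃ₗ[ZMod 2] V) (((w0 : Om) : V ≃ₗ[ZMod 2] V) v) := fun v =>
      (DFunLike.congr_fun (hw M M.2) v).symm
    have h3 : In (((M : O8) : V ≃ₗ[ZMod 2] V) (dec 1)) U3 := by
      have h1 : In (dec 1) U3 := ⟨1, by decide, rfl⟩
      rw [in_U3_iff] at h1 ⊢
      rw [← fix_iff'] at h1 ⊢
      exact ⟨by rw [hw', h1.1], by rw [O8_q hM, h1.2]⟩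
    obtain ⟨a, ha, e⟩ := h3
    have h4 : ((M : O8) : V ≃ₗ[ZMod 2] V) (dec 4) = dec 4 := by
      apply Cfsg.Agent.StdO8.Model.eq_of_B
      intro v
      obtain ⟨u, rfl⟩ := ((M : O8) : V ≃ₗ[ZMod 2] V).surjective v
      rw [O8_B hM, Cfsg.Agent.StdO8.Model.B_comm (dec 4) (((M : O8) : V ≃ₗ[ZMod 2] V) u), ← form_W', hw', O8_B hM,
        form_W', Cfsg.Agent.StdO8.Model.B_comm]
    have hd : ∀ a ∈ U3, a = 0 ∨ a = 4 ∨ ∃ b ∈ [1, 32, 33], a = b ∨ a = b ^^^ 4 := by decide
    rcases hd a ha with h | h | ⟨b, hb, h⟩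
    · exfalso
      have h5 : dec 1 = dec 0 := ((M : O8) : V ≃ₗ[ZMod 2] V).injective (by rw [e, h, dec_zero, map_zero])
      exact absurd (dec_inj (by norm_num) (by norm_num) h5) (by norm_num)
    · exfalso
      have h5 : dec 1 = dec 4 := ((M : O8) : V ≃ₗ[ZMod 2] V).injective (by rw [e, h, h4])
      exact absurd (dec_inj (by norm_num) (by norm_num) h5) (by norm_num)
    · refine ⟨dec b, ?_, ?_⟩
      · unfold three
        simp only [List.mem_cons, List.not_mem_nil, or_false] at hb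
        rcases hb with rfl | rfl | rfl <;> simp
      · rcases h with h | h
        · left; rw [e, h]
        · right; rw [e, h, dec_xor]
  choose φ hφ hφ' using hval
  have hinj : Function.Injective (fun M : P => (⟨φ M, hφ M⟩ : {x // x ∈ three})) := by
    intro M N hMN
    have h1 : φ M = φ N := congrArg Subtype.val hMN
    -- `N⁻¹ M`
    obtain ⟨k, hk⟩ := hP (N⁻¹ * M)
    have h2 : (((N⁻¹ * M : P) : O8) : V ≃ₗ[ZMod 2] V) ^ (3 ^ k) = 1 := by
      have := congrArg (fun x : P => ((x : O8) : V ≃ₗ[ZMod 2] V)) hk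
      simpa using this
    have hNinv : ∀ v, ((N : O8) : V ≃ₗ[ZMod 2] V)⁻¹ (((N : O8) : V ≃ₗ[ZMod 2] V) v) = v := fun v => by
      have : (((N : O8) : V ≃ₗ[ZMod 2] V)⁻¹ * ((N : O8) : V ≃ₗ[ZMod 2] V)) v = v := by
        rw [inv_mul_cancel]; rfl
      exact this
    have h4 : ((N : O8) : V ≃ₗ[ZMod 2] V) (dec 4) = dec 4 := by
      have hM := (N : O8).2
      have hw' : ∀ v, ((w0 : Om) : V ≃ₗ[ZMod 2] V) (((N : O8) : V ≃ₗ[ZMod 2] V) v) =
          ((N : O8) : V ≃ₗ[ZMod 2] V) (((w0 : Om) : V ≃ₗ[ZMod 2] V) v) := fun v =>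
        (DFunLike.congr_fun (hw N N.2) v).symm
      apply Cfsg.Agent.StdO8.Model.eq_of_B
      intro v
      obtain ⟨u, rfl⟩ := ((N : O8) : V ≃ₗ[ZMod 2] V).surjective v
      rw [O8_B hM, Cfsg.Agent.StdO8.Model.B_comm (dec 4) (((N : O8) : V ≃ₗ[ZMod 2] V) u), ← form_W', hw', O8_B hM,
        form_W', Cfsg.Agent.StdO8.Model.B_comm]
    have h4' : ((N : O8) : V ≃ₗ[ZMod 2] V)⁻¹ (dec 4) = dec 4 := by
      conv_lhs => rw [← h4]
      exact hNinv _
    have h5 : (((N⁻¹ * M : P) : O8) : V ≃ₗ[ZMod 2] V) (dec 1) = dec 1 ∨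
        (((N⁻¹ * M : P) : O8) : V ≃ₗ[ZMod 2] V) (dec 1) = dec 1 + dec 4 := by
      have h6 : (((N⁻¹ * M : P) : O8) : V ≃ₗ[ZMod 2] V) (dec 1) =
          ((N : O8) : V ≃ₗ[ZMod 2] V)⁻¹ (((M : O8) : V ≃ₗ[ZMod 2] V) (dec 1)) := rfl
      rw [h6]
      have h7 : ((M : O8) : V ≃ₗ[ZMod 2] V) (dec 1) = ((N : O8) : V ≃ₗ[ZMod 2] V) (dec 1) ∨
          ((M : O8) : V ≃ₗ[ZMod 2] V) (dec 1) = ((N : O8) : V ≃ₗ[ZMod 2] V) (dec 1) + dec 4 := by
        rcases hφ' M with a | a <;> rcases hφ' N with b | b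
        · left; rw [a, b, h1]
        · right; rw [a, b, h1, add_assoc, Cfsg.Agent.StdO8.Model.add_self, add_zero]
        · right; rw [a, b, h1]
        · left; rw [a, b, h1]
      rcases h7 with h7 | h7
      · left; rw [h7, hNinv]
      · right; rw [h7, map_add, hNinv, h4']
    have h6 := eq_one (M := (((N⁻¹ * M : P) : O8) : V ≃ₗ[ZMod 2] V)) ((N⁻¹ * M : P) : O8).2 (hw _ (N⁻¹ * M).2)
      (Odd.pow (by decide : Odd 3)) h2 h5
    have h7 : N⁻¹ * M = 1 := Subtype.ext (Subtype.ext h6)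
    exact (inv_mul_eq_one.1 h7).symm
  have h1 := Nat.card_le_card_of_injective _ hinj
  refine h1.trans ?_
  rw [Nat.card_eq_fintype_card, Fintype.card_coe]
  exact Finset.card_le_three

/-! ### The Sylow 3-subgroup of `C_{Aut}(w₀)` -/

/-- the centralizer of `w₀` in `Aut Ω₈⁺(2)` -/
noncomputable def HH : Subgroup (MulAut Om) := MulAction.stabilizer (MulAut Om) w0

theorem mem_HH {γ : MulAut Om} : γ ∈ HH ↔ γ w0 = w0 := Iff.rfl

theorem card_le_nine (P : Subgroup (MulAut Om)) (hP : IsPGroup 3 P) (hw : P ≤ HH) : Nat.card P ≤ 9 := by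
  have hinj := Cfsg.Agent.StdO8.Frame.Ctx.cj_injective
  have h1 : Nat.card (P.comap cj) ≤ 3 := by
    apply card_le_three _ (hP.comap_of_injective cj hinj)
    intro M hM
    have h2 : cj M w0 = w0 := hw hM
    have h3 := congrArg Subtype.val h2
    rw [cj_coe, mul_inv_eq_iff_eq_mul] at h3
    exact h3
  have h2 : Nat.card (cj.range ⊓ P : Subgroup (MulAut Om)) ≤ 3 := by
    rw [← Subgroup.map_comap_eq, Subgroup.card_map_of_injective hinj]
    exact h1
  have h3 : cj.range.relIndex P ≤ 3 := by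
    have h4 := Subgroup.relIndex_le_of_le_right (H := cj.range) (le_top : P ≤ ⊤) (by
      rw [Subgroup.relIndex_top_right, index_range]; norm_num)
    rwa [Subgroup.relIndex_top_right, index_range] at h4
  have h4 : Nat.card (cj.range ⊓ P : Subgroup (MulAut Om)) * cj.range.relIndex P = Nat.card P := by
    have h5 := (cj.range.subgroupOf P).card_mul_index
    have h6 : Nat.card (cj.range.subgroupOf P) = Nat.card (cj.range ⊓ P : Subgroup (MulAut Om)) := by
      rw [← Subgroup.subgroupOf_map_subtype, Subgroup.card_map_of_injective P.subtype_injective]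
    rw [h6] at h5
    exact h5
  rw [← h4]
  exact Nat.mul_le_mul h2 h3

/-- `⟨tri, conj c₀⟩` -/
noncomputable def E0 : Subgroup (MulAut Om) where
  carrier := {γ | ∃ i j : ℕ, γ = K ^ i * tri ^ j}
  one_mem' := ⟨0, 0, by rw [pow_zero, pow_zero, one_mul]⟩
  mul_mem' := by
    rintro _ _ ⟨i, j, rfl⟩ ⟨k, l, rfl⟩
    refine ⟨i + k, j + l, ?_⟩
    have h : Commute (tri ^ j) (K ^ k) := Commute.pow_pow tri_K j k
    rw [pow_add, pow_add, mul_assoc, ← mul_assoc (tri ^ j), h.eq]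
    group
  inv_mem' := by
    rintro _ ⟨i, j, rfl⟩
    refine ⟨2 * i, 2 * j, ?_⟩
    have hK : K ^ 3 = 1 := by rw [pow_succ, pow_two, K_three]
    have hT : tri ^ 3 = 1 := by rw [pow_succ, pow_two, tri_three]
    have h : Commute (tri ^ j) (K ^ (2 * i)) := Commute.pow_pow tri_K j (2 * i)
    rw [inv_eq_iff_mul_eq_one, mul_assoc, ← mul_assoc (tri ^ j), h.eq]
    have h1 : K ^ i * (K ^ (2 * i) * tri ^ j * tri ^ (2 * j)) = K ^ (i + 2 * i) * tri ^ (j + 2 * j) := by
      rw [pow_add, pow_add]; group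
    rw [h1, show i + 2 * i = 3 * i by ring, show j + 2 * j = 3 * j by ring, pow_mul, pow_mul, hK, hT, one_pow, one_pow,
      one_mul]

theorem K_pow : K ^ 3 = 1 := by rw [pow_succ, pow_two, K_three]
theorem tri_pow : tri ^ 3 = 1 := by rw [pow_succ, pow_two, tri_three]

/-- abstract form: a property of the elements of `⟨k⟩ × ⟨t⟩` (exponent 3) closed under squares -/
theorem abs_pow {Γ : Type*} [Group Γ] {k t : Γ} (hc : t * k = k * t) (hk : k ^ 3 = 1) (ht : t ^ 3 = 1) (p : Γ → Prop)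
    (hp : ∀ x, p x → x * x * x = 1 → p (x * x)) (p1 : p k) (p2 : p t) (p3 : p (k * t)) (p4 : p (k * k * t))
    {i j : ℕ} (h : ¬ (3 ∣ i ∧ 3 ∣ j)) : p (k ^ i * t ^ j) := by
  have hcp : ∀ i j : ℕ, Commute (k ^ i) (t ^ j) := fun i j =>
    (Commute.pow_pow (show Commute t k from hc) j i).symm
  have hsq : ∀ i j : ℕ, p (k ^ i * t ^ j) → p (k ^ (2 * i) * t ^ (2 * j)) := by
    intro i j h
    have h1 : k ^ i * t ^ j * (k ^ i * t ^ j) = k ^ (2 * i) * t ^ (2 * j) := by
      rw [(hcp i j).symm.mul_mul_mul_comm, ← pow_add, ← pow_add, two_mul, two_mul]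
    have h2 : k ^ i * t ^ j * (k ^ i * t ^ j) * (k ^ i * t ^ j) = 1 := by
      rw [h1, (hcp i (2 * j)).symm.mul_mul_mul_comm, ← pow_add, ← pow_add, show 2 * i + i = 3 * i by ring,
        show 2 * j + j = 3 * j by ring, pow_mul, pow_mul, hk, ht, one_pow, one_pow, one_mul]
    rw [← h1]
    exact hp _ h h2
  have t10 : p (k ^ 1 * t ^ 0) := by rwa [pow_one, pow_zero, mul_one]
  have t01 : p (k ^ 0 * t ^ 1) := by rwa [pow_one, pow_zero, one_mul]
  have t11 : p (k ^ 1 * t ^ 1) := by rwa [pow_one, pow_one]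
  have t21 : p (k ^ 2 * t ^ 1) := by rwa [pow_two, pow_one]
  have t20 : p (k ^ 2 * t ^ 0) := hsq 1 0 t10
  have t02 : p (k ^ 0 * t ^ 2) := hsq 0 1 t01
  have t22 : p (k ^ 2 * t ^ 2) := hsq 1 1 t11
  have t12 : p (k ^ 1 * t ^ 2) := by
    have h1 := hsq 2 1 t21
    have h2 : k ^ (2 * 2) = k ^ 1 := by
      rw [show 2 * 2 = 3 + 1 from rfl, pow_succ, hk, one_mul, pow_one]
    rw [h2, Nat.mul_one] at h1
    exact h1
  rw [← Nat.mod_add_div i 3, ← Nat.mod_add_div j 3, pow_add, pow_add, pow_mul, pow_mul, hk, ht, one_pow, one_pow,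
    mul_one, mul_one]
  have h5 : i % 3 = 0 ∨ i % 3 = 1 ∨ i % 3 = 2 := by omega
  have h6 : j % 3 = 0 ∨ j % 3 = 1 ∨ j % 3 = 2 := by omega
  rcases h5 with a | a | a <;> rcases h6 with b | b | b <;> rw [a, b]
  · exact absurd ⟨Nat.dvd_of_mod_eq_zero a, Nat.dvd_of_mod_eq_zero b⟩ h
  · exact t01
  · exact t02
  · exact t10
  · exact t11
  · exact t12
  · exact t20
  · exact t21
  · exact t22

/-- **the elements `≠ (0, 0)` of `E₀` have two triples** -/
theorem twoT_pow {i j : ℕ} (h : ¬ (3 ∣ i ∧ 3 ∣ j)) : TwoT (MulAut.conj w0) (K ^ i * tri ^ j) :=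
  abs_pow tri_K K_pow tri_pow (TwoT (MulAut.conj w0)) (fun _ h1 h2 => h1.sq h2) tK tT tTK tTKK h

theorem E0_le : E0 ≤ HH := by
  have hK : K ∈ HH := by
    rw [mem_HH, K, MulAut.conj_apply, c0_w0]
  have hT : tri ∈ HH := tri_w0
  rintro _ ⟨i, j, rfl⟩
  exact mul_mem (pow_mem hK _) (pow_mem hT _)

theorem E0_pGroup : IsPGroup 3 E0 := by
  rintro ⟨_, i, j, rfl⟩
  refine ⟨1, Subtype.ext ?_⟩
  show (K ^ i * tri ^ j) ^ (3 ^ 1) = 1
  have h : Commute (K ^ i) (tri ^ j) := (Commute.pow_pow tri_K j i).symm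
  rw [pow_one, h.mul_pow, ← pow_mul, ← pow_mul, mul_comm i, mul_comm j, pow_mul, pow_mul, K_pow, tri_pow, one_pow,
    one_pow, one_mul]

theorem nine_le : 9 ≤ Nat.card E0 := by
  have hinj : Function.Injective (fun p : Fin 3 × Fin 3 => (⟨K ^ p.1.1 * tri ^ p.2.1, p.1.1, p.2.1, rfl⟩ : E0)) := by
    rintro ⟨i, j⟩ ⟨k, l⟩ h
    by_contra hne
    have h1 : K ^ i.1 * tri ^ j.1 = K ^ k.1 * tri ^ l.1 := congrArg Subtype.val h
    have h2 : K ^ (i.1 + 2 * k.1) * tri ^ (j.1 + 2 * l.1) = 1 := by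
      have hc : Commute (K ^ (2 * k.1)) (tri ^ j.1) := (Commute.pow_pow tri_K j.1 (2 * k.1)).symm
      have hc2 : Commute (K ^ (2 * k.1)) (tri ^ l.1) := (Commute.pow_pow tri_K l.1 (2 * k.1)).symm
      calc K ^ (i.1 + 2 * k.1) * tri ^ (j.1 + 2 * l.1) = K ^ i.1 * (K ^ (2 * k.1) * tri ^ j.1) * tri ^ (2 * l.1) := by
            rw [pow_add, pow_add]; group
        _ = K ^ i.1 * tri ^ j.1 * (K ^ (2 * k.1) * tri ^ (2 * l.1)) := by rw [hc.eq]; group
        _ = K ^ k.1 * tri ^ l.1 * (K ^ (2 * k.1) * tri ^ (2 * l.1)) := by rw [h1]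
        _ = K ^ k.1 * (tri ^ l.1 * K ^ (2 * k.1)) * tri ^ (2 * l.1) := by group
        _ = K ^ k.1 * (K ^ (2 * k.1) * tri ^ l.1) * tri ^ (2 * l.1) := by rw [hc2.eq]
        _ = K ^ (3 * k.1) * tri ^ (3 * l.1) := by
            rw [show 3 * k.1 = k.1 + 2 * k.1 by ring, show 3 * l.1 = l.1 + 2 * l.1 by ring, pow_add, pow_add]; group
        _ = 1 := by rw [pow_mul, pow_mul, K_pow, tri_pow, one_pow, one_pow, one_mul]
    have h3 : ¬ (3 ∣ i.1 + 2 * k.1 ∧ 3 ∣ j.1 + 2 * l.1) := by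
      rintro ⟨h4, h5⟩
      apply hne
      have h6 : i = k := Fin.ext (by omega)
      have h7 : j = l := Fin.ext (by omega)
      rw [h6, h7]
    exact (twoT_pow h3).ne_one h2
  have h1 := Nat.card_le_card_of_injective _ hinj
  rwa [Nat.card_prod, Nat.card_fin] at h1

/-- **The involution `w₀` is dead.** -/
theorem dead_w0 : Dead w0 := by
  haveI : Fact (Nat.Prime 3) := ⟨Nat.prime_three⟩
  haveI : Finite (MulAut Om) := inferInstance
  refine dead_of_ok Cfsg.Agent.StdO8.Model.center_Om fun β b3 bne hβ => ?_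
  -- a Sylow 3-subgroup of `C(w₀)`
  have hE : IsPGroup 3 (E0.subgroupOf HH) := E0_pGroup.comap_of_injective HH.subtype HH.subtype_injective
  obtain ⟨P, hP⟩ := hE.exists_le_sylow
  have hP9 : Nat.card (P : Subgroup HH) ≤ 9 := by
    rw [← Subgroup.card_map_of_injective (f := HH.subtype) HH.subtype_injective]
    exact card_le_nine _ (P.2.map _) (Subgroup.map_subtype_le _)
  have hPE : (P : Subgroup HH) = E0.subgroupOf HH := by
    refine (Subgroup.eq_of_le_of_card_ge hP (hP9.trans ?_)).symm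
    rw [Nat.card_congr (Subgroup.subgroupOfEquivOfLe E0_le).toEquiv]
    exact nine_le
  -- `β` lies in a conjugate
  have hZ : IsPGroup 3 (Subgroup.zpowers (⟨β, hβ⟩ : HH)) := by
    rw [IsPGroup.iff_orderOf]
    rintro ⟨x, hx⟩
    obtain ⟨m, rfl⟩ := Subgroup.mem_zpowers_iff.1 hx
    have h3 : (⟨β, hβ⟩ : HH) ^ 3 = 1 := Subtype.ext (by
      show β ^ 3 = 1
      rw [pow_succ, pow_two, b3])
    have h4 : orderOf (⟨(⟨β, hβ⟩ : HH) ^ m, hx⟩ : Subgroup.zpowers (⟨β, hβ⟩ : HH)) ∣ 3 := by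
      apply orderOf_dvd_of_pow_eq_one
      apply Subtype.ext
      show ((⟨β, hβ⟩ : HH) ^ m) ^ 3 = 1
      rw [← zpow_natCast, ← zpow_mul, mul_comm, zpow_mul, zpow_natCast, h3, one_zpow]
    rcases (Nat.dvd_prime Nat.prime_three).1 h4 with h5 | h5
    · exact ⟨0, by rw [h5, pow_zero]⟩
    · exact ⟨1, by rw [h5, pow_one]⟩
  obtain ⟨Q, hQ⟩ := hZ.exists_le_sylow
  obtain ⟨g, hg⟩ := MulAction.exists_smul_eq HH Q P
  have h1 : g * ⟨β, hβ⟩ * g⁻¹ ∈ (P : Subgroup HH) := by
    rw [← hg]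
    exact Subgroup.smul_mem_pointwise_smul _ (MulAut.conj g) _ (hQ (Subgroup.mem_zpowers _))
  rw [hPE] at h1
  obtain ⟨i, j, h2⟩ : ∃ i j : ℕ, (g : MulAut Om) * β * (g : MulAut Om)⁻¹ = K ^ i * tri ^ j := h1
  have h3 : ¬ (3 ∣ i ∧ 3 ∣ j) := by
    rintro ⟨⟨a, rfl⟩, ⟨b, rfl⟩⟩
    rw [pow_mul, pow_mul, K_pow, tri_pow, one_pow, one_pow, one_mul] at h2
    apply bne
    have h4 : β = (g : MulAut Om)⁻¹ * ((g : MulAut Om) * β * (g : MulAut Om)⁻¹) * g := by group
    rw [h4, h2]; group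
  have h4 := twoT_pow h3
  rw [← h2] at h4
  have hg' : (g : MulAut Om)⁻¹ w0 = w0 := (g⁻¹).2
  have h5 := h4.conj hg'
  have h6 : (g : MulAut Om)⁻¹ * ((g : MulAut Om) * β * (g : MulAut Om)⁻¹) * (g : MulAut Om)⁻¹⁻¹ = β := by group
  rw [h6] at h5
  exact h5.ok

end Cfsg.Agent.OddHalf.NI3.Ex4.O8.CFour

end

-- merged: Cfsg.Agent.OddHalf.NI3.Ex4.OEight.CTwo
section

/-!
# (EX4), the row `Ω₈⁺(2)`: the involutions of type `c₂` (helper40, piece (P2) of helper219)

`dead_c2` : an involution `w = X s n`, `q s = 0`, `q n = 1`, is `Dead`.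

An automorphism `β` of order 3 fixing `w` is the conjugation with an isometry `M` of order 3 which fixes `s` and `n`.
For `a + M a + M² a = 0`, `a ≠ 0`, the element `X s a` is a triple. If there is only one such `⟨M⟩`-orbit `a, M a, M² a`,
then there is a second singular vector `s'` fixed by `M` and orthogonal to `s` and `n`, and `X s' a` is a triple.
-/

set_option autoImplicit false
set_option linter.style.haveILetI false

namespace Cfsg.Agent.OddHalf.NI3.Ex4.O8.CTwo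

open Subgroup Cfsg Cfsg.Agent.OddHalf.NI3.ExTri
open Cfsg.Agent.StdO8.Model Cfsg.Agent.StdO8.Aut

theorem two_smul' (v : V) : (2 : ℕ) • v = 0 := by rw [two_nsmul, add_self]

/-- the linear data -/
structure Dat (M : V ≃ₗ[ZMod 2] V) (s n : V) : Prop where
  mem : M ∈ O8
  m3 : ∀ v, M (M (M v)) = v
  ms : M s = s
  mn : M n = n
  qs : q s = 0
  s0 : s ≠ 0
  sn : B s n = 0
  qn : q n = 1

section Lin

variable {M : V ≃ₗ[ZMod 2] V} {s n : V}

/-- fixed vectors are orthogonal to the vectors of trace 0 -/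
theorem perp (hM : M ∈ O8) {x a : V} (hx : M x = x) (ha : a + M a + M (M a) = 0) : B x a = 0 := by
  have h1 : B x (M a) = B x a := by
    have := O8_B hM x a
    rwa [hx] at this
  have h2 : B x (M (M a)) = B x (M a) := by
    have := O8_B hM x (M a)
    rwa [hx] at this
  have h3 : B x (a + M a + M (M a)) = 0 := by rw [ha, B_zero_right]
  rw [B_add_right, B_add_right, h2, h1] at h3
  have : ∀ c : ZMod 2, c + c + c = 0 → c = 0 := by decide
  exact this _ h3

theorem M_ne {a : V} (ha : a + M a + M (M a) = 0) (h0 : a ≠ 0) : M a ≠ a := by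
  intro h1
  rw [h1, h1, add_self, zero_add] at ha
  exact h0 ha

/-- `X s a ≠ 1` -/
theorem X_ne_one {s a : V} (hs : q s = 0) (s0 : s ≠ 0) (hsa : B s a = 0) (h0 : a ≠ 0) (h1 : a ≠ s) : X s a ≠ 1 := by
  intro h
  obtain ⟨v, e1, e2⟩ := exists_B s0 h0 h1.symm 1 0
  have h2 : X s a v = v := by rw [h]; rfl
  rw [X_apply' hs hsa, e1, e2, one_smul, zero_smul, add_zero, mul_one, add_assoc] at h2
  have h3 : a + q a • s = 0 := add_eq_left.1 h2
  rcases z2 (q a) with h4 | h4
  · rw [h4, zero_smul, add_zero] at h3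
    exact h0 h3
  · rw [h4, one_smul] at h3
    exact h1 (eq_of_add_eq_zero h3)

/-- two transformations with different centres fixed by `M` -/
theorem X_ne {s s' a a' : V} (hs : q s = 0) (hs' : q s' = 0) (s0 : s ≠ 0) (s0' : s' ≠ 0) (hne : s' ≠ s)
    (h : B s a' = 0) (h' : B s' a = 0) (ms : M s = s) (ms' : M s' = s') (ma : M a ≠ a) : X s' a ≠ X s a' := by
  intro e
  obtain ⟨v, e1, e2⟩ := exists_B s0' s0 hne 1 0
  have h2 : X s' a v = X s a' v := by rw [e]
  rw [X_apply' hs' h', X_apply' hs h, e1, e2, one_smul, mul_one, mul_zero, zero_smul, zero_smul, add_zero, add_zero]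
    at h2
  have h3 : a = B a' v • s + (B a v • s' + q a • s') := by
    have h4 : v + (a + (B a v • s' + q a • s')) = v + B a' v • s := by rw [← h2]; abel
    have h5 := add_left_cancel h4
    calc a = a + ((B a v • s' + q a • s') + (B a v • s' + q a • s')) := by rw [add_self, add_zero]
      _ = (a + (B a v • s' + q a • s')) + (B a v • s' + q a • s') := by abel
      _ = _ := by rw [h5]
  apply ma
  conv_lhs => rw [h3]
  rw [map_add, map_add, map_smul, map_smul, map_smul, ms, ms', ← h3]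

namespace Dat

variable (D : Dat M s n)

include D

theorem n0 : n ≠ 0 := by
  intro h
  have h1 := D.qn
  rw [h, q_zero] at h1
  exact absurd h1 (by decide)

/-- the trace is fixed -/
theorem fix_tr (v : V) : M (v + M v + M (M v)) = v + M v + M (M v) := by
  rw [map_add, map_add, D.m3]; abel

/-- `v + M v` has trace 0 -/
theorem tr_add (v : V) : (v + M v) + M (v + M v) + M (M (v + M v)) = 0 := by
  have h1 := D.m3 v
  simp only [map_add]
  rw [h1]
  calc v + M v + (M v + M (M v)) + (M (M v) + v) = (v + v) + (M v + M v) + (M (M v) + M (M v)) := by abel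
    _ = 0 := by rw [add_self v, add_self (M v), add_self (M (M v)), zero_add, zero_add]

/-- a second orbit of vectors of trace 0, or a second fixed singular vector -/
theorem second {a : V} (ha : a + M a + M (M a) = 0) (h0 : a ≠ 0) :
    (∃ c, c + M c + M (M c) = 0 ∧ c ≠ 0 ∧ c ≠ a ∧ c ≠ M a ∧ c ≠ M (M a)) ∨
      ∃ s', q s' = 0 ∧ M s' = s' ∧ s' ≠ 0 ∧ s' ≠ s ∧ B s s' = 0 ∧ B n s' = 0 := by
  by_cases hc : ∃ c, c + M c + M (M c) = 0 ∧ c ≠ 0 ∧ c ≠ a ∧ c ≠ M a ∧ c ≠ M (M a)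
  · exact Or.inl hc
  right
  have all : ∀ c, c + M c + M (M c) = 0 → c = 0 ∨ c = a ∨ c = M a ∨ c = M (M a) := by
    intro c h1
    by_contra hcon
    push Not at hcon
    exact hc ⟨c, h1, hcon.1, hcon.2.1, hcon.2.2.1, hcon.2.2.2⟩
  have e2 : M (M a) = a + M a := by
    have h1 : M (M a) + (a + M a) = 0 := by rw [← ha]; abel
    exact eq_of_add_eq_zero h1
  -- `B a (M a) = 1`
  have h1 : B a (M a) = 1 := by
    refine (z2 _).resolve_left fun h2 => h0 (nondeg fun v => ?_)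
    have h3 : B a v = B a (v + (v + M v + M (M v))) + B a (v + M v + M (M v)) := by
      rw [← B_add_right, add_assoc, add_self, add_zero]
    have h4 : B a (v + M v + M (M v)) = 0 := by
      rw [B_comm]
      exact perp D.mem (D.fix_tr v) ha
    have h5 : v + (v + M v + M (M v)) = M v + M (M v) := by
      calc v + (v + M v + M (M v)) = (v + v) + (M v + M (M v)) := by abel
        _ = _ := by rw [add_self, zero_add]
    rw [h3, h4, add_zero, h5]
    rcases all _ (D.tr_add (M v)) with h6 | h6 | h6 | h6 <;> rw [h6]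
    · exact B_zero_right a
    · exact B_self a
    · exact h2
    · rw [e2, B_add_right, B_self, h2, add_zero]
  -- a vector `y`
  obtain ⟨y, hya, hyM, hys, hyn, hy⟩ : ∃ y, B y a = 0 ∧ B y (M a) = 0 ∧ B y s = 0 ∧ B y n = 0 ∧
      y ∉ Submodule.span (ZMod 2) ({s, n} : Set V) := by
    let f : V →ₗ[ZMod 2] (Fin 4 → ZMod 2) :=
      { toFun := fun y => ![B y a, B y (M a), B y s, B y n]
        map_add' := fun y z => by
          funext i
          fin_cases i
          · exact B_add_left _ _ _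
          · exact B_add_left _ _ _
          · exact B_add_left _ _ _
          · exact B_add_left _ _ _
        map_smul' := fun c y => by
          funext i
          fin_cases i
          · exact B_smul_left _ _ _
          · exact B_smul_left _ _ _
          · exact B_smul_left _ _ _
          · exact B_smul_left _ _ _ }
    have h2 := LinearMap.finrank_range_add_finrank_ker f
    have h3 : Module.finrank (ZMod 2) (LinearMap.range f) ≤ 4 := by
      have := Submodule.finrank_le (LinearMap.range f)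
      rwa [Module.finrank_fintype_fun_eq_card, Fintype.card_fin] at this
    rw [finrank_V] at h2
    by_contra hcon
    push Not at hcon
    have h4 : LinearMap.ker f ≤ Submodule.span (ZMod 2) ({s, n} : Set V) := by
      intro y hy
      have h5 : ![B y a, B y (M a), B y s, B y n] = 0 := hy
      exact hcon y (congrFun h5 0) (congrFun h5 1) (congrFun h5 2) (congrFun h5 3)
    have h5 := Submodule.finrank_mono h4
    have h6 : Module.finrank (ZMod 2) (Submodule.span (ZMod 2) ({s, n} : Set V)) ≤ 2 := by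
      classical
      have h7 : ({s, n} : Set V) = (({s, n} : Finset V) : Set V) := by simp
      rw [h7]
      exact (finrank_span_finset_le_card _).trans Finset.card_le_two
    omega
  have y0 : y ≠ 0 := fun h => hy (h ▸ zero_mem _)
  have ys : y ≠ s := fun h => hy (h ▸ Submodule.subset_span (by simp))
  have yn : y ≠ n := fun h => hy (h ▸ Submodule.subset_span (by simp))
  have ysn : y ≠ s + n := fun h => hy (h ▸ add_mem (Submodule.subset_span (by simp)) (Submodule.subset_span (by simp)))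
  -- `M y = y`
  have My : M y = y := by
    have h2 : B (M y) a = 0 := by
      have h3 := O8_B D.mem y (M (M a))
      rw [D.m3] at h3
      rw [h3, e2, B_add_right, hya, hyM, add_zero]
    have h3 : B (M y) (M a) = 0 := by rw [O8_B D.mem]; exact hya
    have h4 : B (y + M y) a = 0 := by rw [B_add_left, hya, h2, add_zero]
    have h5 : B (y + M y) (M a) = 0 := by rw [B_add_left, hyM, h3, add_zero]
    have h6 : y + M y = 0 := by
      rcases all _ (D.tr_add y) with h6 | h6 | h6 | h6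
      · exact h6
      · rw [h6, h1] at h5; exact absurd h5 (by decide)
      · rw [h6, B_comm, h1] at h4; exact absurd h4 (by decide)
      · rw [h6, e2, B_add_left, B_self, B_comm (M a) a, h1] at h4; exact absurd h4 (by decide)
    exact (eq_of_add_eq_zero h6).symm
  rcases z2 (q y) with hq | hq
  · exact ⟨y, hq, My, y0, ys, by rw [B_comm]; exact hys, by rw [B_comm]; exact hyn⟩
  · refine ⟨y + n, ?_, ?_, ?_, ?_, ?_, ?_⟩
    · rw [q_add, hq, D.qn, hyn]; decide
    · rw [map_add, My, D.mn]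
    · intro h; exact yn (eq_of_add_eq_zero h)
    · intro h
      apply ysn
      rw [← h, add_assoc, add_self, add_zero]
    · rw [B_add_right, B_comm s y, hys, D.sn, add_zero]
    · rw [B_add_right, B_comm n y, hyn, B_self, add_zero]

/-- the triples -/
theorem tri {w : Om} (hw : (w : V ≃ₗ[ZMod 2] V) = X s n) {s' a : V} (qs' : q s' = 0) (ms' : M s' = s')
    (s0' : s' ≠ 0) (hss : B s s' = 0) (hns : B n s' = 0) (ha : a + M a + M (M a) = 0) (h0 : a ≠ 0) :
    Tri (MulAut.conj w) (cj ⟨M, D.mem⟩) (⟨X s' a, X_mem s' a⟩ : Om) := by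
  have hsa : B s' a = 0 := perp D.mem ms' ha
  have hMa := M_ne ha h0
  have hca : ∀ c : V, cj ⟨M, D.mem⟩ (⟨X s' c, X_mem s' c⟩ : Om) = ⟨X s' (M c), X_mem s' (M c)⟩ := by
    intro c
    apply Subtype.ext
    rw [cj_coe]
    show M * X s' c * M⁻¹ = X s' (M c)
    rw [X_conj D.mem, ms']
  refine ⟨?_, ?_, ?_, ?_⟩
  · apply Subtype.ext
    show (w : V ≃ₗ[ZMod 2] V) * X s' a * (w : V ≃ₗ[ZMod 2] V)⁻¹ = X s' a
    have h1 : X s n s' = s' := by
      rw [X_apply' D.qs D.sn, hss, hns]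
      simp
    have h2 : X s n a = a := by
      rw [X_apply' D.qs D.sn, perp D.mem D.ms ha, perp D.mem D.mn ha]
      simp
    rw [hw, X_conj (X_mem_O8 s n), h1, h2]
  · exact Subtype.ext (X_mul_self s' a)
  · intro h1
    have h2 : X s' a = 1 := congrArg Subtype.val h1
    refine X_ne_one qs' s0' hsa h0 ?_ h2
    rintro rfl
    exact hMa ms'
  · rw [hca, hca]
    apply Subtype.ext
    show X s' a * X s' (M a) * X s' (M (M a)) = 1
    have h1 : B s' (M a) = 0 := perp D.mem ms' (by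
      have := congrArg M ha
      rw [map_add, map_add, map_zero] at this
      exact this)
    have h2 : B s' (M (M a)) = 0 := perp D.mem ms' (by
      have := congrArg M (congrArg M ha)
      rw [map_add, map_add, map_add, map_add, map_zero, map_zero] at this
      exact this)
    rw [X_mul qs' hsa h1, X_mul qs' (by rw [B_add_right, hsa, h1, add_zero]) h2, ha, X_zero_right]

/-- **Two triples.** -/
theorem ok {w : Om} (hw : (w : V ≃ₗ[ZMod 2] V) = X s n) (hM : ∃ v, M v ≠ v) :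
    Ok (MulAut.conj w) (cj ⟨M, D.mem⟩) := by
  right
  obtain ⟨v, hv⟩ := hM
  have ha := D.tr_add v
  have h0 : v + M v ≠ 0 := fun h => hv (eq_of_add_eq_zero h).symm
  generalize v + M v = a at ha h0
  have hMa := M_ne ha h0
  have hca : ∀ c : V, cj ⟨M, D.mem⟩ (⟨X s c, X_mem s c⟩ : Om) = ⟨X s (M c), X_mem s (M c)⟩ := by
    intro c
    apply Subtype.ext
    rw [cj_coe]
    show M * X s c * M⁻¹ = X s (M c)
    rw [X_conj D.mem, D.ms]
  have hsn : B n s = 0 := by rw [B_comm]; exact D.sn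
  have t1 := D.tri hw D.qs D.ms D.s0 (B_self s) hsn ha h0
  have trM : ∀ {c : V}, c + M c + M (M c) = 0 → M c + M (M c) + M (M (M c)) = 0 := by
    intro c hc
    have := congrArg M hc
    rw [map_add, map_add, map_zero] at this
    exact this
  rcases D.second ha h0 with ⟨c, hc, c0, c1, c2, c3⟩ | ⟨s', q', m', n0', n1', b1, b2⟩
  · have t2 := D.tri hw D.qs D.ms D.s0 (B_self s) hsn hc c0
    have key : ∀ d, d + M d + M (M d) = 0 → c ≠ d → (⟨X s c, X_mem s c⟩ : Om) ≠ ⟨X s d, X_mem s d⟩ := by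
      intro d hd hcd h
      have h1 : X s c = X s d := congrArg Subtype.val h
      have h2 : X s (c + d) = 1 := by
        rw [← X_mul D.qs (perp D.mem D.ms hc) (perp D.mem D.ms hd), h1, X_mul_self]
      have h3 : (c + d) + M (c + d) + M (M (c + d)) = 0 := by
        simp only [map_add]
        calc c + d + (M c + M d) + (M (M c) + M (M d)) = (c + M c + M (M c)) + (d + M d + M (M d)) := by abel
          _ = 0 := by rw [hc, hd, add_zero]
      refine X_ne_one D.qs D.s0 (perp D.mem D.ms h3) (fun h4 => hcd (eq_of_add_eq_zero h4)) ?_ h2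
      intro h4
      have h5 : c + d ≠ 0 := fun h6 => hcd (eq_of_add_eq_zero h6)
      apply M_ne h3 h5
      rw [h4]; exact D.ms
    refine ⟨_, _, t1, t2, key a ha c1, ?_, ?_⟩
    · rw [hca]
      exact key _ (trM ha) c2
    · rw [hca, hca]
      exact key _ (trM (trM ha)) c3
  · have t2 := D.tri hw q' m' n0' b1 b2 ha h0
    have key : ∀ d, d + M d + M (M d) = 0 → (⟨X s' a, X_mem s' a⟩ : Om) ≠ ⟨X s d, X_mem s d⟩ := by
      intro d hd h
      exact X_ne D.qs q' D.s0 n0' n1' (perp D.mem D.ms hd) (perp D.mem m' ha) D.ms m' hMa (congrArg Subtype.val h)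
    refine ⟨_, _, t1, t2, key a ha, ?_, ?_⟩
    · rw [hca]
      exact key _ (trM ha)
    · rw [hca, hca]
      exact key _ (trM (trM ha))

end Dat

/-- an isometry commuting with `X s n` -/
theorem fix_s {M : V ≃ₗ[ZMod 2] V} (hM : M ∈ O8) {s n : V} (qs : q s = 0) (s0 : s ≠ 0) (sn : B s n = 0) (qn : q n = 1)
    (he : X (M s) (M n) = X s n) : M s = s := by
  have hn0 : n ≠ 0 := by
    rintro rfl
    rw [q_zero] at qn
    exact absurd qn (by decide)
  have hsn : s ≠ n := by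
    rintro rfl
    rw [qs] at qn
    exact absurd qn (by decide)
  obtain ⟨v, e1, e2⟩ := exists_B s0 hn0 hsn 0 1
  have h1 : X (M s) (M n) v = X s n v := by rw [he]
  have g1 : q (M s) = 0 := by rw [O8_q hM, qs]
  have g2 : B (M s) (M n) = 0 := by rw [O8_B hM, sn]
  have g3 : q (M n) = 1 := by rw [O8_q hM, qn]
  rw [X_apply' g1 g2, X_apply' qs sn, e1, e2, g3, qn, zero_smul, mul_zero, zero_smul, one_smul, add_zero, add_zero,
    one_mul, add_assoc, add_assoc] at h1
  have h2 := add_left_cancel h1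
  rcases z2 (B (M s) v) with f1 | f1 <;> rcases z2 (B (M n) v) with f2 | f2 <;> rw [f1, f2] at h2
  · exfalso
    rw [zero_smul, zero_smul, add_zero, add_zero] at h2
    exact s0 h2.symm
  · rwa [zero_smul, zero_smul, one_smul, add_zero, zero_add] at h2
  · exfalso
    rw [one_smul, one_smul, zero_smul, zero_add] at h2
    have h4 : q (M n + M s) = 1 := by rw [q_add, g3, g1, B_comm, g2]; decide
    rw [h2, qs] at h4
    exact absurd h4 (by decide)
  · exfalso
    rw [one_smul, one_smul, add_self, add_zero] at h2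
    rw [h2, qs] at g3
    exact absurd g3 (by decide)

theorem fix_n {M : V ≃ₗ[ZMod 2] V} (hM : M ∈ O8) (m3 : ∀ v, M (M (M v)) = v) {s n : V} (qs : q s = 0) (s0 : s ≠ 0)
    (sn : B s n = 0) (qn : q n = 1) (he : X (M s) (M n) = X s n) : M n = n := by
  have ms := fix_s hM qs s0 sn qn he
  have hn0 : n ≠ 0 := by
    rintro rfl
    rw [q_zero] at qn
    exact absurd qn (by decide)
  have hsn : s ≠ n := by
    rintro rfl
    rw [qs] at qn
    exact absurd qn (by decide)
  obtain ⟨v, e1, e2⟩ := exists_B s0 hn0 hsn 1 0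
  rw [ms] at he
  have h1 : X s (M n) v = X s n v := by rw [he]
  have g2 : B s (M n) = 0 := by
    have := O8_B hM s n
    rw [ms] at this
    rw [this, sn]
  have g3 : q (M n) = 1 := by rw [O8_q hM, qn]
  rw [X_apply' qs g2, X_apply' qs sn, e1, e2, g3, qn, one_mul, one_smul, one_smul, one_smul, zero_smul, add_zero]
    at h1
  have h2 : v + (M n + B (M n) v • s) = v + n := by
    have h3 : v + (M n + B (M n) v • s) + s = v + n + s := by rw [← h1]; abel
    exact add_right_cancel h3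
  have h3 := add_left_cancel h2
  rcases z2 (B (M n) v) with f | f
  · rw [f, zero_smul, add_zero] at h3
    exact h3
  · exfalso
    rw [f, one_smul] at h3
    have h4 : M n = n + s := by
      calc M n = M n + (s + s) := by rw [add_self, add_zero]
        _ = (M n + s) + s := by abel
        _ = n + s := by rw [h3]
    have h5 : M (M n) = n := by rw [h4, map_add, h4, ms, add_assoc, add_self, add_zero]
    have h6 := m3 n
    rw [h5, h4] at h6
    exact s0 (add_eq_left.1 h6)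

end Lin

/-- **The involutions of type `c₂` are dead.** -/
theorem dead_c2 (w : Om) (hc : IsC2 (w : V ≃ₗ[ZMod 2] V)) : Dead w := by
  have : Finite Om := inferInstance
  refine dead_of_ok center_Om fun β h3 h1 hw => ?_
  obtain ⟨⟨M, hM⟩, rfl⟩ := mem_range_of_c2 hc (by rw [hw]; exact hc)
  obtain ⟨s, n, qs, s0, sn, qn, hX⟩ := hc
  have m3' : (⟨M, hM⟩ : O8) * ⟨M, hM⟩ * ⟨M, hM⟩ = 1 := by
    apply Cfsg.Agent.StdO8.Frame.Ctx.cj_injective
    rw [map_mul, map_mul, map_one]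
    exact h3
  have m3 : ∀ v, M (M (M v)) = v := by
    intro v
    have h4 := congrArg (fun g : O8 => (g : V ≃ₗ[ZMod 2] V) v) m3'
    exact h4
  have he : X (M s) (M n) = X s n := by
    have h4 := congrArg (Subtype.val : Om → (V ≃ₗ[ZMod 2] V)) hw
    rw [cj_coe, hX] at h4
    rw [← X_conj hM]
    exact h4
  have D : Dat M s n := ⟨hM, m3, fix_s hM qs s0 sn qn he, fix_n hM m3 qs s0 sn qn he, qs, s0, sn, qn⟩
  refine D.ok hX ?_
  by_contra hcon
  push Not at hcon
  apply h1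
  have h4 : (⟨M, hM⟩ : O8) = 1 := Subtype.ext (LinearEquiv.ext hcon)
  rw [h4, map_one]

end Cfsg.Agent.OddHalf.NI3.Ex4.O8.CTwo

namespace Cfsg.Agent.OddHalf.NI3.Ex4.O8

/-- (P2) -/
theorem dead_c2 {w : Cfsg.Agent.StdO8.Model.Om}
    (hc : Cfsg.Agent.StdO8.Aut.IsC2 (w : Cfsg.Agent.StdO8.Model.V ≃ₗ[ZMod 2] Cfsg.Agent.StdO8.Model.V)) : Dead w :=
  CTwo.dead_c2 w hc

end Cfsg.Agent.OddHalf.NI3.Ex4.O8

end

-- merged: Cfsg.Agent.OddHalf.NI3.Ex4.OEight.Root
section

/-!
# (EX4), the row `Ω₈⁺(2)`: the root involutions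

`dead_root` : a root element of `Ω₈⁺(2)` is `Dead`.
-/

set_option autoImplicit false
set_option linter.style.haveILetI false

namespace Cfsg.Agent.OddHalf.NI3.Ex4.O8

open Subgroup Cfsg Cfsg.Agent.OddHalf.NI3.Ex4
open Cfsg.Agent.StdO8.Model Cfsg.Agent.StdO8.Bas Cfsg.Agent.StdO8.Root Cfsg.Agent.StdO8.Aut Cfsg.Agent.StdO8.EvenLin

universe u

/-- a normal 2-subgroup of `C(z)` lies in `O₂(C(z))` -/
theorem le_OO2_of {X : Type u} [Group X] {z : X} {R : Subgroup X} (h1 : ∀ r ∈ R, r * z = z * r)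
    (h2 : IsPGroup 2 ↥R) (h3 : ∀ g, g * z = z * g → ∀ r ∈ R, g * r * g⁻¹ ∈ R) : R ≤ OO2 z := by
  intro r hr
  have hrc : r ∈ centralizer ({z} : Set X) := mem_centralizer_singleton_iff.2 (h1 r hr)
  have hn : (R.subgroupOf (centralizer ({z} : Set X))).Normal := by
    refine ⟨fun n hn g => ?_⟩
    exact h3 g (mem_centralizer_singleton_iff.1 g.2) n hn
  have h4 : IsPGroup 2 ↥(R.subgroupOf (centralizer ({z} : Set X))) :=
    h2.comap_of_injective _ (Subgroup.subtype_injective _)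
  exact ⟨⟨r, hrc⟩, Lib.Cores.le_pCore hn h4 hr, rfl⟩

theorem li_two {u w : V} (h1 : u ≠ 0) (h2 : w ≠ 0) (h3 : u ≠ w) : LinearIndependent (ZMod 2) ![u, w] := by
  rw [Fintype.linearIndependent_iff]
  intro c hc
  rw [Fin.sum_univ_two] at hc
  have hc' : c 0 • u + c 1 • w = 0 := hc
  have h4 : c 0 = 0 ∧ c 1 = 0 := by
    rcases z2 (c 0) with e | e <;> rcases z2 (c 1) with f | f <;> rw [e, f] at hc'
    · exact ⟨e, f⟩
    · rw [zero_smul, one_smul, zero_add] at hc'; exact absurd hc' h2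
    · rw [zero_smul, one_smul, add_zero] at hc'; exact absurd hc' h1
    · rw [one_smul, one_smul] at hc'; exact absurd (eq_of_add_eq_zero hc') h3
  intro i
  fin_cases i
  · exact h4.1
  · exact h4.2

/-- the root elements are conjugate -/
theorem conj_root {c : V ≃ₗ[ZMod 2] V} (hc : IsRoot c) : ∃ M ∈ O8, M * xb 0 1 * M⁻¹ = c := by
  obtain ⟨u, w, h1, h2, h3, h4, h5, h6, rfl⟩ := hc
  obtain ⟨M, hM, h⟩ := exists_isometry (x := ![bv 0, bv 1]) (y := ![u, w])
    (li_two (bv_ne 0) (bv_ne 1) (fun h => by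
      have h7 : B (bv 0) (bv 4) = B (bv 1) (bv 4) := by rw [h]
      rw [B_bv, B_bv] at h7
      exact absurd h7 (by decide))) (li_two h4 h5 h6) (by
      intro i
      fin_cases i
      · exact (q_bv 0).trans h1.symm
      · exact (q_bv 1).trans h2.symm) (by
      intro i j
      fin_cases i <;> fin_cases j
      · exact (B_self _).trans (B_self _).symm
      · exact (B_ok (by decide)).trans h3.symm
      · exact (B_ok (by decide)).trans ((B_comm _ _).trans h3).symm
      · exact (B_self _).trans (B_self _).symm)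
  refine ⟨M, hM, ?_⟩
  have e0 : M (bv 0) = u := h 0
  have e1 : M (bv 1) = w := h 1
  rw [xb_conj hM, e0, e1]

/-- `⟨bv 0, bv 1⟩^⊥` -/
def Perp (v : V) : Prop := B (bv 0) v = 0 ∧ B (bv 1) v = 0

/-- `⟨bv 0, bv 1⟩` -/
def Line (v : V) : Prop := v = 0 ∨ v = bv 0 ∨ v = bv 1 ∨ v = bv 0 + bv 1

theorem Line.perp {v : V} (h : Line v) : Perp v := by
  have h01 : B (bv 0) (bv 1) = 0 := B_ok (by decide)
  have h10 : B (bv 1) (bv 0) = 0 := B_ok (by decide)
  rcases h with rfl | rfl | rfl | rfl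
  · exact ⟨B_zero_right _, B_zero_right _⟩
  · exact ⟨B_self _, h10⟩
  · exact ⟨h01, B_self _⟩
  · exact ⟨by rw [B_add_right, B_self, h01, add_zero], by rw [B_add_right, B_self, h10, add_zero]⟩

theorem Line.add {v w : V} (h : Line v) (h' : Line w) : Line (v + w) := by
  have e : ∀ a b : V, a + b + a = b := fun a b => by rw [add_comm a b, add_assoc, add_self, add_zero]
  rcases h with rfl | rfl | rfl | rfl <;> rcases h' with rfl | rfl | rfl | rfl
  · exact Or.inl (add_zero _)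
  · rw [zero_add]; exact Or.inr (Or.inl rfl)
  · rw [zero_add]; exact Or.inr (Or.inr (Or.inl rfl))
  · rw [zero_add]; exact Or.inr (Or.inr (Or.inr rfl))
  · rw [add_zero]; exact Or.inr (Or.inl rfl)
  · exact Or.inl (add_self _)
  · exact Or.inr (Or.inr (Or.inr rfl))
  · rw [← add_assoc, add_self, zero_add]; exact Or.inr (Or.inr (Or.inl rfl))
  · rw [add_zero]; exact Or.inr (Or.inr (Or.inl rfl))
  · rw [add_comm]; exact Or.inr (Or.inr (Or.inr rfl))
  · exact Or.inl (add_self _)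
  · rw [add_comm (bv 0) (bv 1), ← add_assoc, add_self, zero_add]; exact Or.inr (Or.inl rfl)
  · rw [add_zero]; exact Or.inr (Or.inr (Or.inr rfl))
  · rw [e]; exact Or.inr (Or.inr (Or.inl rfl))
  · rw [add_assoc, add_self, add_zero]; exact Or.inr (Or.inl rfl)
  · exact Or.inl (add_self _)

theorem Perp.add {v w : V} (h : Perp v) (h' : Perp w) : Perp (v + w) :=
  ⟨by rw [B_add_right, h.1, h'.1, add_zero], by rw [B_add_right, h.2, h'.2, add_zero]⟩

theorem b04 : B (bv 0) (bv 4) = 1 := by rw [B_bv]; decide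
theorem b05 : B (bv 0) (bv 5) = 0 := by rw [B_bv]; decide
theorem b14 : B (bv 1) (bv 4) = 0 := by rw [B_bv]; decide
theorem b15 : B (bv 1) (bv 5) = 1 := by rw [B_bv]; decide
theorem b01 : B (bv 0) (bv 1) = 0 := by rw [B_bv]; decide
theorem b10 : B (bv 1) (bv 0) = 0 := by rw [B_bv]; decide
theorem b45 : B (bv 4) (bv 5) = 0 := by rw [B_bv]; decide

theorem perp_sub (y : V) : Perp (y + (B (bv 0) y • bv 4 + B (bv 1) y • bv 5)) := by
  constructor
  · rw [B_add_right, B_add_right, B_smul_right, B_smul_right, b04, b05]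
    generalize B (bv 0) y = a
    generalize B (bv 1) y = b
    revert a b; decide
  · rw [B_add_right, B_add_right, B_smul_right, B_smul_right, b14, b15]
    generalize B (bv 0) y = a
    generalize B (bv 1) y = b
    revert a b; decide

/-- the double perp -/
theorem line_of {v : V} (h : ∀ y, Perp y → B v y = 0) : Line v := by
  have h4 : ∀ y, B (v + (B v (bv 4) • bv 0 + B v (bv 5) • bv 1)) y = 0 := by
    intro y
    have h5 := h _ (perp_sub y)
    rw [B_add_right, B_add_right, B_smul_right, B_smul_right] at h5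
    rw [B_add_left, B_add_left, B_smul_left, B_smul_left]
    revert h5
    generalize B (bv 0) y = a
    generalize B (bv 1) y = b
    generalize B v (bv 4) = c
    generalize B v (bv 5) = d
    generalize B v y = e
    revert a b c d e; decide
  have h6 := eq_of_add_eq_zero (nondeg h4)
  rw [h6]
  rcases z2 (B v (bv 4)) with a | a <;> rcases z2 (B v (bv 5)) with b | b <;> rw [a, b] <;> simp [Line]

/-! ### The unipotent radical of the stabiliser of the line -/

/-- `O₂(C(z))`, `z = xb 0 1` -/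
def RR : Subgroup Om where
  carrier := {g | (∀ v, Line v → (g : V ≃ₗ[ZMod 2] V) v = v) ∧ (∀ v, Perp v → Line ((g : V ≃ₗ[ZMod 2] V) v + v)) ∧
    ∀ v, Perp ((g : V ≃ₗ[ZMod 2] V) v + v)}
  one_mem' := by
    refine ⟨fun v _ => rfl, fun v _ => ?_, fun v => ?_⟩
    · change Line (v + v)
      rw [add_self]; exact Or.inl rfl
    · change Perp (v + v)
      rw [add_self]; exact ⟨B_zero_right _, B_zero_right _⟩
  mul_mem' := by
    rintro a b ⟨a1, a2, a3⟩ ⟨b1, b2, b3⟩
    have e : ∀ v, (a : V ≃ₗ[ZMod 2] V) ((b : V ≃ₗ[ZMod 2] V) v) + v =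
        ((a : V ≃ₗ[ZMod 2] V) ((b : V ≃ₗ[ZMod 2] V) v) + (b : V ≃ₗ[ZMod 2] V) v) + ((b : V ≃ₗ[ZMod 2] V) v + v) := by
      intro v
      rw [add_assoc, ← add_assoc ((b : V ≃ₗ[ZMod 2] V) v), add_self, zero_add]
    refine ⟨fun v hv => ?_, fun v hv => ?_, fun v => ?_⟩
    · change (a : V ≃ₗ[ZMod 2] V) ((b : V ≃ₗ[ZMod 2] V) v) = v
      rw [b1 v hv, a1 v hv]
    · change Line ((a : V ≃ₗ[ZMod 2] V) ((b : V ≃ₗ[ZMod 2] V) v) + v)
      rw [e]
      have h1 : Perp ((b : V ≃ₗ[ZMod 2] V) v) := by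
        have h2 := (b2 v hv).perp.add hv
        rwa [add_assoc, add_self, add_zero] at h2
      exact (a2 _ h1).add (b2 v hv)
    · change Perp ((a : V ≃ₗ[ZMod 2] V) ((b : V ≃ₗ[ZMod 2] V) v) + v)
      rw [e]
      exact (a3 _).add (b3 v)
  inv_mem' := by
    rintro a ⟨a1, a2, a3⟩
    have e : ∀ v, (a : V ≃ₗ[ZMod 2] V) ((a : V ≃ₗ[ZMod 2] V)⁻¹ v) = v := fun v => by
      rw [← LinearEquiv.mul_apply, mul_inv_cancel]; rfl
    have e1 : ∀ v, Line v → (a : V ≃ₗ[ZMod 2] V)⁻¹ v = v := by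
      intro v hv
      apply (a : V ≃ₗ[ZMod 2] V).injective
      rw [e, a1 v hv]
    have e2 : ∀ v, Perp v → (a : V ≃ₗ[ZMod 2] V)⁻¹ v = v + ((a : V ≃ₗ[ZMod 2] V) v + v) := by
      intro v hv
      apply (a : V ≃ₗ[ZMod 2] V).injective
      rw [e, map_add, a1 _ (a2 v hv), ← add_assoc, add_self, zero_add]
    refine ⟨e1, fun v hv => ?_, fun v => ?_⟩
    · change Line ((a : V ≃ₗ[ZMod 2] V)⁻¹ v + v)
      rw [e2 v hv, add_comm v, add_assoc, add_self, add_zero]
      exact a2 v hv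
    · change Perp ((a : V ≃ₗ[ZMod 2] V)⁻¹ v + v)
      have h1 := a3 ((a : V ≃ₗ[ZMod 2] V)⁻¹ v)
      rw [e, add_comm] at h1
      exact h1

theorem mem_RR {g : Om} : g ∈ RR ↔ (∀ v, Line v → (g : V ≃ₗ[ZMod 2] V) v = v) ∧
    (∀ v, Perp v → Line ((g : V ≃ₗ[ZMod 2] V) v + v)) ∧ ∀ v, Perp ((g : V ≃ₗ[ZMod 2] V) v + v) := Iff.rfl

theorem RR_two : IsPGroup 2 ↥RR := by
  rintro ⟨g, hg⟩
  refine ⟨2, Subtype.ext (Subtype.ext ?_)⟩
  obtain ⟨h1, h2, h3⟩ := mem_RR.1 hg
  have e : ((((⟨g, hg⟩ : ↥RR) ^ 2 ^ 2 : ↥RR) : Om) : V ≃ₗ[ZMod 2] V) =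
      ((g : V ≃ₗ[ZMod 2] V) * g) * (g * g) := by
    have e1 : (⟨g, hg⟩ : ↥RR) ^ 2 ^ 2 = (⟨g, hg⟩ * ⟨g, hg⟩) * (⟨g, hg⟩ * ⟨g, hg⟩) := by
      rw [show (2 : ℕ) ^ 2 = 4 by norm_num, pow_succ, pow_succ, pow_succ, pow_one]
      group
    rw [e1]; rfl
  rw [e]
  -- `g² v = v + n₂`
  have key : ∀ v, ∃ n, Line n ∧ (g : V ≃ₗ[ZMod 2] V) ((g : V ≃ₗ[ZMod 2] V) v) = v + n := by
    intro v
    refine ⟨_, h2 _ (h3 v), ?_⟩
    have e2 : (g : V ≃ₗ[ZMod 2] V) v = v + ((g : V ≃ₗ[ZMod 2] V) v + v) := by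
      rw [add_comm _ v, ← add_assoc, add_self, zero_add]
    have e3 : (g : V ≃ₗ[ZMod 2] V) ((g : V ≃ₗ[ZMod 2] V) v) =
        (g : V ≃ₗ[ZMod 2] V) v + (g : V ≃ₗ[ZMod 2] V) ((g : V ≃ₗ[ZMod 2] V) v + v) := by
      conv_lhs => rw [e2]
      rw [map_add]
    rw [e3]
    generalize (g : V ≃ₗ[ZMod 2] V) ((g : V ≃ₗ[ZMod 2] V) v + v) = m
    generalize (g : V ≃ₗ[ZMod 2] V) v = k
    have e4 : v + (m + (k + v)) = (v + v) + (k + m) := by abel
    rw [e4, add_self, zero_add]
  refine LinearEquiv.ext fun v => ?_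
  change (g : V ≃ₗ[ZMod 2] V) ((g : V ≃ₗ[ZMod 2] V) ((g : V ≃ₗ[ZMod 2] V) ((g : V ≃ₗ[ZMod 2] V) v))) = v
  obtain ⟨n, hn, e2⟩ := key v
  rw [e2, map_add, map_add, e2, h1 n hn, h1 n hn, add_assoc, add_self, add_zero]

/-- the standard root element -/
noncomputable def zc : Om := ⟨xb 0 1, xb_mem 0 1⟩

theorem zc_ne : zc ≠ 1 := fun h => xb_ne (i := 0) (j := 1) (by decide) (congrArg Subtype.val h)

theorem zc_sq : zc * zc = 1 := Subtype.ext (xb_sq 0 1)

theorem line_iff {g : V ≃ₗ[ZMod 2] V} (hg : g ∈ O8) (h : g * xb 0 1 = xb 0 1 * g) {v : V} (hv : Line v) :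
    Line (g v) := by
  have h1 := mem_of_commute hg (q_bv 0) (q_bv 1) b01 (bv_ne 0) (bv_ne 1) (fun h => by
    have h7 : B (bv 0) (bv 4) = B (bv 1) (bv 4) := by rw [h]
    rw [b04, b14] at h7
    exact absurd h7 (by decide)) h
  have h2 : Line (g (bv 0)) := by
    rcases h1.1 with e | e | e <;> rw [e]
    · exact Or.inr (Or.inl rfl)
    · exact Or.inr (Or.inr (Or.inl rfl))
    · exact Or.inr (Or.inr (Or.inr rfl))
  have h3 : Line (g (bv 1)) := by
    rcases h1.2 with e | e | e <;> rw [e]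
    · exact Or.inr (Or.inl rfl)
    · exact Or.inr (Or.inr (Or.inl rfl))
    · exact Or.inr (Or.inr (Or.inr rfl))
  rcases hv with rfl | rfl | rfl | rfl
  · rw [map_zero]; exact Or.inl rfl
  · exact h2
  · exact h3
  · rw [map_add]; exact h2.add h3

theorem inv_comm {g : V ≃ₗ[ZMod 2] V} (h : g * xb 0 1 = xb 0 1 * g) : g⁻¹ * xb 0 1 = xb 0 1 * g⁻¹ := by
  calc g⁻¹ * xb 0 1 = g⁻¹ * (xb 0 1 * g) * g⁻¹ := by group
    _ = g⁻¹ * (g * xb 0 1) * g⁻¹ := by rw [h]
    _ = xb 0 1 * g⁻¹ := by group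

theorem perp_iff {g : V ≃ₗ[ZMod 2] V} (hg : g ∈ O8) (h : g * xb 0 1 = xb 0 1 * g) {v : V} (hv : Perp v) :
    Perp (g v) := by
  have hg' : g⁻¹ ∈ O8 := inv_mem hg
  have key : ∀ u, Line u → B u (g v) = 0 := by
    intro u hu
    have h1 := line_iff hg' (inv_comm h) hu
    have h2 : B u (g v) = B (g⁻¹ u) v := by
      have h3 := O8_B hg (g⁻¹ u) v
      have h4 : g (g⁻¹ u) = u := by rw [← LinearEquiv.mul_apply, mul_inv_cancel]; rfl
      rw [h4] at h3
      exact h3
    rw [h2]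
    generalize g⁻¹ u = u' at h1
    rcases h1 with rfl | rfl | rfl | rfl
    · exact B_zero_left _
    · exact hv.1
    · exact hv.2
    · rw [B_add_left, hv.1, hv.2, add_zero]
  exact ⟨key _ (Or.inr (Or.inl rfl)), key _ (Or.inr (Or.inr (Or.inl rfl)))⟩

theorem RR_comm {g : Om} (hg : g ∈ RR) : g * zc = zc * g := by
  apply Subtype.ext
  have h1 := (mem_RR.1 hg).1
  have h2 := xb_conj (Om_le g.2) 0 1
  rw [h1 _ (Or.inr (Or.inl rfl)), h1 _ (Or.inr (Or.inr (Or.inl rfl)))] at h2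
  exact mul_inv_eq_iff_eq_mul.1 h2

theorem RR_conj {h : Om} (hh : h * zc = zc * h) {g : Om} (hg : g ∈ RR) : h * g * h⁻¹ ∈ RR := by
  have hc : (h : V ≃ₗ[ZMod 2] V) * xb 0 1 = xb 0 1 * h := congrArg Subtype.val hh
  have hO := Om_le h.2
  have hO' : (h : V ≃ₗ[ZMod 2] V)⁻¹ ∈ O8 := inv_mem hO
  obtain ⟨g1, g2, g3⟩ := mem_RR.1 hg
  have e0 : ∀ v, (h : V ≃ₗ[ZMod 2] V) ((h : V ≃ₗ[ZMod 2] V)⁻¹ v) = v := fun v => by
    rw [← LinearEquiv.mul_apply, mul_inv_cancel]; rfl
  have e : ∀ v, ((h * g * h⁻¹ : Om) : V ≃ₗ[ZMod 2] V) v =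
      (h : V ≃ₗ[ZMod 2] V) ((g : V ≃ₗ[ZMod 2] V) ((h : V ≃ₗ[ZMod 2] V)⁻¹ v)) := fun v => rfl
  have e' : ∀ v, ((h * g * h⁻¹ : Om) : V ≃ₗ[ZMod 2] V) v + v =
      (h : V ≃ₗ[ZMod 2] V) ((g : V ≃ₗ[ZMod 2] V) ((h : V ≃ₗ[ZMod 2] V)⁻¹ v) + (h : V ≃ₗ[ZMod 2] V)⁻¹ v) := by
    intro v
    rw [e, map_add, e0]
  refine mem_RR.2 ⟨fun v hv => ?_, fun v hv => ?_, fun v => ?_⟩
  · rw [e, g1 _ (line_iff hO' (inv_comm hc) hv), e0]
  · rw [e']
    exact line_iff hO hc (g2 _ (perp_iff hO' (inv_comm hc) hv))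
  · rw [e']
    exact perp_iff hO hc (g3 _)

theorem RR_le : RR ≤ OO2 zc :=
  le_OO2_of (fun _ hr => RR_comm hr) RR_two (fun _ hg _ hr => RR_conj hg hr)

/-- the Siegel transformations of `O₂(C(z))` -/
theorem X_mem_RR {a y : V} (ha : a = bv 0 ∨ a = bv 1) (hy : Perp y) : (⟨X a y, X_mem a y⟩ : Om) ∈ RR := by
  have hq : q a = 0 := by rcases ha with rfl | rfl <;> exact q_bv _
  have hB : B a y = 0 := by rcases ha with rfl | rfl; exacts [hy.1, hy.2]
  have hL : Line a := by rcases ha with rfl | rfl; exacts [Or.inr (Or.inl rfl), Or.inr (Or.inr (Or.inl rfl))]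
  have hBa : ∀ v, Perp v → B a v = 0 := by
    intro v hv
    rcases ha with rfl | rfl; exacts [hv.1, hv.2]
  have hyL : ∀ v, Line v → B y v = 0 := by
    intro v hv
    rw [B_comm]
    rcases hv with rfl | rfl | rfl | rfl
    · exact B_zero_left _
    · exact hy.1
    · exact hy.2
    · rw [B_add_left, hy.1, hy.2, add_zero]
  have hsm : ∀ c : ZMod 2, Line (c • a) := by
    intro c
    rcases z2 c with h | h
    · rw [h, zero_smul]; exact Or.inl rfl
    · rw [h, one_smul]; exact hL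
  have e : ∀ v, X a y v + v = B a v • y + (B y v • a + (q y * B a v) • a) := by
    intro v
    rw [X_apply' hq hB]
    generalize B a v • y = s
    generalize B y v • a = t
    generalize (q y * B a v) • a = r
    have : v + s + t + r + v = (v + v) + (s + (t + r)) := by abel
    rw [this, add_self, zero_add]
  refine mem_RR.2 ⟨fun v hv => ?_, fun v hv => ?_, fun v => ?_⟩
  · change X a y v = v
    rw [X_apply' hq hB, hBa v hv.perp, hyL v hv]
    simp
  · change Line (X a y v + v)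
    rw [e, hBa v hv, zero_smul, zero_add, mul_zero, zero_smul, add_zero]
    exact hsm _
  · change Perp (X a y v + v)
    rw [e]
    refine Perp.add ?_ (Perp.add (hsm _).perp (hsm _).perp)
    rcases z2 (B a v) with h | h
    · rw [h, zero_smul]; exact ⟨B_zero_right _, B_zero_right _⟩
    · rw [h, one_smul]; exact hy

/-! ### The centralizer of `RR` -/

theorem eq_of_X {u w w' : V} (hu : q u = 0) (hw : B u w = 0) (hw' : B u w' = 0) (hu0 : u ≠ 0)
    (h : X u w = X u w') : w' = w ∨ w' = w + u := by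
  have h1 : X u (w + w') = 1 := by
    rw [← X_mul hu hw hw', ← h, X_mul_self]
  obtain ⟨v, hv⟩ := exists_one hu0
  have hB : B u (w + w') = 0 := by rw [B_add_right, hw, hw', add_zero]
  have h2 : X u (w + w') v = v := by rw [h1]; rfl
  rw [X_apply' hu hB, hv, one_smul, mul_one] at h2
  have h3 : (w + w') + (B (w + w') v • u + q (w + w') • u) = 0 := by
    have h4 : v + ((w + w') + (B (w + w') v • u + q (w + w') • u)) = v := by
      rw [← add_assoc, ← add_assoc]; exact h2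
    exact left_eq_add.1 h4.symm
  rw [← add_smul] at h3
  have h5 := eq_of_add_eq_zero h3
  rcases z2 (B (w + w') v + q (w + w')) with h6 | h6
  · rw [h6, zero_smul] at h5
    exact Or.inl (eq_of_add_eq_zero h5).symm
  · rw [h6, one_smul] at h5
    right
    rw [← h5, ← add_assoc, add_self, zero_add]

theorem cent_RR {g : Om} (h : ∀ r ∈ RR, g * r = r * g) : g = 1 ∨ g = zc := by
  have hg := Om_le g.2
  have hX : ∀ a y : V, (a = bv 0 ∨ a = bv 1) → Perp y →
      (g : V ≃ₗ[ZMod 2] V) * X a y = X a y * g := fun a y ha hy => congrArg Subtype.val (h _ (X_mem_RR ha hy))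
  have p2 : Perp (bv 2) := ⟨by rw [B_bv]; decide, by rw [B_bv]; decide⟩
  have p3 : Perp (bv 3) := ⟨by rw [B_bv]; decide, by rw [B_bv]; decide⟩
  have key : ∀ a : V, (a = bv 0 ∨ a = bv 1) → (g : V ≃ₗ[ZMod 2] V) a = a := by
    intro a ha
    have hq : q a = 0 := by rcases ha with rfl | rfl <;> exact q_bv _
    have ha0 : a ≠ 0 := by rcases ha with rfl | rfl <;> exact bv_ne _
    have h6 : B a (bv 6) = 0 := by rcases ha with rfl | rfl <;> · rw [B_bv]; decide
    have b26 : B (bv 2) (bv 6) = 1 := by rw [B_bv]; decide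
    have b36 : B (bv 3) (bv 6) = 0 := by rw [B_bv]; decide
    have hne2 : a ≠ bv 2 := fun e => by rw [e, b26] at h6; exact absurd h6 (by decide)
    have h7 : B a (bv 7) = 0 := by rcases ha with rfl | rfl <;> · rw [B_bv]; decide
    have b37 : B (bv 3) (bv 7) = 1 := by rw [B_bv]; decide
    have hne3 : a ≠ bv 3 := fun e => by rw [e, b37] at h7; exact absurd h7 (by decide)
    have B2 : B a (bv 2) = 0 := by rcases ha with rfl | rfl <;> · rw [B_bv]; decide
    have B3 : B a (bv 3) = 0 := by rcases ha with rfl | rfl <;> · rw [B_bv]; decide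
    have h1 := (mem_of_commute hg hq (q_bv 2) B2 ha0 (bv_ne 2) hne2 (hX a _ ha p2)).1
    have h2 := (mem_of_commute hg hq (q_bv 3) B3 ha0 (bv_ne 3) hne3 (hX a _ ha p3)).1
    have h3 : B ((g : V ≃ₗ[ZMod 2] V) a) (bv 6) = 0 := by
      rcases h2 with e | e | e <;> rw [e]
      · exact h6
      · exact b36
      · rw [B_add_left, h6, b36, add_zero]
    rcases h1 with e | e | e
    · exact e
    · rw [e, b26] at h3; exact absurd h3 (by decide)
    · rw [e, B_add_left, h6, b26, zero_add] at h3; exact absurd h3 (by decide)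
  have k0 := key (bv 0) (Or.inl rfl)
  have k1 := key (bv 1) (Or.inr rfl)
  have hy : ∀ y, Perp y → (g : V ≃ₗ[ZMod 2] V) y = y := by
    intro y hy
    have e0 : (g : V ≃ₗ[ZMod 2] V) y = y ∨ (g : V ≃ₗ[ZMod 2] V) y = y + bv 0 := by
      refine eq_of_X (q_bv 0) hy.1 ?_ (bv_ne 0) ?_
      · have := O8_B hg (bv 0) y
        rw [k0] at this
        rw [this]; exact hy.1
      · have := X_conj hg (bv 0) y
        rw [k0, hX _ _ (Or.inl rfl) hy, mul_inv_cancel_right] at this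
        exact this
    have e1 : (g : V ≃ₗ[ZMod 2] V) y = y ∨ (g : V ≃ₗ[ZMod 2] V) y = y + bv 1 := by
      refine eq_of_X (q_bv 1) hy.2 ?_ (bv_ne 1) ?_
      · have := O8_B hg (bv 1) y
        rw [k1] at this
        rw [this]; exact hy.2
      · have := X_conj hg (bv 1) y
        rw [k1, hX _ _ (Or.inr rfl) hy, mul_inv_cancel_right] at this
        exact this
    rcases e0 with e0 | e0
    · exact e0
    · rcases e1 with e1 | e1
      · exact e1
      · exfalso
        have h1 : bv 0 = bv 1 := add_left_cancel (e0.symm.trans e1)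
        have h2 : B (bv 0) (bv 4) = B (bv 1) (bv 4) := by rw [h1]
        rw [b04, b14] at h2
        exact absurd h2 (by decide)
  have hL : ∀ v, Line ((g : V ≃ₗ[ZMod 2] V) v + v) := by
    intro v
    apply line_of
    intro y hy'
    have h1 := O8_B hg v y
    rw [hy y hy'] at h1
    rw [B_add_left, h1, z2_add_self]
  -- the images of `bv 4`, `bv 5`
  have h4 := hL (bv 4)
  have h5 := hL (bv 5)
  have q4 : q ((g : V ≃ₗ[ZMod 2] V) (bv 4)) = 0 := by rw [O8_q hg, q_bv]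
  have q5 : q ((g : V ≃ₗ[ZMod 2] V) (bv 5)) = 0 := by rw [O8_q hg, q_bv]
  have b : B ((g : V ≃ₗ[ZMod 2] V) (bv 4)) ((g : V ≃ₗ[ZMod 2] V) (bv 5)) = 0 := by rw [O8_B hg, b45]
  have r4 : (g : V ≃ₗ[ZMod 2] V) (bv 4) = bv 4 + ((g : V ≃ₗ[ZMod 2] V) (bv 4) + bv 4) := by
    rw [add_comm _ (bv 4), ← add_assoc, add_self, zero_add]
  have r5 : (g : V ≃ₗ[ZMod 2] V) (bv 5) = bv 5 + ((g : V ≃ₗ[ZMod 2] V) (bv 5) + bv 5) := by
    rw [add_comm _ (bv 5), ← add_assoc, add_self, zero_add]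
  have b40 : B (bv 4) (bv 0) = 1 := by rw [B_comm]; exact b04
  have b41 : B (bv 4) (bv 1) = 0 := by rw [B_comm]; exact b14
  have b50 : B (bv 5) (bv 0) = 0 := by rw [B_comm]; exact b05
  have b51 : B (bv 5) (bv 1) = 1 := by rw [B_comm]; exact b15
  have c4 : (g : V ≃ₗ[ZMod 2] V) (bv 4) = bv 4 ∨ (g : V ≃ₗ[ZMod 2] V) (bv 4) = bv 4 + bv 1 := by
    rcases h4 with e | e | e | e <;> rw [e] at r4
    · left; rwa [add_zero] at r4
    · exfalso
      rw [r4, q_add, q_bv, q_bv, b40] at q4; exact absurd q4 (by decide)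
    · right; exact r4
    · exfalso
      rw [r4, q_add, q_add, q_bv, q_bv, q_bv, B_add_right, b40, b41, b01] at q4; exact absurd q4 (by decide)
  have c5 : (g : V ≃ₗ[ZMod 2] V) (bv 5) = bv 5 ∨ (g : V ≃ₗ[ZMod 2] V) (bv 5) = bv 5 + bv 0 := by
    rcases h5 with e | e | e | e <;> rw [e] at r5
    · left; rwa [add_zero] at r5
    · right; exact r5
    · exfalso
      rw [r5, q_add, q_bv, q_bv, b51] at q5; exact absurd q5 (by decide)
    · exfalso
      rw [r5, q_add, q_add, q_bv, q_bv, q_bv, B_add_right, b50, b51, b01] at q5; exact absurd q5 (by decide)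
  -- `v = y + α bv 4 + β bv 5`
  have hdec : ∀ v : V, v = (v + (B (bv 0) v • bv 4 + B (bv 1) v • bv 5)) + (B (bv 0) v • bv 4 + B (bv 1) v • bv 5) := by
    intro v
    rw [add_assoc, add_self, add_zero]
  have hgv : ∀ v : V, (g : V ≃ₗ[ZMod 2] V) v = (v + (B (bv 0) v • bv 4 + B (bv 1) v • bv 5)) +
      (B (bv 0) v • (g : V ≃ₗ[ZMod 2] V) (bv 4) + B (bv 1) v • (g : V ≃ₗ[ZMod 2] V) (bv 5)) := by
    intro v
    conv_lhs => rw [hdec v]
    rw [map_add, hy _ (perp_sub v), map_add, map_smul, map_smul]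
  rcases c4 with c4 | c4 <;> rcases c5 with c5 | c5
  · left
    apply Subtype.ext
    refine LinearEquiv.ext fun v => ?_
    rw [hgv, c4, c5, ← hdec]
    rfl
  · exfalso
    rw [c4, c5, B_add_right, b45, b40] at b
    exact absurd b (by decide)
  · exfalso
    rw [c4, c5, B_add_left, b45, b15] at b
    exact absurd b (by decide)
  · right
    apply Subtype.ext
    refine LinearEquiv.ext fun v => ?_
    rw [hgv, c4, c5]
    change _ = X (bv 0) (bv 1) v
    rw [X_apply (q_bv 0) (q_bv 1) b01, smul_add, smul_add]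
    generalize B (bv 0) v • bv 4 = s
    generalize B (bv 1) v • bv 5 = t
    generalize B (bv 0) v • bv 1 = k
    generalize B (bv 1) v • bv 0 = l
    have e : v + (s + t) + (s + k + (t + l)) = v + k + l + ((s + s) + (t + t)) := by abel
    rw [e, add_self, add_self, add_zero, add_zero]

/-- **The root elements are dead.** -/
theorem dead_root {w : Om} (hw : IsRoot (w : V ≃ₗ[ZMod 2] V)) : Dead w := by
  have hfin : Finite Om := inferInstance
  -- the standard root element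
  have hz : Dead zc := by
    intro β A C
    have hcon : ∀ h : Om, h * zc = zc * h → (∀ q ∈ OO2 zc, h * q = q * h) → h ∈ OO2 zc := by
      intro h _ hc
      have h1 := cent_RR (g := h) fun r hr => hc r (RR_le hr)
      rcases h1 with rfl | rfl
      · exact one_mem _
      · apply RR_le
        exact X_mem_RR (Or.inl rfl) (Line.perp (Or.inr (Or.inr (Or.inl rfl))))
    obtain ⟨h1, h2⟩ := C.central center_Om hcon
    have h3 : (A : Set Om) ⊆ {1, zc} := by
      intro a ha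
      exact cent_RR (g := a) fun r hr => h2 a ha r (RR_le hr)
    have h4 : (A : Set Om).ncard ≤ ({1, zc} : Set Om).ncard := Set.ncard_le_ncard h3 (Set.toFinite _)
    have h5 : ({1, zc} : Set Om).ncard ≤ 2 := Set.ncard_insert_le _ _ |>.trans (by simp)
    have h6 : (A : Set Om).ncard = 4 := by
      change Nat.card A = 4
      exact C.A4
    omega
  obtain ⟨M, hM, h⟩ := conj_root hw
  have h1 := hz.map (cj ⟨M, hM⟩ : Om ≃* Om)
  have h2 : cj ⟨M, hM⟩ zc = w := by
    apply Subtype.ext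
    rw [cj_coe]
    exact h
  rwa [h2] at h1

end Cfsg.Agent.OddHalf.NI3.Ex4.O8

end

-- merged: Cfsg.Agent.OddHalf.NI3.Ex4.OEight.Row
section

/-!
# (EX4), the row `Ω₈⁺(2)`

`row_of` : the row from the three pieces `Pieces`.
-/

set_option autoImplicit false
set_option linter.style.haveILetI false

namespace Cfsg.Agent.OddHalf.NI3.Ex4.O8

open Subgroup Cfsg Cfsg.Agent.OddHalf.NI3.Ex4 Cfsg.Agent.OddHalf.D9.Cut
open Cfsg.Agent.StdO8.Model Cfsg.Agent.StdO8.Root Cfsg.Agent.StdO8.Aut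

universe u

/-- the other pieces of the row -/
structure Pieces : Prop where
  c2 : ∀ w : Om, IsC2 (w : V ≃ₗ[ZMod 2] V) → Dead w
  c4 : Dead w0
  cls : ∀ w : Om, w * w = 1 → w ≠ 1 → ∃ α : MulAut Om, IsRoot ((α w : Om) : V ≃ₗ[ZMod 2] V) ∨
    IsC2 ((α w : Om) : V ≃ₗ[ZMod 2] V) ∨ α w = w0

theorem dead (P : Pieces) {w : Om} (hw : w * w = 1) (hw1 : w ≠ 1) : Dead w := by
  obtain ⟨α, h⟩ := P.cls w hw hw1
  have h1 : Dead (α w) := by
    rcases h with h | h | h
    · exact dead_root h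
    · exact P.c2 _ h
    · rw [h]; exact P.c4
  have h2 := h1.map (α.symm : Om ≃* Om)
  rwa [MulEquiv.symm_apply_apply] at h2

/-- **The row `Ω₈⁺(2)`.** -/
theorem row_of (P : Pieces) {X : Type u} [Group X] (h : XO82 X) : Row4 X := by
  obtain ⟨F, hF, hF', hc, ⟨e⟩⟩ := h
  obtain ⟨e'⟩ := exists_equiv (F := F) hc
  have f : X ≃* Om := e.trans e'
  apply row4_of_dead
  intro w hw hw1
  have h1 : Dead (f w) := dead P (by rw [← map_mul, hw, map_one]) (fun h => hw1 (f.injective (by rw [h, map_one])))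
  have h2 := h1.map f.symm
  rwa [MulEquiv.symm_apply_apply] at h2

end Cfsg.Agent.OddHalf.NI3.Ex4.O8

end

-- merged: Cfsg.Agent.OddHalf.NI3.Ex4.RowsAll
section

/-!
# (EX4) of THEOREM NIB: all rows

`rows4_of : O8.Pieces → Rows4`.
-/

set_option autoImplicit false

namespace Cfsg.Agent.OddHalf.NI3.Ex4

universe u

/-- **All rows of (EX4)**, from the pieces of the row `Ω₈⁺(2)`. -/
theorem rows4_of (P : O8.Pieces) : Rows4.{u} := rows4 ⟨fun _ _ _ _ h => O8.row_of P h⟩

end Cfsg.Agent.OddHalf.NI3.Ex4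

end

-- merged: Cfsg.Agent.OddHalf.NI3.Ex4.RowsFinal
section

/-!
# (EX4) of THEOREM NIB: the rows, without hypotheses

`row_o82` : the row `Ω₈⁺(2)`; `rows4All : Rows4`.
-/

set_option autoImplicit false

namespace Cfsg.Agent.OddHalf.NI3.Ex4

universe u

theorem o8Pieces : O8.Pieces where
  c2 := fun _ h => O8.dead_c2 h
  c4 := O8.CFour.dead_w0
  cls := fun w h1 h2 => OEClass.main w h1 h2

/-- **The row `Ω₈⁺(2)`.** -/
theorem row_o82 {X : Type u} [Group X] (h : D9.Cut.XO82 X) : Row4 X := O8.row_of o8Pieces h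

/-- **All rows of (EX4).** -/
theorem rows4All : Rows4.{u} := rows4_of o8Pieces

end Cfsg.Agent.OddHalf.NI3.Ex4

end
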